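import Groth.Agent.H81.Cone.PolyGr
import Mathlib.AlgebraicGeometry.ProjectiveSpectrum.Basic

/-!
# `A[z]_(z) = A`, and the points of the cone inside `Proj A[z]`
-/

set_option autoImplicit false
universe u

open TopologicalSpace AlgebraicGeometry HomogeneousLocalization CategoryTheory
open scoped HomogeneousIdeal

namespace Groth.Agent.H81.Cone.AwayDehom

open Polynomial

noncomputable section

variable {A σ : Type u} [CommRing A] [SetLike σ A] [AddSubgroupClass σ A] {𝒜 : ℕ → σ} [GradedRing 𝒜]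
  {B σ' : Type u} [CommRing B] [SetLike σ' B] [AddSubgroupClass σ' B] {ℬ : ℕ → σ'} [GradedRing ℬ]
  (ι : 𝒜 →+*ᵍ ℬ) (z : B) (hz : z ∈ ℬ 1) (hbij : Function.Bijective (eval₂RingHom (ι.toRingHom : A →+* B) z))
  (θ : Away ℬ z →+* A)
  (hθ : ∀ (q : Away ℬ z) (k : ℕ) (a : A), a ∈ 𝒜 k →
    q.val = Localization.mk (ι a) ⟨z ^ k, pow_mem (Submonoid.mem_powers z) k⟩ → θ q = a)

/-- The fraction `ι a / z ^ k`. -/
def frac {k : ℕ} {a : A} (ha : a ∈ 𝒜 k) : Away ℬ z :=
  Away.mk ℬ hz k (ι a) (by simpa using ι.map_mem ha)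

include hθ in
theorem θ_frac {k : ℕ} {a : A} (ha : a ∈ 𝒜 k) : θ (frac ι z hz ha) = a :=
  hθ _ k a ha (Away.val_mk ℬ k hz (ι a) (by simpa using ι.map_mem ha))

include hbij hθ hz in
theorem θ_eq (q : Away ℬ z) {k : ℕ} {b : B} (hb : b ∈ ℬ k)
    (hq : q.val = Localization.mk b ⟨z ^ k, pow_mem (Submonoid.mem_powers z) k⟩) :
    θ q = PolyGr.evalOne ι z hbij b := by
  classical
  obtain ⟨a, ha, -, he⟩ := PolyGr.exists_coeff ι z hz hbij hb
  have hq' : q = ∑ j ∈ Finset.range (k + 1), frac ι z hz (ha j) := by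
    apply HomogeneousLocalization.val_injective
    change q.val = algebraMap (Away ℬ z) (Localization.Away z) _
    rw [hq, he, map_sum]
    have hsum : ∀ t : Finset ℕ, (Localization.mk (∑ j ∈ t, ι (a j) * z ^ (k - j))
        ⟨z ^ k, pow_mem (Submonoid.mem_powers z) k⟩ : Localization.Away z) =
        ∑ j ∈ t, Localization.mk (ι (a j) * z ^ (k - j)) ⟨z ^ k, pow_mem (Submonoid.mem_powers z) k⟩ := by
      intro t
      exact map_sum (Localization.mkAddMonoidHom (⟨z ^ k, pow_mem (Submonoid.mem_powers z) k⟩ : Submonoid.powers z)) _ _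
    rw [hsum]
    refine Finset.sum_congr rfl fun j hj => ?_
    rw [HomogeneousLocalization.algebraMap_apply, frac, Away.val_mk, Localization.mk_eq_mk_iff,
      Localization.r_iff_exists]
    have hjk : j ≤ k := by simp only [Finset.mem_range] at hj; omega
    refine ⟨1, ?_⟩
    simp only [OneMemClass.coe_one, one_mul]
    conv_rhs => rw [show k = j + (k - j) by omega, pow_add]
    ring
  rw [hq', map_sum, he, map_sum]
  refine Finset.sum_congr rfl fun j _ => ?_
  rw [θ_frac ι z hz θ hθ, map_mul, map_pow, PolyGr.evalOne_ι, PolyGr.evalOne_z, one_pow, mul_one]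

include hbij hθ hz in
theorem θ_bijective : Function.Bijective θ := by
  classical
  refine ⟨(injective_iff_map_eq_zero θ).2 fun q hq => ?_, fun a => ?_⟩
  · obtain ⟨k, b, hb, rfl⟩ := Away.mk_surjective ℬ hz q
    have hb' : b ∈ ℬ k := by simpa using hb
    rw [θ_eq ι z hz hbij θ hθ _ hb' (Away.val_mk ℬ k hz b hb)] at hq
    refine HomogeneousLocalization.val_injective _ ?_
    rw [Away.val_mk, HomogeneousLocalization.val_zero]
    simp only [PolyGr.evalOne_injOn ι z hz hbij hb' hq]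
    exact Localization.mk_zero _
  · refine ⟨∑ i ∈ (DirectSum.decompose 𝒜 a).support, frac ι z hz (SetLike.coe_mem (DirectSum.decompose 𝒜 a i)), ?_⟩
    rw [map_sum]
    simp only [θ_frac ι z hz θ hθ]
    exact DirectSum.sum_support_decompose 𝒜 a

/-- The point of `Proj A[z]` of a prime of `A`. -/
def point (θ : Away ℬ z →+* A) : Spec (CommRingCat.of A) ⟶ Proj ℬ :=
  Spec.map (CommRingCat.ofHom θ) ≫ Proj.awayι ℬ z hz one_pos

include hθ in
theorem θ_localizationElem {k : ℕ} {a : A} (ha : a ∈ 𝒜 k) :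
    θ (Away.isLocalizationElem hz (ι.map_mem ha : ι a ∈ ℬ k)) = a :=
  hθ _ k a ha (by rw [Away.val_mk]; simp)

include hθ in
theorem ι_mem_point_iff (c : Spec (CommRingCat.of A)) {k : ℕ} (hk : 0 < k) {a : A} (ha : a ∈ 𝒜 k) :
    ι a ∈ (ProjectiveSpectrum.asHomogeneousIdeal (𝒜 := ℬ) ((point z hz θ) c)) ↔ a ∈ c.asIdeal := by
  have hιa : ι a ∈ ℬ k := ι.map_mem ha
  have key : (point z hz θ) c ∈ Proj.basicOpen ℬ (ι a) ↔ θ (Away.isLocalizationElem hz hιa) ∉ c.asIdeal := by
    change c ∈ (Spec.map (CommRingCat.ofHom θ)) ⁻¹ᵁ (Proj.awayι ℬ z hz one_pos ⁻¹ᵁ Proj.basicOpen ℬ (ι a)) ↔ _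
    rw [Proj.awayι_preimage_basicOpen ℬ hz one_pos hιa hk]
    rfl
  rw [show θ (Away.isLocalizationElem hz hιa) = a from θ_localizationElem ι z hz θ hθ ha] at key
  rw [← not_iff_not]
  exact (Proj.mem_basicOpen ℬ (ι a) _).symm.trans key

theorem z_notMem_point (c : Spec (CommRingCat.of A)) :
    z ∉ (ProjectiveSpectrum.asHomogeneousIdeal (𝒜 := ℬ) ((point z hz θ) c)) := by
  have h : (point z hz θ) c ∈ (Proj.awayι ℬ z hz one_pos).opensRange := ⟨_, rfl⟩
  rw [Proj.opensRange_awayι] at h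
  exact h

end

end Groth.Agent.H81.Cone.AwayDehom
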