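import Groth.Prelude.Def_RelSpec2
import Groth.Agent.H81.RelProj.Chart

/-!
# The vertex section and the pointed affine cone
-/

set_option autoImplicit false
universe u

open CategoryTheory AlgebraicGeometry TopologicalSpace Opposite
open scoped HomogeneousIdeal

namespace Groth.Agent.H81.Cone.Vertex

noncomputable section

variable {Y : Scheme.{u}}

theorem ι_res (A : RelSpec.QCAlg Y) {U : Y.Opens} (hU : IsAffineOpen U) (r : Γ(Y, U)) :
    Spec.map (A.presheaf.map (homOfLE (Y.basicOpen_le r)).op) ≫ A.ι U hU =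
      A.ι (Y.basicOpen r) (hU.basicOpen r) :=
  A.ι_res (U := ⟨U, hU⟩) (V := ⟨Y.basicOpen r, hU.basicOpen r⟩) (homOfLE ⟨r, rfl⟩)

theorem exists_mem_chart (A : RelSpec.QCAlg Y) (x : A.spec) :
    ∃ (U : Y.Opens) (hU : IsAffineOpen U), ∃ c, A.ι U hU c = x := by
  obtain ⟨U, hU, hxU, -⟩ := exists_isAffineOpen_mem_and_subset (U := ⊤) (x := A.π x) trivial
  have h : x ∈ (A.ι U hU).opensRange := by rw [← A.π_preimage U hU]; exact hxU
  obtain ⟨c, hc⟩ := h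
  exact ⟨U, hU, c, hc⟩

theorem exists_common_chart (A : RelSpec.QCAlg Y) {U V : Y.Opens} (hU : IsAffineOpen U) (hV : IsAffineOpen V)
    (c : Spec (A.presheaf.obj (op U))) (d : Spec (A.presheaf.obj (op V))) (h : A.ι U hU c = A.ι V hV d) :
    ∃ (r : Γ(Y, U)) (s : Γ(Y, V)) (e : Spec (A.presheaf.obj (op (Y.basicOpen r))))
      (e' : Spec (A.presheaf.obj (op (Y.basicOpen s)))),
      Y.basicOpen r = Y.basicOpen s ∧ HEq e e' ∧
      Spec.map (A.presheaf.map (homOfLE (Y.basicOpen_le r)).op) e = c ∧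
      Spec.map (A.presheaf.map (homOfLE (Y.basicOpen_le s)).op) e' = d := by
  have hπ : A.π (A.ι U hU c) ∈ U ⊓ V := by
    constructor
    · change A.ι U hU c ∈ A.π ⁻¹ᵁ U
      rw [A.π_preimage U hU]; exact ⟨c, rfl⟩
    · rw [h]
      change A.ι V hV d ∈ A.π ⁻¹ᵁ V
      rw [A.π_preimage V hV]; exact ⟨d, rfl⟩
  obtain ⟨r, s, e, hx⟩ := exists_basicOpen_le_affine_inter hU hV _ hπ
  have hmem : A.ι U hU c ∈ (A.ι (Y.basicOpen r) (hU.basicOpen r)).opensRange := by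
    rw [← A.π_preimage]; exact hx
  obtain ⟨z, hz⟩ := hmem
  have hmem' : A.ι U hU c ∈ (A.ι (Y.basicOpen s) (hV.basicOpen s)).opensRange := by
    rw [← A.π_preimage]; change A.π (A.ι U hU c) ∈ Y.basicOpen s; exact e ▸ hx
  obtain ⟨z', hz'⟩ := hmem'
  refine ⟨r, s, z, z', e, ?_, ?_, ?_⟩
  · have : ∀ (D D' : Y.Opens) (hD : IsAffineOpen D) (hD' : IsAffineOpen D') (_ : D = D')
        (a : Spec (A.presheaf.obj (op D))) (b : Spec (A.presheaf.obj (op D'))),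
        A.ι D hD a = A.ι D' hD' b → HEq a b := by
      rintro D D' hD hD' rfl a b hab
      exact heq_of_eq ((A.ι D hD).isOpenEmbedding.injective hab)
    exact this _ _ _ _ e z z' (hz.trans hz'.symm)
  · refine (A.ι U hU).isOpenEmbedding.injective ?_
    rw [← Scheme.Hom.comp_apply, ι_res]; exact hz
  · refine (A.ι V hV).isOpenEmbedding.injective ?_
    rw [← Scheme.Hom.comp_apply, ι_res, ← h]; exact hz'

variable (𝒮 : RelProj.QCGrAlg Y)

/-- The point does not contain the irrelevant ideal. -/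
def Pointed {U : Y.Opens} (hU : IsAffineOpen U) (c : Spec (𝒮.presheaf.obj (op U))) : Prop :=
  ¬ (HomogeneousIdeal.irrelevant (𝒮.deg U hU)).toIdeal ≤ c.asIdeal

theorem pointed_res {U : Y.Opens} (hU : IsAffineOpen U) (r : Γ(Y, U))
    (c : Spec (𝒮.presheaf.obj (op (Y.basicOpen r)))) :
    Pointed 𝒮 hU (Spec.map (𝒮.presheaf.map (homOfLE (Y.basicOpen_le r)).op) c) ↔
      Pointed 𝒮 (hU.basicOpen r) c := by
  let ρ := 𝒮.res hU (hU.basicOpen r) (Y.basicOpen_le r)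
  refine not_congr ⟨fun h => ?_, fun h a ha => ?_⟩
  · intro b hb
    have hb' := 𝒮.irrelevant_le_map U hU r hb
    have hle : Ideal.map ρ.toRingHom (HomogeneousIdeal.irrelevant (𝒮.deg U hU)).toIdeal ≤ c.asIdeal :=
      Ideal.map_le_iff_le_comap.2 h
    exact hle hb'
  · revert a ha
    change (HomogeneousIdeal.irrelevant (𝒮.deg U hU)).toIdeal ≤ Ideal.comap ρ.toRingHom c.asIdeal
    rw [HomogeneousIdeal.toIdeal_irrelevant_le]
    exact fun i hi x hx => h (HomogeneousIdeal.mem_irrelevant_of_mem _ hi (ρ.map_mem hx))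

theorem mem_pointedCone_iff {U : Y.Opens} (hU : IsAffineOpen U) (c : Spec (𝒮.presheaf.obj (op U))) :
    𝒮.toQCAlg.ι U hU c ∈ RelCone.pointedCone 𝒮 ↔ Pointed 𝒮 hU c := by
  have hv : ∀ {V : Y.Opens} (hV : IsAffineOpen V) (d : Spec (𝒮.presheaf.obj (op V))),
      d ∈ RelCone.vertexCompl (𝒮.deg V hV) ↔ Pointed 𝒮 hV d := fun hV d => Iff.rfl
  constructor
  · intro h
    obtain ⟨⟨V, hV⟩, d, hd, hdc⟩ := Opens.mem_iSup.1 h
    obtain ⟨r, s, e, e', he, hee, rfl, rfl⟩ := exists_common_chart 𝒮.toQCAlg hU hV c d hdc.symm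
    have h1 := (pointed_res 𝒮 hV s e').1 ((hv hV _).1 hd)
    refine (pointed_res 𝒮 hU r e).2 ?_
    have : ∀ (D D' : Y.Opens) (hD : IsAffineOpen D) (hD' : IsAffineOpen D') (_ : D = D')
        (a : Spec (𝒮.presheaf.obj (op D))) (b : Spec (𝒮.presheaf.obj (op D'))),
        HEq a b → Pointed 𝒮 hD' b → Pointed 𝒮 hD a := by
      rintro D D' hD hD' rfl a b hab hb
      obtain rfl := eq_of_heq hab
      exact hb
    exact this _ _ _ _ he e e' hee h1
  · intro h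
    exact Opens.mem_iSup.2 ⟨⟨U, hU⟩, c, (hv hU c).2 h, rfl⟩

/-- The kernel of the augmentation. -/
theorem ker_aug (h0 : RelCone.StrZeroBij 𝒮) (aug : 𝒮.toQCAlg ⟶ RelSpec.QCAlg.unit Y)
    (haug : RelCone.IsAugmentation 𝒮 aug) {U : Y.Opens} (hU : IsAffineOpen U) :
    RingHom.ker (aug.hom.app (op U)).hom = (HomogeneousIdeal.irrelevant (𝒮.deg U hU)).toIdeal := by
  classical
  have hretr : ∀ s : Γ(Y, U), (aug.hom.app (op U)).hom ((𝒮.str.app (op U)).hom s) = s :=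
    fun s => congr(($(NatTrans.congr_app aug.comm (op U))).hom s)
  have key : ∀ x : 𝒮.presheaf.obj (op U),
      (aug.hom.app (op U)).hom x = (aug.hom.app (op U)).hom (DirectSum.decompose (𝒮.deg U hU) x 0 : _) := by
    intro x
    conv_lhs => rw [← DirectSum.sum_support_decompose (𝒮.deg U hU) x, map_sum]
    refine Finset.sum_eq_single 0 (fun i _ hi => ?_) fun h => ?_
    · obtain ⟨j, rfl⟩ := Nat.exists_eq_succ_of_ne_zero hi
      exact haug U hU j _ (SetLike.coe_mem _)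
    · rw [DFinsupp.notMem_support_iff.mp h]
      exact map_zero _
  ext x
  rw [RingHom.mem_ker]
  change _ ↔ x ∈ HomogeneousIdeal.irrelevant (𝒮.deg U hU)
  rw [HomogeneousIdeal.mem_irrelevant_iff, GradedRing.proj_apply, key]
  obtain ⟨s, hs⟩ := (h0 U hU).2 (DirectSum.decompose (𝒮.deg U hU) x 0)
  have hs' : (𝒮.str.app (op U)).hom s = (DirectSum.decompose (𝒮.deg U hU) x 0 : _) := congrArg Subtype.val hs
  rw [← hs', hretr]
  refine ⟨fun h => by rw [h]; exact map_zero _, fun h => ?_⟩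
  rw [← hretr s, h]
  exact map_zero _

theorem isIso_unit_π : IsIso (RelSpec.QCAlg.unit Y).π := by
  refine (IsZariskiLocalAtTarget.iff_of_iSup_eq_top (P := MorphismProperty.isomorphisms Scheme.{u})
    (fun U : Y.affineOpens => U.1) (iSup_affineOpens_eq_top Y)).2 fun U => ?_
  let g := (RelSpec.QCAlg.unit Y).ι U.1 U.2
  have h1 : g ≫ (RelSpec.QCAlg.unit Y).π = U.2.fromSpec := by
    rw [RelSpec.QCAlg.ι_π]
    change Spec.map (𝟙 _) ≫ _ = _
    rw [Spec.map_id, Category.id_comp]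
  have hle : Set.range g.base ⊆ Set.range ((RelSpec.QCAlg.unit Y).π ⁻¹ᵁ U.1).ι.base := by
    rw [Scheme.Opens.range_ι, RelSpec.QCAlg.π_preimage _ U.1 U.2]
    rfl
  let g' := IsOpenImmersion.lift ((RelSpec.QCAlg.unit Y).π ⁻¹ᵁ U.1).ι g hle
  haveI : IsIso g' := by
    haveI : IsOpenImmersion (g' ≫ ((RelSpec.QCAlg.unit Y).π ⁻¹ᵁ U.1).ι) := by
      rw [IsOpenImmersion.lift_fac]; infer_instance
    haveI : IsOpenImmersion g' := IsOpenImmersion.of_comp g' ((RelSpec.QCAlg.unit Y).π ⁻¹ᵁ U.1).ι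
    haveI : Epi g'.base := (TopCat.epi_iff_surjective _).2 fun y => by
      have hy : y.1 ∈ g.opensRange := by
        rw [← RelSpec.QCAlg.π_preimage _ U.1 U.2]; exact y.2
      obtain ⟨c, hc⟩ := hy
      refine ⟨c, Subtype.ext ?_⟩
      exact ((congr($(IsOpenImmersion.lift_fac ((RelSpec.QCAlg.unit Y).π ⁻¹ᵁ U.1).ι g hle) c))).trans hc
    exact IsOpenImmersion.isIso _
  change IsIso ((RelSpec.QCAlg.unit Y).π ∣_ U.1)
  have h2 : g' ≫ ((RelSpec.QCAlg.unit Y).π ∣_ U.1) = U.2.isoSpec.inv := by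
    rw [← cancel_mono U.1.ι, Category.assoc, morphismRestrict_ι, IsOpenImmersion.lift_fac_assoc, h1]
    exact (IsAffineOpen.isoSpec_inv_ι _).symm
  exact IsIso.of_isIso_fac_left h2

theorem exists_vertex (aug : 𝒮.toQCAlg ⟶ RelSpec.QCAlg.unit Y) :
    (∃! ε : Y ⟶ 𝒮.toQCAlg.spec, RelCone.IsVertex 𝒮 aug ε) ∧
      ∀ ε : Y ⟶ 𝒮.toQCAlg.spec, RelCone.IsVertex 𝒮 aug ε → IsClosedImmersion ε := by
  haveI := isIso_unit_π (Y := Y)
  refine ⟨⟨inv (RelSpec.QCAlg.unit Y).π ≫ RelSpec.QCAlg.specMap aug, ⟨?_, fun U hU => ?_⟩, fun ε hε => ?_⟩,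
    fun ε hε => ?_⟩
  · rw [Category.assoc, RelSpec.QCAlg.specMap_π, IsIso.inv_hom_id]
  · have h1 : (RelSpec.QCAlg.unit Y).ι U hU ≫ (RelSpec.QCAlg.unit Y).π = hU.fromSpec := by
      rw [RelSpec.QCAlg.ι_π]
      change Spec.map (𝟙 _) ≫ _ = _
      rw [Spec.map_id, Category.id_comp]
    refine Eq.trans (congrArg (fun t => CategoryStruct.comp t (inv (RelSpec.QCAlg.unit Y).π ≫
      RelSpec.QCAlg.specMap aug)) h1.symm) ?_
    erw [Category.assoc, IsIso.hom_inv_id_assoc]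
    exact RelSpec.QCAlg.ι_specMap U hU aug
  · rw [IsIso.eq_inv_comp]
    apply Limits.colimit.hom_ext
    intro U
    change (RelSpec.QCAlg.unit Y).ι U.1 U.2 ≫ (RelSpec.QCAlg.unit Y).π ≫ ε =
      (RelSpec.QCAlg.unit Y).ι U.1 U.2 ≫ RelSpec.QCAlg.specMap aug
    rw [RelSpec.QCAlg.ι_specMap, reassoc_of% ((RelSpec.QCAlg.unit Y).ι_π U.1 U.2)]
    change Spec.map (𝟙 _) ≫ U.2.fromSpec ≫ ε = _
    rw [Spec.map_id, Category.id_comp, hε.chart]
  · haveI : IsClosedImmersion (ε ≫ 𝒮.toQCAlg.π) := by rw [hε.comp_π]; infer_instance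
    exact IsClosedImmersion.of_comp ε 𝒮.toQCAlg.π

/-- Membership in the image of the vertex section, on a chart. -/
theorem mem_range_vertex_iff (h0 : RelCone.StrZeroBij 𝒮) {aug : 𝒮.toQCAlg ⟶ RelSpec.QCAlg.unit Y}
    (haug : RelCone.IsAugmentation 𝒮 aug) {ε : Y ⟶ 𝒮.toQCAlg.spec} (hε : RelCone.IsVertex 𝒮 aug ε)
    {U : Y.Opens} (hU : IsAffineOpen U) (c : Spec (𝒮.presheaf.obj (op U))) :
    𝒮.toQCAlg.ι U hU c ∈ Set.range ε ↔ ¬ Pointed 𝒮 hU c := by
  have hsurj : Function.Surjective (aug.hom.app (op U)).hom := fun s =>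
    ⟨_, congr(($(NatTrans.congr_app aug.comm (op U))).hom s)⟩
  have hrange : c ∈ Set.range (Spec.map (aug.hom.app (op U))) ↔ ¬ Pointed 𝒮 hU c := by
    change c ∈ Set.range (PrimeSpectrum.comap (aug.hom.app (op U)).hom) ↔ _
    rw [range_comap_of_surjective _ _ hsurj, ker_aug 𝒮 h0 aug haug hU]
    exact not_not.symm
  rw [← hrange]
  constructor
  · rintro ⟨y, hy⟩
    have hyU : y ∈ U := by
      have h1 : 𝒮.toQCAlg.π (ε y) ∈ U := by
        rw [hy]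
        change 𝒮.toQCAlg.ι U hU c ∈ 𝒮.toQCAlg.π ⁻¹ᵁ U
        rw [RelSpec.QCAlg.π_preimage _ U hU]; exact ⟨c, rfl⟩
      rwa [← Scheme.Hom.comp_apply, hε.comp_π] at h1
    obtain ⟨w, rfl⟩ : y ∈ Set.range hU.fromSpec := by rw [IsAffineOpen.range_fromSpec]; exact hyU
    refine ⟨w, (𝒮.toQCAlg.ι U hU).isOpenEmbedding.injective ?_⟩
    rw [← hy, ← Scheme.Hom.comp_apply, ← hε.chart]
    rfl
  · rintro ⟨w, rfl⟩
    refine ⟨hU.fromSpec w, ?_⟩
    rw [← Scheme.Hom.comp_apply, hε.chart]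
    rfl

theorem pointedCone_eq (h0 : RelCone.StrZeroBij 𝒮) {aug : 𝒮.toQCAlg ⟶ RelSpec.QCAlg.unit Y}
    (haug : RelCone.IsAugmentation 𝒮 aug) {ε : Y ⟶ 𝒮.toQCAlg.spec} (hε : RelCone.IsVertex 𝒮 aug ε) :
    ((RelCone.pointedCone 𝒮 : 𝒮.toQCAlg.spec.Opens) : Set 𝒮.toQCAlg.spec) = (Set.range ε.base)ᶜ := by
  ext x
  obtain ⟨U, hU, c, rfl⟩ := exists_mem_chart 𝒮.toQCAlg x
  change 𝒮.toQCAlg.ι U hU c ∈ RelCone.pointedCone 𝒮 ↔ ¬ 𝒮.toQCAlg.ι U hU c ∈ Set.range ε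
  rw [mem_pointedCone_iff, mem_range_vertex_iff 𝒮 h0 haug hε hU c, not_not]

end

end Groth.Agent.H81.Cone.Vertex
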