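import Groth.Agent.H81.Cone.AwayDehom
import Groth.Agent.H81.Cone.Vertex
import Groth.Agent.H81.RelProj.RelTilde
import Groth.Agent.H81.RelProj.GrTilde.Basic
import Mathlib.AlgebraicGeometry.IdealSheaf.Functorial

/-!
# The canonical morphism from the affine cone to the projective cone
-/

set_option autoImplicit false
universe u

open CategoryTheory AlgebraicGeometry TopologicalSpace Opposite HomogeneousLocalization
open scoped HomogeneousIdeal

namespace Groth.Agent.H81.Cone.ConeImm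

noncomputable section

section Ring

variable {A σ : Type u} [CommRing A] [SetLike σ A] [AddSubgroupClass σ A] {𝒜 : ℕ → σ} [GradedRing 𝒜]
  {B σ' : Type u} [CommRing B] [SetLike σ' B] [AddSubgroupClass σ' B] {ℬ : ℕ → σ'} [GradedRing ℬ]
  {A' σ₁ : Type u} [CommRing A'] [SetLike σ₁ A'] [AddSubgroupClass σ₁ A'] {𝒜' : ℕ → σ₁} [GradedRing 𝒜']
  {B' σ₂ : Type u} [CommRing B'] [SetLike σ₂ B'] [AddSubgroupClass σ₂ B'] {ℬ' : ℕ → σ₂} [GradedRing ℬ']
  (ι : 𝒜 →+*ᵍ ℬ) {z : B} (hz : z ∈ ℬ 1)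
  (hbij : Function.Bijective (Polynomial.eval₂RingHom (ι.toRingHom : A →+* B) z))
  (θ : Away ℬ z →+* A)
  (hθ : ∀ (q : Away ℬ z) (k : ℕ) (a : A), a ∈ 𝒜 k →
    q.val = Localization.mk (ι a) ⟨z ^ k, pow_mem (Submonoid.mem_powers z) k⟩ → θ q = a)

include hbij hθ in
theorem hom_ext_frac {C : Type u} [CommRing C] (f g : Away ℬ z →+* C)
    (h : ∀ (k : ℕ) (a : A) (ha : a ∈ 𝒜 k), f (AwayDehom.frac ι z hz ha) = g (AwayDehom.frac ι z hz ha)) : f = g := by
  classical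
  refine RingHom.ext fun q => ?_
  have hq : q = ∑ i ∈ (DirectSum.decompose 𝒜 (θ q)).support,
      AwayDehom.frac ι z hz (SetLike.coe_mem (DirectSum.decompose 𝒜 (θ q) i)) := by
    refine (AwayDehom.θ_bijective ι z hz hbij θ hθ).1 ?_
    rw [map_sum]
    simp only [AwayDehom.θ_frac ι z hz θ hθ]
    exact (DirectSum.sum_support_decompose 𝒜 (θ q)).symm
  rw [hq, map_sum, map_sum]
  exact Finset.sum_congr rfl fun i _ => h _ _ _

include hbij hθ hz in
theorem isIso_Spec_map : IsIso (Spec.map (CommRingCat.ofHom θ)) := by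
  haveI : IsIso (CommRingCat.ofHom θ) :=
    (ConcreteCategory.isIso_iff_bijective _).2 (AwayDehom.θ_bijective ι z hz hbij θ hθ)
  infer_instance

include hbij hθ in
theorem point_nat (ι' : 𝒜' →+*ᵍ ℬ') (rA : 𝒜 →+*ᵍ 𝒜') (rB : ℬ →+*ᵍ ℬ') (hcomm : ∀ a, rB (ι a) = ι' (rA a))
    (hirr : ℬ'₊ ≤ (ℬ₊).map rB) {z' : B'} (hz' : z' ∈ ℬ' 1) (hzz : rB z = z') (θ' : Away ℬ' z' →+* A')
    (hθ' : ∀ (q : Away ℬ' z') (k : ℕ) (a : A'), a ∈ 𝒜' k →
      q.val = Localization.mk (ι' a) ⟨z' ^ k, pow_mem (Submonoid.mem_powers z') k⟩ → θ' q = a)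
    {P : Scheme.{u}} (eU : Proj ℬ ⟶ P) (eD : Proj ℬ' ⟶ P) (he : Proj.map rB hirr ≫ eU = eD) :
    Spec.map (CommRingCat.ofHom rA.toRingHom) ≫ AwayDehom.point z hz θ ≫ eU =
      AwayDehom.point z' hz' θ' ≫ eD := by
  subst hzz
  subst he
  have key : rA.toRingHom.comp θ = θ'.comp (Away.map rB z) := by
    refine hom_ext_frac ι hz hbij θ hθ _ _ fun k a ha => ?_
    rw [RingHom.comp_apply, RingHom.comp_apply, AwayDehom.θ_frac ι z hz θ hθ]
    refine (hθ' _ k (rA a) (rA.map_mem ha) ?_).symm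
    rw [AwayDehom.frac, Away.map_mk, Away.val_mk]
    simp only [hcomm]
  simp only [AwayDehom.point, Category.assoc]
  rw [Proj.awayι_comp_map_assoc rB hirr one_pos z hz, ← Spec.map_comp_assoc, ← Spec.map_comp_assoc,
    ← CommRingCat.ofHom_comp, ← CommRingCat.ofHom_comp, key]

include hbij in
/-- Functions on `Proj A[z]` vanishing on `D₊(z)` vanish. -/
theorem eq_zero_of_basicOpen (hz : z ∈ ℬ 1) {V : (Proj ℬ).Opens} (s : Γ(Proj ℬ, V))
    (h : (Proj ℬ).presheaf.map (homOfLE (inf_le_left : V ⊓ Proj.basicOpen ℬ z ≤ V)).op s = 0) : s = 0 := by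
  classical
  have h' : ∀ y : V, z ∉ y.1.asHomogeneousIdeal →
      ((s : GrTwist.O (𝒜 := ℬ) (op V)).1 y).val = 0 := fun y hy => by
    have := congrArg (fun t : GrTwist.O (𝒜 := ℬ) (op (V ⊓ Proj.basicOpen ℬ z)) => (t.1 ⟨y.1, y.2, hy⟩).val) h
    refine this.trans ?_
    exact HomogeneousLocalization.val_zero
  refine Groth.Agent.H81.RelProj.GrTilde.Basic.ofFun_injective (U := V) ?_
  refine Groth.Agent.H81.RelProj.GrTilde.Frac.sect_ext fun x => ?_
  obtain ⟨j, t, a, ht, ha, htx, hrep⟩ :=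
    Groth.Agent.H81.RelProj.GrTilde.Frac.exists_local_rep (Groth.Agent.H81.RelProj.GrTilde.Basic.ofFun s) x
  obtain ⟨k, g, hg, hgx, hgV⟩ := Groth.Agent.H81.RelProj.GrTilde.Frac.exists_homog_basicOpen_le V x.1 x.2
  obtain ⟨i, hai, -⟩ := ha.exists_mem
  obtain ⟨N, hN⟩ := Groth.Agent.H81.RelProj.GrTilde.Frac.exists_pow_smul_eq_zero (𝒜 := ℬ)
    (d := j + k + 1) (by omega) (SetLike.mul_mem_graded (SetLike.mul_mem_graded ht hg) hz) (m := a) fun y => by
    have hy := (ProjectiveSpectrum.mem_basicOpen ℬ _ _).1 y.2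
    have hty : t ∉ y.1.asHomogeneousIdeal := fun h => hy (Ideal.mul_mem_right _ _ (Ideal.mul_mem_right _ _ h))
    have hgy : g ∉ y.1.asHomogeneousIdeal := fun h => hy (Ideal.mul_mem_right _ _ (Ideal.mul_mem_left _ _ h))
    have hzy : z ∉ y.1.asHomogeneousIdeal := fun h => hy (Ideal.mul_mem_left _ _ h)
    have hyV : y.1 ∈ V := hgV hgy
    have e : (LocalizedModule.mk a ⟨t, hty⟩ : GrMod.LocMod ℬ (M := B) y.1) = 0 :=
      ((hrep ⟨y.1, hyV⟩ hty).symm.trans (h' ⟨y.1, hyV⟩ hzy))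
    exact (Groth.Agent.H81.RelProj.GrTilde.Frac.mk_eq_zero_iff hai).1 e
  have hN' : (t * g) ^ N * a = 0 := by
    have e : ∀ n : ℕ, z ^ n * ((t * g) ^ N * a) = 0 → (t * g) ^ N * a = 0 := by
      intro n
      induction n with
      | zero => simp
      | succ n ih =>
        intro h0
        refine ih (PolyGr.z_nzd ι z hbij ?_)
        rw [← h0, pow_succ]
        ring
    refine e N ?_
    rw [← hN, smul_eq_mul, mul_pow]
    ring
  refine (hrep x htx).trans ?_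
  refine Eq.trans ?_ (Groth.Agent.H81.RelProj.GrTilde.Basic.val_zero (ℳ := ℬ) (n := 0) x).symm |>.trans ?_
  · refine (Groth.Agent.H81.RelProj.GrTilde.Frac.mk_eq_zero_iff hai).2 ⟨_, (t * g) ^ N,
      SetLike.pow_mem_graded N (SetLike.mul_mem_graded ht hg), ?_, by rw [smul_eq_mul]; exact hN'⟩
    exact fun h0 => (x.1.isPrime.mem_or_mem (x.1.isPrime.mem_of_pow_mem _ h0)).elim htx hgx
  · exact HomogeneousLocalization.val_zero.symm

end Ring

theorem app_eq_zero {X Z : Scheme.{u}} {f g : X ⟶ Z} (h : f = g) (V : Z.Opens) (s : Γ(Z, V))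
    (hs : g.app V s = 0) : f.app V s = 0 := by
  subst h; exact hs

theorem app_res_zero {X Z : Scheme.{u}} (f : X ⟶ Z) {W₀ W₁ W₂ : Z.Opens} (h₁ : W₁ ≤ W₀) (h₂ : W₂ ≤ W₁)
    (t : Γ(Z, W₀)) (ht : f.app W₀ t = 0) :
    f.app W₂ (Z.presheaf.map (homOfLE h₂).op (Z.presheaf.map (homOfLE h₁).op t)) = 0 := by
  refine (congr(($(f.naturality (homOfLE h₂).op)).hom (Z.presheaf.map (homOfLE h₁).op t))).trans ?_
  have e : f.app W₁ (Z.presheaf.map (homOfLE h₁).op t) = 0 := by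
    refine (congr(($(f.naturality (homOfLE h₁).op)).hom t)).trans ?_
    change (X.presheaf.map _).hom (f.app W₀ t) = 0
    rw [ht, map_zero]
  change (X.presheaf.map _).hom (f.app W₁ _) = 0
  rw [e, map_zero]

theorem restrict_eq {X Z W : Scheme.{u}} (f : X ⟶ Z) (V : Z.Opens) (j : W ⟶ X) [IsOpenImmersion j]
    (hj : j.opensRange = f ⁻¹ᵁ V) (g : W ⟶ (V : Scheme.{u})) (hg : g ≫ V.ι = j ≫ f) :
    ∃ e : ((f ⁻¹ᵁ V : X.Opens) : Scheme.{u}) ≅ W, f ∣_ V = e.hom ≫ g := by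
  have hr : Set.range (f ⁻¹ᵁ V).ι.base = Set.range j.base := by
    rw [Scheme.Opens.range_ι, ← hj]
    rfl
  refine ⟨IsOpenImmersion.isoOfRangeEq (f ⁻¹ᵁ V).ι j hr, ?_⟩
  rw [← cancel_mono V.ι, morphismRestrict_ι, Category.assoc, hg, IsOpenImmersion.isoOfRangeEq_hom_fac_assoc]

variable {Y PC : Scheme.{u}} {𝒮 Sh : RelProj.QCGrAlg Y} (ι : 𝒮.toQCAlg ⟶ Sh.toQCAlg)
  (hι : RelProj.IsGradedHom ι) (z : Sh.presheaf.obj (op ⊤))
  (hz : ∀ (U : Y.Opens) (hU : IsAffineOpen U), (Sh.presheaf.map (homOfLE le_top).op).hom z ∈ Sh.deg U hU 1)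
  (hpoly : ∀ (U : Y.Opens) (hU : IsAffineOpen U),
    Function.Bijective (Polynomial.eval₂RingHom (ι.hom.app (op U)).hom ((Sh.presheaf.map (homOfLE le_top).op).hom z)))
  (pC : PC ⟶ Y)
  (chartC : ∀ (U : Y.Opens) (hU : IsAffineOpen U), (((pC ⁻¹ᵁ U : PC.Opens) : Scheme.{u}) ≅ Proj (Sh.deg U hU)))

/-- The restriction of `z`. -/
abbrev zU (U : Y.Opens) : Sh.presheaf.obj (op U) := (Sh.presheaf.map (homOfLE le_top).op).hom z

variable (θ : ∀ (U : Y.Opens) (hU : IsAffineOpen U),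
    CommRingCat.of (Away (Sh.deg U hU) (zU z U)) ⟶ 𝒮.presheaf.obj (op U))
  (hθ : ∀ (U : Y.Opens) (hU : IsAffineOpen U) (q : Away (Sh.deg U hU) (zU z U)) (k : ℕ)
    (x : 𝒮.presheaf.obj (op U)), x ∈ 𝒮.deg U hU k →
      q.val = Localization.mk ((ι.hom.app (op U)).hom x)
        ⟨zU z U ^ k, pow_mem (Submonoid.mem_powers (zU z U)) k⟩ → (θ U hU).hom q = x)

/-- The morphism on the chart over `U`. -/
def f (U : Y.Opens) (hU : IsAffineOpen U) : Spec (𝒮.presheaf.obj (op U)) ⟶ PC :=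
  Spec.map (θ U hU) ≫ Proj.awayι (Sh.deg U hU) (zU z U) (hz U hU) one_pos ≫ RelProj.emb pC chartC U hU

include hι hpoly hθ in
theorem f_res (hPC : RelProj.IsRelProj Sh pC chartC) {U : Y.Opens} (hU : IsAffineOpen U) (r : Γ(Y, U)) :
    Spec.map (𝒮.presheaf.map (homOfLE (Y.basicOpen_le r)).op) ≫ f z hz pC chartC θ U hU =
      f z hz pC chartC θ (Y.basicOpen r) (hU.basicOpen r) := by
  have h := point_nat (RelProj.gradedHomAt ι hι U hU) (hz U hU) (hpoly U hU) (θ U hU).hom (hθ U hU)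
    (RelProj.gradedHomAt ι hι (Y.basicOpen r) (hU.basicOpen r)) (𝒮.res hU (hU.basicOpen r) (Y.basicOpen_le r))
    (Sh.res hU (hU.basicOpen r) (Y.basicOpen_le r))
    (fun a => (congr(($(ι.hom.naturality (homOfLE (Y.basicOpen_le r)).op)).hom a)).symm)
    (Sh.irrelevant_le_map U hU r) (z' := zU z (Y.basicOpen r)) (hz _ _)
    (by
      change (Sh.presheaf.map (homOfLE (Y.basicOpen_le r)).op).hom ((Sh.presheaf.map (homOfLE le_top).op).hom z) = _
      rw [← RingHom.comp_apply, ← CommRingCat.hom_comp, ← Functor.map_comp]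
      rfl)
    (θ _ (hU.basicOpen r)).hom (hθ _ (hU.basicOpen r)) _ _ (RelProj.map_res_emb hPC U hU r)
  simp only [AwayDehom.point, Category.assoc] at h
  exact h

include hι hpoly hθ in
theorem existsUnique_i (hPC : RelProj.IsRelProj Sh pC chartC) :
    ∃! i : 𝒮.toQCAlg.spec ⟶ PC, ∀ (U : Y.Opens) (hU : IsAffineOpen U),
      𝒮.toQCAlg.ι U hU ≫ i = f z hz pC chartC θ U hU := by
  let c : Limits.Cocone 𝒮.toQCAlg.glueData.functor :=
    { pt := PC
      ι :=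
        { app := fun U => f z hz pC chartC θ U.1 U.2
          naturality := fun V U m => by
            obtain ⟨V, hV⟩ := V
            obtain ⟨U, hU⟩ := U
            obtain ⟨r, hr⟩ := m.le
            change Y.basicOpen r = V at hr
            subst hr
            refine Eq.trans ?_ (Category.comp_id _).symm
            exact f_res ι hι z hz hpoly pC chartC θ hθ hPC hU r } }
  refine ⟨Limits.colimit.desc 𝒮.toQCAlg.glueData.functor c, fun U hU => ?_, fun i hi => ?_⟩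
  · exact Limits.colimit.ι_desc c ⟨U, hU⟩
  · refine Limits.colimit.hom_ext fun U => ?_
    exact (hi U.1 U.2).trans (Limits.colimit.ι_desc c U).symm

variable (i : 𝒮.toQCAlg.spec ⟶ PC)
  (hi : ∀ (U : Y.Opens) (hU : IsAffineOpen U), 𝒮.toQCAlg.ι U hU ≫ i = f z hz pC chartC θ U hU)

include hι hθ in
theorem θ_strZero (U : Y.Opens) (hU : IsAffineOpen U) (a : Γ(Y, U)) :
    (θ U hU).hom (fromZeroRingHom (Sh.deg U hU) (Submonoid.powers (zU z U)) ((Sh.strZero U hU).hom a)) =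
      (𝒮.str.app (op U)).hom a := by
  refine hθ U hU _ 0 _ ((𝒮.strZero U hU).hom a).2 ?_
  have e : (ι.hom.app (op U)).hom ((𝒮.str.app (op U)).hom a) = (Sh.str.app (op U)).hom a :=
    congr(($(NatTrans.congr_app ι.comm (op U))).hom a)
  rw [e]
  simp only [fromZeroRingHom, RingHom.coe_mk, MonoidHom.coe_mk, OneHom.coe_mk, HomogeneousLocalization.val_mk]
  congr 1
  exact Subtype.ext (pow_zero _).symm

include hι hθ hi in
theorem i_pC (hPC : RelProj.IsRelProj Sh pC chartC) : i ≫ pC = 𝒮.toQCAlg.π := by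
  refine Limits.colimit.hom_ext fun U => ?_
  change 𝒮.toQCAlg.ι U.1 U.2 ≫ i ≫ pC = 𝒮.toQCAlg.ι U.1 U.2 ≫ 𝒮.toQCAlg.π
  rw [reassoc_of% (hi U.1 U.2), RelSpec.QCAlg.ι_π, f, Category.assoc, Category.assoc, RelProj.emb, Category.assoc,
    ← hPC.chart_over U.1 U.2, Iso.inv_hom_id_assoc, Proj.awayι_toSpecZero_assoc, ← Spec.map_comp_assoc,
    ← Spec.map_comp_assoc]
  refine congrArg (fun φ => Spec.map φ ≫ U.2.fromSpec) (CommRingCat.hom_ext (RingHom.ext fun a => ?_))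
  exact θ_strZero ι hι z θ hθ U.1 U.2 a

/-- The chart of `i` over `U`, into the preimage of `U`. -/
def g (U : Y.Opens) (hU : IsAffineOpen U) :
    Spec (𝒮.presheaf.obj (op U)) ⟶ ((pC ⁻¹ᵁ U : PC.Opens) : Scheme.{u}) :=
  Spec.map (θ U hU) ≫ Proj.awayι (Sh.deg U hU) (zU z U) (hz U hU) one_pos ≫ (chartC U hU).inv

theorem g_ι (U : Y.Opens) (hU : IsAffineOpen U) : g z hz pC chartC θ U hU ≫ (pC ⁻¹ᵁ U).ι = f z hz pC chartC θ U hU := by
  simp only [g, f, RelProj.emb, Category.assoc]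

include hι hθ hi in
theorem exists_restrict (hPC : RelProj.IsRelProj Sh pC chartC) (U : Y.Opens) (hU : IsAffineOpen U) :
    ∃ e : ((i ⁻¹ᵁ (pC ⁻¹ᵁ U) : 𝒮.toQCAlg.spec.Opens) : Scheme.{u}) ≅ Spec (𝒮.presheaf.obj (op U)),
      i ∣_ (pC ⁻¹ᵁ U) = e.hom ≫ g z hz pC chartC θ U hU := by
  refine restrict_eq i (pC ⁻¹ᵁ U) (𝒮.toQCAlg.ι U hU) ?_ _ ((g_ι z hz pC chartC θ U hU).trans (hi U hU).symm)
  rw [← Scheme.Hom.comp_preimage, i_pC ι hι z hz pC chartC θ hθ i hi hPC, RelSpec.QCAlg.π_preimage _ U hU]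

include hι hpoly hθ hi in
theorem props (hPC : RelProj.IsRelProj Sh pC chartC) : IsOpenImmersion i ∧ IsAffineHom i := by
  have hcov : iSup (fun U : Y.affineOpens => pC ⁻¹ᵁ U.1) = ⊤ := by
    refine top_le_iff.mp fun x _ => ?_
    obtain ⟨U, hU, hxU, -⟩ := exists_isAffineOpen_mem_and_subset (U := ⊤) (x := pC x) trivial
    exact Opens.mem_iSup.2 ⟨⟨U, hU⟩, hxU⟩
  constructor
  · refine (IsZariskiLocalAtTarget.iff_of_iSup_eq_top (P := @IsOpenImmersion) _ hcov).2 fun U => ?_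
    obtain ⟨e, he⟩ := exists_restrict ι hι z hz pC chartC θ hθ i hi hPC U.1 U.2
    haveI : IsIso (Spec.map (θ U.1 U.2)) := isIso_Spec_map (RelProj.gradedHomAt ι hι U.1 U.2) (hz U.1 U.2)
      (hpoly U.1 U.2) (θ U.1 U.2).hom (hθ U.1 U.2)
    rw [he, g]
    infer_instance
  · refine (IsZariskiLocalAtTarget.iff_of_iSup_eq_top (P := @IsAffineHom) _ hcov).2 fun U => ?_
    obtain ⟨e, he⟩ := exists_restrict ι hι z hz pC chartC θ hθ i hi hPC U.1 U.2
    haveI : IsAffineHom (Proj.awayι (Sh.deg U.1 U.2) (zU z U.1) (hz U.1 U.2) one_pos) := by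
      haveI : IsAffineHom (Proj.awayι (Sh.deg U.1 U.2) (zU z U.1) (hz U.1 U.2) one_pos ≫
          Proj.toSpecZero (Sh.deg U.1 U.2)) := by
        rw [Proj.awayι_toSpecZero]; infer_instance
      exact IsAffineHom.of_comp _ (Proj.toSpecZero (Sh.deg U.1 U.2))
    rw [he, g]
    infer_instance

include hι hpoly hθ hi in
theorem mem_range_iff (hPC : RelProj.IsRelProj Sh pC chartC) (U : Y.Opens) (hU : IsAffineOpen U)
    (y : Proj (Sh.deg U hU)) :
    RelProj.emb pC chartC U hU y ∈ Set.range i ↔ y ∈ Proj.basicOpen (Sh.deg U hU) (zU z U) := by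
  haveI : IsIso (Spec.map (θ U hU)) := isIso_Spec_map (RelProj.gradedHomAt ι hι U hU) (hz U hU) (hpoly U hU)
    (θ U hU).hom (hθ U hU)
  constructor
  · rintro ⟨w, hw⟩
    have hw' : w ∈ (𝒮.toQCAlg.ι U hU).opensRange := by
      rw [← RelSpec.QCAlg.π_preimage _ U hU]
      change 𝒮.toQCAlg.π w ∈ U
      rw [← i_pC ι hι z hz pC chartC θ hθ i hi hPC, Scheme.Hom.comp_apply, hw]
      exact ((chartC U hU).inv y).2
    obtain ⟨c, rfl⟩ := hw'
    rw [← Scheme.Hom.comp_apply, hi U hU, f, Scheme.Hom.comp_apply, Scheme.Hom.comp_apply] at hw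
    rw [← (RelProj.emb pC chartC U hU).isOpenEmbedding.injective hw, ← Proj.opensRange_awayι (Sh.deg U hU) (zU z U) (hz U hU) one_pos]
    exact ⟨_, rfl⟩
  · intro hy
    rw [← Proj.opensRange_awayι (Sh.deg U hU) (zU z U) (hz U hU) one_pos] at hy
    obtain ⟨c, rfl⟩ := hy
    obtain ⟨d, rfl⟩ := (Spec.map (θ U hU)).homeomorph.surjective c
    refine ⟨𝒮.toQCAlg.ι U hU d, ?_⟩
    rw [← Scheme.Hom.comp_apply, hi U hU]
    rfl

include hι hpoly hθ hi in
theorem ker_eq_bot (hPC : RelProj.IsRelProj Sh pC chartC) : i.ker = ⊥ := by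
  haveI := (props ι hι z hz hpoly pC chartC θ hθ i hi hPC).2
  refine le_bot_iff.mp fun V => ?_
  rw [Scheme.Hom.ker_apply]
  intro s hs
  rw [RingHom.mem_ker] at hs
  change s = 0
  refine (PC.sheaf).eq_of_locally_eq' (fun U : Y.affineOpens => V.1 ⊓ pC ⁻¹ᵁ U.1) V.1 (fun _ => homOfLE inf_le_left)
    (fun x hx => ?_) _ _ fun U => ?_
  · obtain ⟨U, hU, hxU, -⟩ := exists_isAffineOpen_mem_and_subset (U := ⊤) (x := pC x) trivial
    exact Opens.mem_iSup.2 ⟨⟨U, hU⟩, hx, hxU⟩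
  change (PC.presheaf.map (homOfLE (inf_le_left : V.1 ⊓ pC ⁻¹ᵁ U.1 ≤ V.1)).op) s =
    (PC.presheaf.map (homOfLE (inf_le_left : V.1 ⊓ pC ⁻¹ᵁ U.1 ≤ V.1)).op) 0
  rw [map_zero]
  let e := RelProj.emb pC chartC U.1 U.2
  haveI := e.isIso_app (V.1 ⊓ pC ⁻¹ᵁ U.1)
    (inf_le_right.trans (Groth.Agent.H81.RelProj.RelTilde.opensRange_emb pC chartC U.1 U.2).ge)
  refine ((ConcreteCategory.isIso_iff_bijective (e.app (V.1 ⊓ pC ⁻¹ᵁ U.1))).1 inferInstance).1 ?_
  rw [map_zero]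
  refine eq_zero_of_basicOpen (RelProj.gradedHomAt ι hι U.1 U.2) (hpoly U.1 U.2) (hz U.1 U.2) _ ?_
  haveI : IsIso (Spec.map (θ U.1 U.2)) := isIso_Spec_map (RelProj.gradedHomAt ι hι U.1 U.2) (hz U.1 U.2)
    (hpoly U.1 U.2) (θ U.1 U.2).hom (hθ U.1 U.2)
  let a := Spec.map (θ U.1 U.2) ≫ Proj.awayι (Sh.deg U.1 U.2) (zU z U.1) (hz U.1 U.2) one_pos
  haveI : IsOpenImmersion a := inferInstance
  have ha : a.opensRange = Proj.basicOpen (Sh.deg U.1 U.2) (zU z U.1) := by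
    rw [Scheme.Hom.opensRange_comp_of_isIso, Proj.opensRange_awayι]
  haveI := a.isIso_app ((e ⁻¹ᵁ (V.1 ⊓ pC ⁻¹ᵁ U.1)) ⊓ Proj.basicOpen (Sh.deg U.1 U.2) (zU z U.1))
    (inf_le_right.trans ha.ge)
  refine ((ConcreteCategory.isIso_iff_bijective (a.app _)).1 inferInstance).1 ?_
  rw [map_zero]
  have hae : a ≫ e = 𝒮.toQCAlg.ι U.1 U.2 ≫ i := by
    rw [hi U.1 U.2, f, Category.assoc]
  have h0 : a.app (e ⁻¹ᵁ V.1) (e.app V.1 s) = 0 := by
    refine app_eq_zero hae V.1 s ?_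
    change (𝒮.toQCAlg.ι U.1 U.2).app (i ⁻¹ᵁ V.1) (i.app V.1 s) = 0
    erw [hs, map_zero]
  have n1 := congr(($(e.naturality (homOfLE (inf_le_left : V.1 ⊓ pC ⁻¹ᵁ U.1 ≤ V.1)).op)).hom s)
  simp only [CommRingCat.hom_comp, RingHom.comp_apply] at n1
  erw [n1]
  exact app_res_zero a (e.preimage_mono inf_le_left) inf_le_left _ h0

end

end Groth.Agent.H81.Cone.ConeImm
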