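import Groth.Agent.H81.Cone.AwayDehom
import Groth.Agent.Lib.H70.GrDeh
import Mathlib.RingTheory.PolynomialAlgebra
import Mathlib.Algebra.Polynomial.Laurent

/-!
# `A[z]_(f) = A_(f)[T]` and `A_f = A_(f)[T, T⁻¹]` for `f` of degree one
-/

set_option autoImplicit false
universe u

open CategoryTheory AlgebraicGeometry TopologicalSpace HomogeneousLocalization DirectSum
open Groth.Agent.Lib.H70

namespace Groth.Agent.H81.Cone.DegOne

noncomputable section

variable {A σ : Type u} [CommRing A] [SetLike σ A] [AddSubgroupClass σ A] {𝒜 : ℕ → σ} [GradedRing 𝒜]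
  {B σ' : Type u} [CommRing B] [SetLike σ' B] [AddSubgroupClass σ' B] {ℬ : ℕ → σ'} [GradedRing ℬ]
  (φ : 𝒜 →+*ᵍ ℬ) {z : B} (hz : z ∈ ℬ 1)
  (hbij : Function.Bijective (Polynomial.eval₂RingHom (φ.toRingHom : A →+* B) z))

include hbij in
/-- `A[z]_(φ f)` is the polynomial ring in `z / φ f` over `A_(f)`. -/
theorem exists_poly_equiv {f : A} (hf : f ∈ 𝒜 1) :
    ∃ e : Polynomial (Away 𝒜 f) ≃+* Away ℬ (φ f), ∀ x, e (Polynomial.C x) = Away.map φ f x := by
  classical
  have hf' : φ f ∈ ℬ 1 := φ.map_mem hf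
  let dA := GrDeh.dehAway hf
  let dB := GrDeh.dehAway hf'
  have hd : ∀ a, dB (φ a) = Away.map φ f (dA a) := by
    intro a
    induction a using DirectSum.Decomposition.inductionOn 𝒜 with
    | zero => simp
    | @homogeneous i a =>
      simp only [dA, dB]
      rw [GrDeh.dehAway_of_mem hf a.2]
      refine (GrDeh.dehAway_of_mem hf' (φ.map_mem a.2)).trans ?_
      refine val_injective _ ?_
      rw [GrDeh.val_mkn, GrDeh.mkn, Away.map_mk, Away.val_mk]
      rfl
    | add a b ha hb => rw [map_add, map_add, map_add, map_add, ha, hb]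
  let F : Polynomial (Away 𝒜 f) →+* Away ℬ (φ f) := Polynomial.eval₂RingHom (Away.map φ f) (dB z)
  let e := RingEquiv.ofBijective _ hbij
  let GB : B →+* Polynomial (Away 𝒜 f) := (Polynomial.mapRingHom dA).comp e.symm.toRingHom
  have hGz : GB z = Polynomial.X := by
    have e1 : e Polynomial.X = z := by simp [e]
    show Polynomial.map dA (e.symm z) = Polynomial.X
    rw [← e1, RingEquiv.symm_apply_apply, Polynomial.map_X]
  have hGφ : ∀ a, GB (φ a) = Polynomial.C (dA a) := fun a => by
    have e1 : e (Polynomial.C a) = φ a := by simp [e]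
    show Polynomial.map dA (e.symm (φ a)) = _
    rw [← e1, RingEquiv.symm_apply_apply, Polynomial.map_C]
  have hdAf : dA f = 1 := by
    refine val_injective _ ?_
    simp only [dA]
    rw [GrDeh.dehAway_of_mem hf hf, GrDeh.val_mkn, val_one, Localization.mk_eq_mk',
      IsLocalization.mk'_eq_iff_eq_mul, one_mul]
    simp
  let GLz : Localization.Away (φ f) →+* Polynomial (Away 𝒜 f) :=
    IsLocalization.Away.lift (φ f) (g := GB) (by rw [hGφ, hdAf, map_one]; exact isUnit_one)
  let G : Away ℬ (φ f) →+* Polynomial (Away 𝒜 f) :=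
    GLz.comp (algebraMap (Away ℬ (φ f)) (Localization.Away (φ f)))
  have hGd : ∀ b, G (dB b) = GB b := by
    intro b
    induction b using DirectSum.Decomposition.inductionOn ℬ with
    | zero => simp
    | @homogeneous i b =>
      simp only [dB]
      rw [GrDeh.dehAway_of_mem hf' b.2]
      show GLz (GrDeh.mkn hf' i ⟨b.1, b.2⟩).val = _
      rw [GrDeh.val_mkn, Localization.mk_eq_mk']
      simp only [GLz, IsLocalization.Away.lift, IsLocalization.lift_mk'_spec, map_pow, hGφ, hdAf, map_one,
        one_pow, one_mul]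
    | add a b ha hb => rw [map_add, map_add, map_add, ha, hb]
  have hFG : ∀ b, F (GB b) = dB b := by
    intro b
    obtain ⟨P, rfl⟩ := hbij.2 b
    induction P using Polynomial.induction_on' with
    | add P Q hP hQ => simp only [map_add, hP, hQ]
    | monomial i c =>
      have e1 : Polynomial.eval₂RingHom (φ.toRingHom : A →+* B) z (Polynomial.monomial i c) = φ c * z ^ i := by
        simp
      rw [e1, map_mul, map_pow, map_mul, map_pow, map_mul, map_pow, hGz, hGφ, hd]
      simp [F]
  have hdsurj : Function.Surjective dB := by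
    intro w
    obtain ⟨i, b, hb, rfl⟩ := Away.mk_surjective ℬ hf' w
    refine ⟨b, ?_⟩
    simp only [dB]
    rw [GrDeh.dehAway_of_mem hf' (show b ∈ ℬ i by simpa using hb)]
    rfl
  have hGF : ∀ P, G (F P) = P := by
    intro P
    induction P using Polynomial.induction_on' with
    | add P Q hP hQ => simp only [map_add, hP, hQ]
    | monomial i c =>
      obtain ⟨j, a, ha, rfl⟩ := Away.mk_surjective 𝒜 hf c
      have hc : Away.mk 𝒜 hf j a ha = dA a := by
        simp only [dA]
        rw [GrDeh.dehAway_of_mem hf (show a ∈ 𝒜 j by simpa using ha)]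
        rfl
      simp only [F, Polynomial.coe_eval₂RingHom, Polynomial.eval₂_monomial]
      rw [hc, ← hd, map_mul, map_pow, hGd, hGd, hGφ, hGz, Polynomial.C_mul_X_pow_eq_monomial]
  refine ⟨RingEquiv.ofBijective F ⟨Function.LeftInverse.injective hGF, fun w => ?_⟩, fun x => ?_⟩
  · obtain ⟨b, rfl⟩ := hdsurj w
    exact ⟨GB b, hFG b⟩
  · show F (Polynomial.C x) = _
    simp [F]

/-- For `f` of degree one, `A_f` is the ring of Laurent polynomials over `A_(f)`. -/
theorem exists_laurent_equiv {f : A} (hf : f ∈ 𝒜 1) :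
    ∃ e : LaurentPolynomial (Away 𝒜 f) ≃+* Localization.Away f,
      ∀ x, e (LaurentPolynomial.C x) = algebraMap (Away 𝒜 f) (Localization.Away f) x := by
  classical
  let u : (Localization.Away f)ˣ :=
    (IsLocalization.Away.algebraMap_isUnit (S := Localization.Away f) f).unit
  let F : LaurentPolynomial (Away 𝒜 f) →+* Localization.Away f :=
    LaurentPolynomial.eval₂ (algebraMap (Away 𝒜 f) (Localization.Away f)) u
  let mkn : ∀ n, 𝒜 n → Away 𝒜 f := GrDeh.mkn hf
  have hval : ∀ n (x : 𝒜 n), (mkn n x).val =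
      Localization.mk (x : A) ⟨f ^ n, pow_mem (Submonoid.mem_powers f) n⟩ := GrDeh.val_mkn hf
  have hadd : ∀ n (x y : 𝒜 n), mkn n (x + y) = mkn n x + mkn n y := fun n x y => val_injective _ (by
    rw [val_add, hval, hval, hval, Localization.add_mk_self, AddMemClass.coe_add])
  let gn : ∀ n, 𝒜 n →+ LaurentPolynomial (Away 𝒜 f) := fun n =>
    AddMonoidHom.mk' (fun x => LaurentPolynomial.C (mkn n x) * LaurentPolynomial.T (n : ℤ))
      (fun x y => by rw [hadd, map_add, add_mul])
  have hone : gn 0 (GradedMonoid.GOne.one (A := fun i => 𝒜 i)) = 1 := by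
    show LaurentPolynomial.C (mkn 0 _) * LaurentPolynomial.T ((0 : ℕ) : ℤ) = 1
    rw [Nat.cast_zero, LaurentPolynomial.T_zero, mul_one,
      show mkn 0 (GradedMonoid.GOne.one (A := fun i => 𝒜 i)) = 1 from val_injective _ (by
        rw [hval, val_one, ← Localization.mk_one]
        exact congrArg₂ Localization.mk rfl (Subtype.ext (pow_zero _))), map_one]
  have hmul : ∀ {i j} (ai : 𝒜 i) (aj : 𝒜 j),
      gn _ (GradedMonoid.GMul.mul (A := fun i => 𝒜 i) ai aj) = gn _ ai * gn _ aj := by
    intro i j ai aj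
    show LaurentPolynomial.C (mkn (i + j) (GradedMonoid.GMul.mul (A := fun i => 𝒜 i) ai aj)) *
      LaurentPolynomial.T ((i + j : ℕ) : ℤ) = (LaurentPolynomial.C (mkn i ai) * LaurentPolynomial.T (i : ℤ)) *
        (LaurentPolynomial.C (mkn j aj) * LaurentPolynomial.T (j : ℤ))
    rw [show mkn (i + j) (GradedMonoid.GMul.mul (A := fun i => 𝒜 i) ai aj) = mkn i ai * mkn j aj from
      val_injective _ (by
        rw [val_mul, hval, hval, hval, Localization.mk_mul]
        exact congrArg₂ Localization.mk rfl (Subtype.ext (pow_add _ _ _))),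
      map_mul, Nat.cast_add, LaurentPolynomial.T_add]
    ring
  let G₀ : A →+* LaurentPolynomial (Away 𝒜 f) :=
    (DirectSum.toSemiring gn hone hmul).comp (DirectSum.decomposeRingEquiv 𝒜).toRingHom
  have hG₀ : ∀ n (x : A) (h : x ∈ 𝒜 n),
      G₀ x = LaurentPolynomial.C (mkn n ⟨x, h⟩) * LaurentPolynomial.T (n : ℤ) := fun n x h => by
    show DirectSum.toSemiring gn hone hmul (DirectSum.decompose 𝒜 x) = _
    rw [DirectSum.decompose_of_mem 𝒜 h, DirectSum.toSemiring_of]
    rfl
  have hG₀f : G₀ f = LaurentPolynomial.T 1 := by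
    rw [hG₀ 1 f hf, show mkn 1 ⟨f, hf⟩ = 1 from val_injective _ (by
      rw [hval, val_one, Localization.mk_eq_mk', IsLocalization.mk'_eq_iff_eq_mul, one_mul]
      simp), map_one, one_mul, Nat.cast_one]
  let G : Localization.Away f →+* LaurentPolynomial (Away 𝒜 f) :=
    IsLocalization.Away.lift f (g := G₀) (by rw [hG₀f]; exact LaurentPolynomial.isUnit_T 1)
  have hG : ∀ a, G (algebraMap A _ a) = G₀ a := fun a => IsLocalization.Away.lift_eq f _ a
  have hFC : ∀ x, F (LaurentPolynomial.C x) = algebraMap (Away 𝒜 f) (Localization.Away f) x :=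
    fun x => LaurentPolynomial.eval₂_C _ _ x
  have hFT : ∀ n : ℕ, F (LaurentPolynomial.T (n : ℤ)) = algebraMap A _ (f ^ n) := fun n => by
    rw [LaurentPolynomial.eval₂_T, zpow_natCast, Units.val_pow_eq_pow_val, map_pow]
    rfl
  have hFG : F.comp G = RingHom.id _ := by
    refine IsLocalization.ringHom_ext (Submonoid.powers f) (RingHom.ext fun a => ?_)
    simp only [RingHom.comp_apply, RingHom.id_apply, hG]
    induction a using DirectSum.Decomposition.inductionOn 𝒜 with
    | zero => simp
    | @homogeneous n a =>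
      rw [hG₀ n a a.2, map_mul, hFC, hFT, HomogeneousLocalization.algebraMap_apply, hval,
        Localization.mk_eq_mk', IsLocalization.mk'_spec]
    | add a b ha hb => simp [map_add, ha, hb]
  have hGθ : ∀ x, G (algebraMap (Away 𝒜 f) (Localization.Away f) x) = LaurentPolynomial.C x := by
    intro x
    obtain ⟨n, a, ha, rfl⟩ := Away.mk_surjective 𝒜 hf x
    have ha' : a ∈ 𝒜 n := by simpa using ha
    have h : algebraMap (Away 𝒜 f) (Localization.Away f) (Away.mk 𝒜 hf n a ha) *
        algebraMap A _ (f ^ n) = algebraMap A _ a := by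
      rw [HomogeneousLocalization.algebraMap_apply, Away.val_mk, Localization.mk_eq_mk',
        IsLocalization.mk'_spec]
    have h2 := congrArg G h
    rw [map_mul, hG, hG, map_pow, hG₀f, LaurentPolynomial.T_pow, mul_one, hG₀ n a ha'] at h2
    exact (LaurentPolynomial.isUnit_T (n : ℤ)).mul_left_inj.1 h2
  have hGF : G.comp F = RingHom.id _ := by
    refine IsLocalization.ringHom_ext (Submonoid.powers (Polynomial.X : Polynomial (Away 𝒜 f)))
      (Polynomial.ringHom_ext (fun x => ?_) ?_)
    · simp only [RingHom.comp_apply, RingHom.id_apply, LaurentPolynomial.algebraMap_eq_toLaurent,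
        Polynomial.toLaurent_C, hFC, hGθ]
    · simp only [RingHom.comp_apply, RingHom.id_apply, LaurentPolynomial.algebraMap_eq_toLaurent,
        Polynomial.toLaurent_X]
      rw [show (1 : ℤ) = ((1 : ℕ) : ℤ) from rfl, hFT, hG, pow_one, hG₀f]
      rfl
  exact ⟨RingEquiv.ofRingHom F G hFG hGF, hFC⟩

variable (θ : Away ℬ z →+* A)
  (hθ : ∀ (q : Away ℬ z) (k : ℕ) (a : A), a ∈ 𝒜 k →
    q.val = Localization.mk (φ a) ⟨z ^ k, pow_mem (Submonoid.mem_powers z) k⟩ → θ q = a)

include hθ in
/-- `D(f) ⊆ Spec A` maps into `D₊(φ f) ⊆ Proj A[z]`, over `A_(f)`. -/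
theorem exists_lift {f : A} (hf : f ∈ 𝒜 1) :
    ∃ χ : Away ℬ (φ f) →+* Localization.Away f,
      χ.comp (Away.map φ f) = algebraMap (Away 𝒜 f) (Localization.Away f) ∧
      Spec.map (CommRingCat.ofHom (algebraMap A (Localization.Away f))) ≫ AwayDehom.point z hz θ =
        Spec.map (CommRingCat.ofHom χ) ≫ Proj.awayι ℬ (φ f) (φ.2 hf) one_pos := by
  have hg : φ f ∈ ℬ 1 := φ.map_mem hf
  letI : Algebra (Away ℬ z) (Away ℬ (z * φ f)) := (awayMap ℬ hg rfl).toAlgebra
  haveI : IsLocalization.Away (Away.isLocalizationElem hz hg) (Away ℬ (z * φ f)) :=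
    Away.isLocalization_mul hz hg rfl one_ne_zero
  let alg : A →+* Localization.Away f := algebraMap A (Localization.Away f)
  have hθe : θ (Away.isLocalizationElem hz hg) = f := AwayDehom.θ_localizationElem φ z hz θ hθ hf
  have hu : IsUnit (alg.comp θ (Away.isLocalizationElem hz hg)) := by
    rw [RingHom.comp_apply, hθe]
    exact IsLocalization.Away.algebraMap_isUnit f
  obtain ⟨L, hL'⟩ : ∃ L : Away ℬ (z * φ f) →+* Localization.Away f,
      L.comp (algebraMap (Away ℬ z) (Away ℬ (z * φ f))) = alg.comp θ :=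
    ⟨_, IsLocalization.Away.lift_comp (Away.isLocalizationElem hz hg) hu⟩
  have hL : L.comp (awayMap ℬ hg rfl) = alg.comp θ := by
    rwa [RingHom.algebraMap_toAlgebra] at hL'
  refine ⟨L.comp (awayMap ℬ hz (mul_comm z (φ f))), ?_, ?_⟩
  · refine RingHom.ext fun q => ?_
    obtain ⟨n, a, ha, rfl⟩ := Away.mk_surjective 𝒜 hf q
    have ha' : a ∈ 𝒜 n := by simpa using ha
    have e1 : algebraMap (Away 𝒜 f) (Localization.Away f) (Away.mk 𝒜 hf n a ha) * alg (f ^ n) = alg a := by
      rw [HomogeneousLocalization.algebraMap_apply, Away.val_mk, Localization.mk_eq_mk']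
      exact IsLocalization.mk'_spec _ _ _
    have e2 : awayMap ℬ hz (mul_comm z (φ f)) (Away.map φ f (Away.mk 𝒜 hf n a ha)) *
        awayMap ℬ hg rfl (Away.isLocalizationElem hz hg) ^ n = awayMap ℬ hg rfl (AwayDehom.frac φ z hz ha') := by
      apply val_injective
      rw [Away.map_mk, AwayDehom.frac, Away.isLocalizationElem, awayMap_mk, awayMap_mk, awayMap_mk, val_mul,
        val_pow, Away.val_mk, Away.val_mk, Away.val_mk, Localization.mk_pow, Localization.mk_mul,
        Localization.mk_eq_mk_iff, Localization.r_iff_exists]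
      refine ⟨1, ?_⟩
      simp only [OneMemClass.coe_one, one_mul, Submonoid.coe_mul, SubmonoidClass.coe_pow, pow_one]
      ring
    have e3 := congrArg L e2
    rw [map_mul, map_pow, show ∀ w, L (awayMap ℬ hg rfl w) = alg (θ w) from fun w => congr($hL w),
      show ∀ w, L (awayMap ℬ hg rfl w) = alg (θ w) from fun w => congr($hL w),
      AwayDehom.θ_frac φ z hz θ hθ, hθe, ← map_pow] at e3
    exact ((IsLocalization.Away.algebraMap_isUnit f).pow n).mul_left_inj.1
      (by rw [← map_pow]; exact e3.trans e1.symm)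
  · have a1 := Proj.SpecMap_awayMap_awayι ℬ hz one_pos hg (rfl : z * φ f = z * φ f)
    have a2 := Proj.SpecMap_awayMap_awayι ℬ hg one_pos hz (mul_comm z (φ f))
    rw [AwayDehom.point, ← Spec.map_comp_assoc, ← CommRingCat.ofHom_comp, ← hL, CommRingCat.ofHom_comp,
      CommRingCat.ofHom_comp, Spec.map_comp_assoc, Spec.map_comp_assoc, a1, a2]

end

end Groth.Agent.H81.Cone.DegOne
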