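import Groth.Prelude.Def_PCone
import Groth.Agent.S3596
import Mathlib.RingTheory.GradedAlgebra.Noetherian
import Mathlib.RingTheory.GradedAlgebra.FiniteType

/-!
# An algebra whose `Proj` is that of its subalgebra generated in degree one
-/

set_option autoImplicit false
universe u

open CategoryTheory AlgebraicGeometry TopologicalSpace HomogeneousLocalization

namespace Groth.Agent.H81.Cone.EventuallyGen

noncomputable section

variable {R A B : Type u} [CommRing R] [CommRing A] [Algebra R A] {𝒜 : ℕ → Submodule R A} [GradedAlgebra 𝒜]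
  [CommRing B] [Algebra R B] {ℬ : ℕ → Submodule R B} [GradedAlgebra ℬ] {φ : 𝒜 →+*ᵍ ℬ}

/-- Where `Proj φ` is an isomorphism the maps of homogeneous localizations are bijective. -/
theorem bijective_awayMap (p : (PCone.dom φ : Scheme.{u}) ⟶ Proj 𝒜)
    (hp : ∀ (d : ℕ) (f : A) (hd : 0 < d) (hf : f ∈ 𝒜 d),
      PCone.chart φ hf hd ≫ p =
        Spec.map (CommRingCat.ofHom (Away.map φ f)) ≫ Proj.awayι 𝒜 f hf hd)
    [IsIso p] {d : ℕ} {f : A} (hd : 0 < d) (hf : f ∈ 𝒜 d) : Function.Bijective (Away.map φ f) := by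
  let c := PCone.chart φ hf hd
  let fB : φ f ∈ ℬ d := φ.map_mem hf
  have hc : c ≫ (PCone.dom φ).ι = Proj.awayι ℬ (φ f) fB hd := IsOpenImmersion.lift_fac _ _ _
  haveI : IsOpenImmersion (c ≫ (PCone.dom φ).ι) := hc ▸ inferInstance
  haveI : IsOpenImmersion c := IsOpenImmersion.of_comp c (PCone.dom φ).ι
  let σ : Spec (CommRingCat.of (Away ℬ (φ f))) ⟶ Spec (CommRingCat.of (Away 𝒜 f)) :=
    Spec.map (CommRingCat.ofHom (Away.map φ f))
  have key : c ≫ p = σ ≫ Proj.awayι 𝒜 f hf hd := hp d f hd hf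
  haveI : IsOpenImmersion (σ ≫ Proj.awayι 𝒜 f hf hd) := key ▸ inferInstance
  haveI : IsOpenImmersion σ := IsOpenImmersion.of_comp σ (Proj.awayι 𝒜 f hf hd)
  haveI : Surjective σ := by
    refine ⟨fun w => ?_⟩
    obtain ⟨y, hy⟩ : ∃ y, p y = Proj.awayι 𝒜 f hf hd w := (asIso p).hom.homeomorph.surjective _
    have h1 : y ∈ p ⁻¹ᵁ Proj.basicOpen 𝒜 f := by
      show p y ∈ Proj.basicOpen 𝒜 f
      rw [hy, ← Proj.opensRange_awayι 𝒜 f hf hd]
      exact ⟨w, rfl⟩
    rw [Groth.Agent.S3596.preimage_basicOpen φ p hp hd hf] at h1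
    obtain ⟨v, hv⟩ : (PCone.dom φ).ι y ∈ (Proj.awayι ℬ (φ f) fB hd).opensRange := by
      rw [Proj.opensRange_awayι]; exact h1
    refine ⟨v, (Proj.awayι 𝒜 f hf hd).isOpenEmbedding.injective ?_⟩
    rw [← Scheme.Hom.comp_apply, ← key, Scheme.Hom.comp_apply, ← hy]
    refine congrArg p ((PCone.dom φ).ι.isOpenEmbedding.injective ?_)
    rw [← Scheme.Hom.comp_apply, hc]
    exact hv
  haveI : IsIso σ := (isIso_iff_isOpenImmersion_and_surjective σ).2 ⟨inferInstance, inferInstance⟩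
  haveI : IsIso (CommRingCat.ofHom (Away.map φ f)) :=
    haveI : IsIso (Scheme.Spec.map (CommRingCat.ofHom (Away.map φ f)).op) := ‹IsIso σ›
    haveI := isIso_of_reflects_iso (CommRingCat.ofHom (Away.map φ f)).op Scheme.Spec
    isIso_of_op _
  exact ConcreteCategory.bijective_of_isIso (CommRingCat.ofHom (Away.map φ f))

theorem exists_pow_mul_mem
    {f : A} (hf : f ∈ 𝒜 1) (hsur : Function.Surjective (Away.map φ f)) {m : ℕ} {b : B} (hb : b ∈ ℬ m) :
    ∃ N : ℕ, φ (f ^ N) * b ∈ Set.range φ := by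
  have hb' : b ∈ ℬ (m • 1) := by simpa using hb
  obtain ⟨w, hw⟩ := hsur (Away.mk ℬ (φ.map_mem hf) m b hb')
  obtain ⟨k, a, ha, rfl⟩ := Away.mk_surjective 𝒜 hf w
  have h := congrArg HomogeneousLocalization.val hw
  rw [Away.map_mk, Away.val_mk, Away.val_mk, Localization.mk_eq_mk_iff, Localization.r_iff_exists] at h
  obtain ⟨⟨_, j, rfl⟩, h⟩ := h
  refine ⟨j + k, f ^ j * (f ^ m * a), ?_⟩
  simp only [map_mul, map_pow, pow_add] at h ⊢
  linear_combination h

section Gens

variable [Algebra.FiniteType (ℬ 0) B]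

/-- Each piece is generated over the degree-zero part by finitely many monomials. -/
theorem exists_gens : ∃ (s : Finset B), (∀ g ∈ s, ∃ e, e ≠ 0 ∧ g ∈ ℬ e) ∧
    ∀ n : ℕ, ∃ T : Finset B,
      (∀ t ∈ T, t ∈ ℬ n ∧ ∃ a : s → ℕ, t = ∏ g : s, (g : B) ^ a g) ∧
      ∀ y ∈ ℬ n, y ∈ Submodule.span (ℬ 0) (↑T : Set B) := by
  classical
  obtain ⟨s, hs, hdeg⟩ := GradedAlgebra.exists_finset_adjoin_eq_top_and_homogeneous_ne_zero ℬ
  have hdeg' : ∀ g : s, ∃ d, d ≠ 0 ∧ (g : B) ∈ ℬ d := fun g => hdeg g.1 g.2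
  choose d hd0 hd using hdeg'
  refine ⟨s, fun g hg => ⟨d ⟨g, hg⟩, hd0 _, hd ⟨g, hg⟩⟩, fun n => ?_⟩
  let mon : (s → ℕ) → B := fun a => ∏ g : s, (g : B) ^ a g
  have hmono : ∀ a : s → ℕ, mon a ∈ ℬ (∑ g, a g * d g) := fun a =>
    SetLike.prod_mem_graded ℬ (fun g => a g * d g) (fun g => (g : B) ^ a g) fun g _ => by
      rw [← smul_eq_mul]; exact SetLike.pow_mem_graded (a g) (hd g)
  let T : Finset B := ((Fintype.piFinset fun _ : s => Finset.range (n + 1)).filter
    fun a => ∑ g, a g * d g = n).image mon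
  refine ⟨T, fun t ht => ?_, fun y hy => ?_⟩
  · obtain ⟨a, ha, rfl⟩ := Finset.mem_image.1 ht
    exact ⟨(Finset.mem_filter.1 ha).2 ▸ hmono a, a, rfl⟩
  have hcl : ∀ x ∈ Submonoid.closure (s : Set B), ∃ a : s → ℕ, x = mon a := by
    intro x hx
    induction hx using Submonoid.closure_induction with
    | mem x hx =>
      refine ⟨fun g => if g = ⟨x, hx⟩ then 1 else 0, ?_⟩
      simp only [mon, pow_ite, pow_one, pow_zero, Finset.prod_ite_eq', Finset.mem_univ, if_true]
    | one => exact ⟨0, by simp [mon]⟩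
    | mul x y _ _ hx hy =>
      obtain ⟨a, rfl⟩ := hx
      obtain ⟨b, rfl⟩ := hy
      exact ⟨a + b, by simp [mon, pow_add, Finset.prod_mul_distrib]⟩
  have hall : ∀ z : B, (DirectSum.decompose ℬ z n : B) ∈ Submodule.span (ℬ 0) (↑T : Set B) := by
    intro z
    have hz : z ∈ Subalgebra.toSubmodule (⊤ : Subalgebra (ℬ 0) B) := trivial
    rw [← hs, Algebra.adjoin_eq_span] at hz
    induction hz using Submodule.span_induction with
    | mem z hz =>
      obtain ⟨a, rfl⟩ := hcl z hz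
      by_cases hn' : ∑ g, a g * d g = n
      · rw [DirectSum.decompose_of_mem_same _ (hn' ▸ hmono a)]
        refine Submodule.subset_span (Finset.mem_image.2 ⟨a, Finset.mem_filter.2
          ⟨Fintype.mem_piFinset.2 fun g => ?_, hn'⟩, rfl⟩)
        rw [Finset.mem_range]
        have h1 : a g * d g ≤ n := hn' ▸ Finset.single_le_sum (f := fun g => a g * d g)
          (fun _ _ => Nat.zero_le _) (Finset.mem_univ g)
        have h2 : a g ≤ a g * d g := Nat.le_mul_of_pos_right _ (Nat.pos_of_ne_zero (hd0 g))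
        omega
      · rw [DirectSum.decompose_of_mem_ne _ (hmono a) hn']
        exact zero_mem _
    | zero => rw [DirectSum.decompose_zero]; simp
    | add u v _ _ hu hv =>
      rw [DirectSum.decompose_add, DirectSum.add_apply, Submodule.coe_add]; exact add_mem hu hv
    | smul r u _ hu =>
      have : (DirectSum.decompose ℬ (r • u) n : B) = (r : B) * DirectSum.decompose ℬ u n := by
        show (DirectSum.decompose ℬ ((r : B) * u) n : B) = _
        rw [DirectSum.coe_decompose_mul_of_left_mem_of_le ℬ r.2 (Nat.zero_le n), Nat.sub_zero]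
      rw [this]
      exact Submodule.smul_mem _ r hu
  have := hall y
  rwa [DirectSum.decompose_of_mem_same _ hy] at this

theorem eventually_eq (hinj : Function.Injective φ) (h0 : Set.BijOn φ (𝒜 0) (ℬ 0))
    (h1 : Set.BijOn φ (𝒜 1) (ℬ 1)) (hgen : ∀ n : ℕ, 1 ≤ n → 𝒜 n = 𝒜 1 ^ n)
    (hdom : PCone.dom φ = ⊤) (hsur : ∀ f ∈ 𝒜 1, Function.Surjective (Away.map φ f)) :
    ∃ n₀ : ℕ, ∀ n : ℕ, n₀ ≤ n → ℬ n = ℬ 1 ^ n := by
  classical
  obtain ⟨s, hsdeg, hgens⟩ := exists_gens (ℬ := ℬ)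
  choose d hd0 hd using fun g : s => hsdeg g.1 g.2
  choose T hT hTspan using hgens
  -- finitely many elements of `A_1` generate it
  choose F hF hFeq using fun t : T 1 => h1.surjOn (hT 1 t.1 t.2).1
  let IB : Ideal B := Ideal.span (Set.range fun t => φ (F t))
  let IA : Ideal A := Ideal.span (Set.range F)
  have hB1 : ∀ y ∈ ℬ 1, y ∈ IB := fun y hy => by
    refine (Submodule.span_le (p := IB.restrictScalars (ℬ 0))).2 (fun t ht => ?_) (hTspan 1 y hy)
    exact Ideal.subset_span ⟨⟨t, ht⟩, hFeq ⟨t, ht⟩⟩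
  have hA1 : ∀ a ∈ 𝒜 1, a ∈ IA := fun a ha => by
    obtain ⟨c, hc⟩ := Submodule.mem_span_finset'.1 (hTspan 1 (φ a) (φ.map_mem ha))
    choose c' _ hc' using fun t => h0.surjOn (c t).2
    have e : a = ∑ t, c' t * F t := hinj (by
      rw [show φ (∑ t, c' t * F t) = ∑ t, φ (c' t) * φ (F t) from
        (map_sum φ.toRingHom _ _).trans (Finset.sum_congr rfl fun t _ => map_mul φ.toRingHom _ _)]
      rw [← hc]
      exact Finset.sum_congr rfl fun t _ => by rw [hc', hFeq]; rfl)
    rw [e]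
    exact sum_mem fun t _ => Ideal.mul_mem_left _ _ (Ideal.subset_span ⟨t, rfl⟩)
  have hAn : ∀ n, ∀ a ∈ 𝒜 n, a ∈ IA ^ n := by
    intro n
    induction n with
    | zero => exact fun a _ => by simp
    | succ n ih =>
      intro a ha
      rcases Nat.eq_zero_or_pos n with rfl | hn
      · rw [pow_one]; exact hA1 a ha
      rw [hgen (n + 1) (by omega), pow_succ, ← hgen n hn] at ha
      rw [pow_succ]
      induction ha using Submodule.mul_induction_on' with
      | mem_mul_mem u hu v hv => exact Ideal.mul_mem_mul (ih u hu) (hA1 v hv)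
      | add u _ v _ hu hv => exact add_mem hu hv
  -- every generator is in the radical of the ideal of `B_1`
  have hIB : IB.IsHomogeneous ℬ := Ideal.homogeneous_span ℬ _ (by
    rintro _ ⟨t, rfl⟩; exact ⟨1, φ.map_mem (hF t)⟩)
  have hrad : ∀ g : s, ∃ k, (g : B) ^ k ∈ IB := by
    intro g
    by_contra hne
    have hg : (g : B) ∉ IB.radical := fun ⟨k, hk⟩ => hne ⟨k, hk⟩
    rw [Ideal.radical_eq_sInf, Ideal.mem_sInf] at hg
    push Not at hg
    obtain ⟨P, ⟨hle, hP⟩, hgP⟩ := hg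
    let x : ProjectiveSpectrum ℬ :=
      { asHomogeneousIdeal := P.homogeneousCore ℬ
        isPrime := hP.homogeneousCore
        not_irrelevant_le := fun h => hgP (Ideal.toIdeal_homogeneousCore_le ℬ P
          (h (HomogeneousIdeal.mem_irrelevant_of_mem ℬ (Nat.pos_of_ne_zero (hd0 g)) (hd g)))) }
    have hx : (x : Proj ℬ) ∈ PCone.dom φ := hdom ▸ trivial
    obtain ⟨⟨f, e, he, hf⟩, hfx⟩ := Opens.mem_iSup.1 hx
    refine hfx ?_
    have h2 : (IB : Ideal B) ≤ x.asHomogeneousIdeal.toIdeal := by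
      have := Ideal.homogeneousCore_mono ℬ hle
      exact fun z hz => this ((hIB.toIdeal_homogeneousCore_eq_self).ge hz)
    refine h2 ?_
    have h3 : IA.map φ.toRingHom ≤ IB := by
      rw [Ideal.map_span, Ideal.span_le]
      rintro _ ⟨_, ⟨t, rfl⟩, rfl⟩
      exact Ideal.subset_span ⟨t, rfl⟩
    exact h3 (Ideal.mem_map_of_mem _ (Ideal.pow_le_self (by omega) (hAn e f hf)))
  choose k hk using hrad
  let M := 1 + ∑ g, k g * d g
  have hstep : ∀ n, M ≤ n → ∀ y ∈ ℬ n, y ∈ IB := by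
    intro n hn y hy
    refine (Submodule.span_le (p := IB.restrictScalars (ℬ 0))).2 (fun t ht => ?_) (hTspan n y hy)
    obtain ⟨htn, a, rfl⟩ := hT n t ht
    by_cases hex : ∃ g, k g ≤ a g
    · obtain ⟨g, hg⟩ := hex
      exact Ideal.mem_of_dvd _ ((pow_dvd_pow _ hg).trans
        (Finset.dvd_prod_of_mem (fun g : s => (g : B) ^ a g) (Finset.mem_univ g))) (hk g)
    · push Not at hex
      have hdegree : ∏ g : s, (g : B) ^ a g ∈ ℬ (∑ g, a g * d g) :=
        SetLike.prod_mem_graded ℬ (fun g => a g * d g) (fun g => (g : B) ^ a g) fun g _ => by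
          rw [← smul_eq_mul]; exact SetLike.pow_mem_graded (a g) (hd g)
      have hlt : ∑ g, a g * d g < n := by
        have : ∑ g, a g * d g ≤ ∑ g, k g * d g :=
          Finset.sum_le_sum fun g _ => Nat.mul_le_mul_right _ (hex g).le
        omega
      by_cases hz : ∏ g : s, (g : B) ^ a g = 0
      · rw [hz]; exact zero_mem _
      · exact absurd (DirectSum.degree_eq_of_mem_mem ℬ hdegree htn hz) hlt.ne
  -- the conductor
  let J : Ideal A :=
    { carrier := {a | ∀ t ∈ T (M - 1), φ a * t ∈ φ.toRingHom.range}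
      zero_mem' := fun t _ => by
        rw [show φ 0 = 0 from map_zero φ.toRingHom, zero_mul]; exact zero_mem _
      add_mem' := fun {a b} ha hb t ht => by
        rw [show φ (a + b) = φ a + φ b from map_add φ.toRingHom a b, add_mul]
        exact add_mem (ha t ht) (hb t ht)
      smul_mem' := fun c a ha t ht => by
        rw [show φ (c • a) = φ c * φ a from map_mul φ.toRingHom c a, mul_assoc]
        exact mul_mem ⟨c, rfl⟩ (ha t ht) }
  have hJrad : IA ≤ J.radical := by
    rw [Ideal.span_le]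
    rintro _ ⟨t, rfl⟩
    choose N hN using fun u : T (M - 1) =>
      exists_pow_mul_mem (φ := φ) (hF t) (hsur _ (hF t)) (hT (M - 1) u.1 u.2).1
    refine ⟨∑ u, N u, fun u hu => ?_⟩
    obtain ⟨q, hq⟩ : ∃ q, ∑ v, N v = q + N ⟨u, hu⟩ :=
      ⟨_, (Nat.sub_add_cancel (Finset.single_le_sum (fun _ _ => Nat.zero_le _) (Finset.mem_univ _))).symm⟩
    rw [hq, pow_add, show φ (F t ^ q * F t ^ N ⟨u, hu⟩) = φ (F t ^ q) * φ (F t ^ N ⟨u, hu⟩) from
      map_mul φ.toRingHom _ _, mul_assoc]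
    exact mul_mem ⟨_, rfl⟩ (hN ⟨u, hu⟩)
  obtain ⟨N, hN⟩ := Ideal.exists_pow_le_of_le_radical_of_fg hJrad
    (Submodule.fg_span (Set.finite_range F))
  have key : ∀ j, ∀ y ∈ ℬ (M - 1 + j), ∀ i, N ≤ i + j → ∀ a ∈ 𝒜 i, φ a * y ∈ φ.toRingHom.range := by
    intro j
    induction j with
    | zero =>
      intro y hy i hi a ha
      obtain ⟨c, hc⟩ := Submodule.mem_span_finset'.1 (hTspan (M - 1) y hy)
      rw [← hc, Finset.mul_sum]
      refine sum_mem fun t _ => ?_
      rw [show c t • (t : B) = (c t : B) * t from rfl, mul_left_comm]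
      obtain ⟨c', -, hc'⟩ := h0.surjOn (c t).2
      exact mul_mem ⟨c', hc'⟩ (hN (Ideal.pow_le_pow_right (by omega) (hAn i a ha)) t.1 t.2)
    | succ j ih =>
      intro y hy i hi a ha
      obtain ⟨c, hc⟩ := (Ideal.mem_span_range_iff_exists_fun).1 (hstep _ (by omega) y hy)
      have hy' : y = ∑ t, (DirectSum.decompose ℬ (c t) (M - 1 + j) : B) * φ (F t) := by
        conv_lhs => rw [← DirectSum.decompose_of_mem_same ℬ hy, ← hc, DirectSum.decompose_sum]
        rw [DFinsupp.finsetSum_apply, Submodule.coe_sum]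
        refine Finset.sum_congr rfl fun t _ => ?_
        have hFt : φ (F t) ∈ ℬ 1 := φ.map_mem (hF t)
        rw [DirectSum.coe_decompose_mul_of_right_mem_of_le ℬ hFt
          (show 1 ≤ M - 1 + (j + 1) by omega), show M - 1 + (j + 1) - 1 = M - 1 + j by omega]
      rw [hy', Finset.mul_sum]
      refine sum_mem fun t _ => ?_
      rw [← mul_assoc, mul_comm (φ a), mul_assoc, ← show φ (a * F t) = φ a * φ (F t) from
        map_mul φ.toRingHom _ _, mul_comm]
      exact ih _ (SetLike.coe_mem _) (i + 1) (by omega) _ (SetLike.mul_mem_graded ha (hF t))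
  refine ⟨M - 1 + N + 1, fun n hn => le_antisymm (fun y hy => ?_) ?_⟩
  · obtain ⟨j, rfl⟩ : ∃ j, n = M - 1 + j := ⟨n - (M - 1), by omega⟩
    obtain ⟨a, ha⟩ := key j y hy 0 (by omega) 1 SetLike.GradedOne.one_mem
    rw [show φ 1 = 1 from map_one φ.toRingHom, one_mul] at ha
    have ha' : φ a = y := ha
    have h2 : y = φ (DirectSum.decompose 𝒜 a (M - 1 + j) : A) := by
      rw [map_directSumDecompose 𝒜 ℬ φ, ha', DirectSum.decompose_of_mem_same ℬ hy]
    rw [h2]
    have h4 : ∀ m, 1 ≤ m → ∀ b ∈ 𝒜 1 ^ m, φ b ∈ ℬ 1 ^ m := by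
      intro m hm
      induction m, hm using Nat.le_induction with
      | base => intro b hb; rw [pow_one] at hb ⊢; exact φ.map_mem hb
      | succ m hm ihm =>
        intro b hb
        rw [pow_succ] at hb ⊢
        induction hb using Submodule.mul_induction_on' with
        | mem_mul_mem u hu v hv =>
          rw [show φ (u * v) = φ u * φ v from map_mul φ.toRingHom u v]
          exact Submodule.mul_mem_mul (ihm u hu) (φ.map_mem hv)
        | add u _ v _ hu hv =>
          rw [show φ (u + v) = φ u + φ v from map_add φ.toRingHom u v]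
          exact add_mem hu hv
    exact h4 _ (by omega) _ ((hgen _ (by omega)).le (SetLike.coe_mem _))
  · have : ∀ m, ℬ 1 ^ (m + 1) ≤ ℬ (m + 1) := by
      intro m
      induction m with
      | zero => rw [pow_one]
      | succ m ihm =>
        rw [pow_succ, Submodule.mul_le]
        exact fun u hu v hv => SetLike.mul_mem_graded (ihm hu) hv
    obtain ⟨m, rfl⟩ : ∃ m, n = m + 1 := ⟨n - 1, by omega⟩
    exact this m

end Gens

end

end Groth.Agent.H81.Cone.EventuallyGen
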