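import Mathlib.RingTheory.TensorProduct.Maps
import Mathlib.RingTheory.TensorProduct.MonoidAlgebra
import Mathlib.RingTheory.PolynomialAlgebra
import Mathlib.Algebra.Polynomial.Laurent
import Mathlib.AlgebraicGeometry.Morphisms.FiniteType
import Mathlib.AlgebraicGeometry.ResidueField

/-!
# Fibres of a morphism which is locally a (punctured) line over the target
-/

set_option autoImplicit false
universe u

open CategoryTheory CategoryTheory.Limits AlgebraicGeometry TensorProduct

namespace Groth.Agent.H81.Cone.FibreLine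

noncomputable section

theorem fibre_poly {P X : Scheme.{u}} (r : X ⟶ P) {R S : Type u} [CommRing R] [CommRing S] (ρ : R →+* S)
    (e : Polynomial R ≃+* S) (he : ∀ x, e (Polynomial.C x) = ρ x) (a : Spec (CommRingCat.of R) ⟶ P)
    [IsOpenImmersion a] (c : Spec (CommRingCat.of S) ⟶ X)
    (sq : IsPullback (Spec.map (CommRingCat.ofHom ρ)) c a r) (x : P) (hx : x ∈ a.opensRange) :
    ∃ e : pullback r (P.fromSpecResidueField x) ≅ Spec (CommRingCat.of (Polynomial (P.residueField x))),
      e.hom ≫ Spec.map (CommRingCat.ofHom (algebraMap (P.residueField x) (Polynomial (P.residueField x)))) =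
        pullback.snd r (P.fromSpecResidueField x) := by
  let κ := P.residueField x
  let l : Spec κ ⟶ Spec (CommRingCat.of R) :=
    IsOpenImmersion.lift a (P.fromSpecResidueField x) (by
      rw [Scheme.range_fromSpecResidueField]
      simpa using hx)
  let χ : CommRingCat.of R ⟶ κ := Spec.preimage l
  have hl : Spec.map χ ≫ a = P.fromSpecResidueField x := by
    rw [Spec.map_preimage]
    exact IsOpenImmersion.lift_fac _ _ _
  letI algκ : Algebra R κ := χ.hom.toAlgebra
  letI algS : Algebra R S := ρ.toAlgebra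
  let eA : Polynomial R ≃ₐ[R] S := AlgEquiv.ofRingEquiv (f := e) he
  let ψ : κ ⊗[R] S ≃ₐ[κ] Polynomial κ :=
    (Algebra.TensorProduct.congr (AlgEquiv.refl : κ ≃ₐ[κ] κ) eA.symm).trans (polyEquivTensor' R κ).symm
  have h2 := isPullback_SpecMap_of_isPushout _ _ _ _ (CommRingCat.isPushout_tensorProduct R κ S)
  have h3 := h2.flip.paste_horiz sq.flip
  rw [show Spec.map (CommRingCat.ofHom (algebraMap R κ)) ≫ a = P.fromSpecResidueField x from hl] at h3
  refine ⟨h3.isoPullback.symm ≪≫ asIso (Spec.map ψ.toRingEquiv.toCommRingCatIso.inv), ?_⟩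
  rw [Iso.trans_hom, Iso.symm_hom, asIso_hom, Category.assoc, Iso.inv_comp_eq,
    h3.isoPullback_hom_snd, ← Spec.map_comp]
  congr 1
  ext t
  exact (ψ.symm.commutes t)

theorem fibre_laurent {P X : Scheme.{u}} (r : X ⟶ P) {R S : Type u} [CommRing R] [CommRing S] (ρ : R →+* S)
    (e : LaurentPolynomial R ≃+* S) (he : ∀ x, e (LaurentPolynomial.C x) = ρ x) (a : Spec (CommRingCat.of R) ⟶ P)
    [IsOpenImmersion a] (c : Spec (CommRingCat.of S) ⟶ X)
    (sq : IsPullback (Spec.map (CommRingCat.ofHom ρ)) c a r) (x : P) (hx : x ∈ a.opensRange) :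
    ∃ e : pullback r (P.fromSpecResidueField x) ≅ Spec (CommRingCat.of (LaurentPolynomial (P.residueField x))),
      e.hom ≫ Spec.map (CommRingCat.ofHom (algebraMap (P.residueField x) (LaurentPolynomial (P.residueField x)))) =
        pullback.snd r (P.fromSpecResidueField x) := by
  let κ := P.residueField x
  let l : Spec κ ⟶ Spec (CommRingCat.of R) :=
    IsOpenImmersion.lift a (P.fromSpecResidueField x) (by
      rw [Scheme.range_fromSpecResidueField]
      simpa using hx)
  let χ : CommRingCat.of R ⟶ κ := Spec.preimage l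
  have hl : Spec.map χ ≫ a = P.fromSpecResidueField x := by
    rw [Spec.map_preimage]
    exact IsOpenImmersion.lift_fac _ _ _
  letI algκ : Algebra R κ := χ.hom.toAlgebra
  letI algS : Algebra R S := ρ.toAlgebra
  let eA : LaurentPolynomial R ≃ₐ[R] S := AlgEquiv.ofRingEquiv (f := e) he
  let ψ : κ ⊗[R] S ≃ₐ[κ] LaurentPolynomial κ :=
    (Algebra.TensorProduct.congr (AlgEquiv.refl : κ ≃ₐ[κ] κ) eA.symm).trans
      (AddMonoidAlgebra.scalarTensorEquiv R κ)
  have h2 := isPullback_SpecMap_of_isPushout _ _ _ _ (CommRingCat.isPushout_tensorProduct R κ S)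
  have h3 := h2.flip.paste_horiz sq.flip
  rw [show Spec.map (CommRingCat.ofHom (algebraMap R κ)) ≫ a = P.fromSpecResidueField x from hl] at h3
  refine ⟨h3.isoPullback.symm ≪≫ asIso (Spec.map ψ.toRingEquiv.toCommRingCatIso.inv), ?_⟩
  rw [Iso.trans_hom, Iso.symm_hom, asIso_hom, Category.assoc, Iso.inv_comp_eq,
    h3.isoPullback_hom_snd, ← Spec.map_comp]
  congr 1
  ext t
  exact (ψ.symm.commutes t)

theorem finiteType_of_poly {R S : Type u} [CommRing R] [CommRing S] (ρ : R →+* S)
    (e : Polynomial R ≃+* S) (he : ∀ x, e (Polynomial.C x) = ρ x) : ρ.FiniteType := by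
  have h := (RingHom.FiniteType.of_surjective e.toRingHom e.surjective).comp
    (RingHom.finiteType_algebraMap.2 (inferInstance : Algebra.FiniteType R (Polynomial R)))
  rwa [show e.toRingHom.comp (algebraMap R (Polynomial R)) = ρ from RingHom.ext he] at h

theorem finiteType_of_laurent {R S : Type u} [CommRing R] [CommRing S] (ρ : R →+* S)
    (e : LaurentPolynomial R ≃+* S) (he : ∀ x, e (LaurentPolynomial.C x) = ρ x) : ρ.FiniteType := by
  have hC : (LaurentPolynomial.C : R →+* LaurentPolynomial R).FiniteType := by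
    have : Algebra.FiniteType R (LaurentPolynomial R) := inferInstance
    exact RingHom.finiteType_algebraMap.2 this
  have h := (RingHom.FiniteType.of_surjective e.toRingHom e.surjective).comp hC
  rwa [show e.toRingHom.comp LaurentPolynomial.C = ρ from RingHom.ext he] at h

/-- Local finite type from squares over an open cover of the target. -/
theorem locallyOfFiniteType {P X : Scheme.{u}} (r : X ⟶ P)
    (H : ∀ x : P, ∃ (R S : CommRingCat.{u}) (ρ : R ⟶ S) (a : Spec R ⟶ P) (_ : IsOpenImmersion a)
      (c : Spec S ⟶ X), x ∈ a.opensRange ∧ ρ.hom.FiniteType ∧ IsPullback (Spec.map ρ) c a r) :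
    LocallyOfFiniteType r := by
  choose R S ρ a ha c hx hft sq using H
  let 𝒰 : P.OpenCover := .mkOfCovers P (fun x => Spec (R x)) a (fun x => ⟨x, hx x⟩) ha
  refine IsZariskiLocalAtTarget.of_openCover (P := @LocallyOfFiniteType) 𝒰 fun x => ?_
  change LocallyOfFiniteType (pullback.snd r (a x))
  rw [← (sq x).flip.isoPullback_inv_snd, MorphismProperty.cancel_left_of_respectsIso @LocallyOfFiniteType]
  exact (HasRingHomProperty.Spec_iff (P := @LocallyOfFiniteType)).2 (hft x)

end

end Groth.Agent.H81.Cone.FibreLine
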