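import Groth.Agent.H81.Cone.Infinity

/-!
# Frames of a graded polynomial algebra and the exchange of the two variables
-/

set_option autoImplicit false
universe u

open CategoryTheory AlgebraicGeometry TopologicalSpace Opposite HomogeneousLocalization
open Polynomial (C X eval₂RingHom)
open scoped HomogeneousIdeal

namespace Groth.Agent.H81.Cone.FrameRing

noncomputable section

/-- `t` is a degree one polynomial generator over `R`. -/
structure Fr {R A σ : Type u} [CommRing R] [CommRing A] [SetLike σ A] [AddSubgroupClass σ A]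
    (φ : R →+* A) (𝒜 : ℕ → σ) [GradedRing 𝒜] (t : A) : Prop where
  deg0 : ∀ r, φ r ∈ 𝒜 0
  mem : t ∈ 𝒜 1
  bij : Function.Bijective (eval₂RingHom φ t)

/-- The inverse of a bijection at a computed value. -/
theorem ofBij_symm {S T : Type u} [CommRing S] [CommRing T] (f : S →+* T) (hf : Function.Bijective f) {x : S} {y : T}
    (h : f x = y) : (RingEquiv.ofBijective f hf).symm y = x := by
  subst h
  exact (RingEquiv.ofBijective f hf).symm_apply_apply x

section Basic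

variable {R A σ : Type u} [CommRing R] [CommRing A] [SetLike σ A] [AddSubgroupClass σ A] {φ : R →+* A}
  {𝒜 : ℕ → σ} [GradedRing 𝒜] {t : A}

theorem Fr.ext (h : Fr φ 𝒜 t) {C : Type u} [CommRing C] (f g : A →+* C) (hr : ∀ r, f (φ r) = g (φ r))
    (ht : f t = g t) : f = g := by
  refine RingHom.ext fun a => ?_
  obtain ⟨P, rfl⟩ := h.bij.2 a
  induction P using Polynomial.induction_on' with
  | add P Q hP hQ => rw [map_add, map_add, map_add, hP, hQ]
  | monomial i r => simp [hr, ht]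

theorem Fr.exists_coeff (h : Fr φ 𝒜 t) {k : ℕ} {a : A} (ha : a ∈ 𝒜 k) : ∃ r, a = φ r * t ^ k := by
  classical
  obtain ⟨P, hP⟩ := h.bij.2 a
  refine ⟨P.coeff k, ?_⟩
  have hm : ∀ i, φ (P.coeff i) * t ^ i ∈ 𝒜 i := fun i => by
    simpa using SetLike.mul_mem_graded (h.deg0 (P.coeff i)) (SetLike.pow_mem_graded i h.mem)
  have e : GradedRing.proj 𝒜 k a = a := DirectSum.decompose_of_mem_same 𝒜 ha
  rw [← e, ← hP, Polynomial.coe_eval₂RingHom, Polynomial.eval₂_eq_sum_range, map_sum]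
  rw [Finset.sum_eq_single k]
  · exact DirectSum.decompose_of_mem_same 𝒜 (hm k)
  · intro i _ hik
    exact DirectSum.decompose_of_mem_ne 𝒜 (hm i) hik
  · intro hk
    rw [Polynomial.coeff_eq_zero_of_natDegree_lt (by simpa [Finset.mem_range] using hk)]
    simp

theorem Fr.irrelevant_le (h : Fr φ 𝒜 t) {P : Ideal A} (ht : t ∈ P) :
    (HomogeneousIdeal.irrelevant 𝒜).toIdeal ≤ P := by
  rw [HomogeneousIdeal.toIdeal_irrelevant_le]
  intro i hi a ha
  obtain ⟨r, rfl⟩ := h.exists_coeff ha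
  exact Ideal.mul_mem_left _ _ (Ideal.pow_mem_of_mem _ ht i hi)

theorem Fr.t_mem_irrelevant (h : Fr φ 𝒜 t) : t ∈ (HomogeneousIdeal.irrelevant 𝒜).toIdeal :=
  HomogeneousIdeal.mem_irrelevant_of_mem _ one_pos h.mem

end Basic

section Cone

variable {R A σ : Type u} [CommRing R] [CommRing A] [SetLike σ A] [AddSubgroupClass σ A] {φ : R →+* A}
  {𝒜 : ℕ → σ} [GradedRing 𝒜] {t : A}
  {B σ' : Type u} [CommRing B] [SetLike σ' B] [AddSubgroupClass σ' B] {ℬ : ℕ → σ'} [GradedRing ℬ]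
  (ι : 𝒜 →+*ᵍ ℬ) {z : B} (hz : z ∈ ℬ 1)
  (hbij : Function.Bijective (eval₂RingHom (ι.toRingHom : A →+* B) z))

include hbij in
theorem coneExt {C : Type u} [CommRing C] (h : Fr φ 𝒜 t) (f g : B →+* C) (hr : ∀ r, f (ι (φ r)) = g (ι (φ r)))
    (ht : f (ι t) = g (ι t)) (hz' : f z = g z) : f = g := by
  refine RingHom.ext fun b => ?_
  obtain ⟨P, rfl⟩ := hbij.2 b
  have hι : f.comp ι.toRingHom = g.comp ι.toRingHom := h.ext _ _ hr ht
  induction P using Polynomial.induction_on' with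
  | add P Q hP hQ => rw [map_add, map_add, map_add, hP, hQ]
  | monomial i a =>
    simp only [Polynomial.coe_eval₂RingHom, Polynomial.eval₂_monomial, map_mul, map_pow, hz']
    rw [show f (ι.toRingHom a) = g (ι.toRingHom a) from RingHom.congr_fun hι a]

theorem dom_iff (h : Fr φ 𝒜 t) (y : ProjectiveSpectrum ℬ) :
    y ∈ RelCone.domOpen ι ↔ ι t ∉ y.asHomogeneousIdeal := by
  refine (RelCone.mem_domOpen ι y).trans ⟨fun ⟨f, hf, hfy⟩ hty => hfy ?_, fun hty => ⟨t, h.t_mem_irrelevant, hty⟩⟩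
  exact h.irrelevant_le (P := Ideal.comap ι.toRingHom y.asHomogeneousIdeal.toIdeal) hty hf

variable {A' σ₁ : Type u} [CommRing A'] [SetLike σ₁ A'] [AddSubgroupClass σ₁ A'] {φ' : R →+* A'}
  {𝒜' : ℕ → σ₁} [GradedRing 𝒜'] {t' : A'}

/-- The graded homomorphism sending the frame of `𝒜'` to the variable. -/
def twist (h : Fr φ 𝒜 t) (h' : Fr φ' 𝒜' t') (hz : z ∈ ℬ 1) : 𝒜' →+*ᵍ ℬ where
  __ := (eval₂RingHom ((ι.toRingHom : A →+* B).comp φ) z).comp (RingEquiv.ofBijective _ h'.bij).symm.toRingHom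
  map_mem := by
    intro k a ha
    obtain ⟨r, rfl⟩ := h'.exists_coeff ha
    have e : φ' r * t' ^ k = RingEquiv.ofBijective _ h'.bij (C r * X ^ k) := by simp
    change eval₂RingHom ((ι.toRingHom : A →+* B).comp φ) z ((RingEquiv.ofBijective _ h'.bij).symm (φ' r * t' ^ k)) ∈ ℬ k
    rw [e, RingEquiv.symm_apply_apply]
    have hm : ι (φ r) * z ^ k ∈ ℬ k := by
      simpa using SetLike.mul_mem_graded (ι.map_mem (h.deg0 r)) (SetLike.pow_mem_graded k hz)
    simpa using hm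

theorem twist_φ (h : Fr φ 𝒜 t) (h' : Fr φ' 𝒜' t') (r : R) : twist ι h h' hz (φ' r) = ι (φ r) := by
  change eval₂RingHom ((ι.toRingHom : A →+* B).comp φ) z ((RingEquiv.ofBijective _ h'.bij).symm (φ' r)) = _
  have e : φ' r = RingEquiv.ofBijective _ h'.bij (C r) := by simp
  rw [e, RingEquiv.symm_apply_apply]
  simp

theorem twist_t (h : Fr φ 𝒜 t) (h' : Fr φ' 𝒜' t') : twist ι h h' hz t' = z := by
  change eval₂RingHom ((ι.toRingHom : A →+* B).comp φ) z ((RingEquiv.ofBijective _ h'.bij).symm t') = z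
  rw [ofBij_symm _ h'.bij (x := X) (by simp)]
  simp

theorem ιt_mem (h : Fr φ 𝒜 t) : ι t ∈ ℬ 1 := ι.map_mem h.mem

include hbij in
theorem twist_bij (h : Fr φ 𝒜 t) (h' : Fr φ' 𝒜' t') :
    Function.Bijective (eval₂RingHom ((twist ι h h' hz).toRingHom : A' →+* B) (ι t)) := by
  let g₁ : A →+* Polynomial A' :=
    (eval₂RingHom (C.comp φ') X).comp (RingEquiv.ofBijective _ h.bij).symm.toRingHom
  have hg₁φ : ∀ r, g₁ (φ r) = C (φ' r) := fun r => by
    have e : φ r = RingEquiv.ofBijective _ h.bij (C r) := by simp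
    change eval₂RingHom (C.comp φ') X ((RingEquiv.ofBijective _ h.bij).symm (φ r)) = _
    rw [e, RingEquiv.symm_apply_apply]
    simp
  have hg₁t : g₁ t = X := by
    change eval₂RingHom (C.comp φ') X ((RingEquiv.ofBijective _ h.bij).symm t) = _
    rw [ofBij_symm _ h.bij (x := X) (by simp)]
    simp
  let G : B →+* Polynomial A' := (eval₂RingHom g₁ (C t')).comp (RingEquiv.ofBijective _ hbij).symm.toRingHom
  have hGι : ∀ a, G (ι a) = g₁ a := fun a => by
    have e : ι a = RingEquiv.ofBijective _ hbij (C a) := by simp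
    change eval₂RingHom g₁ (C t') ((RingEquiv.ofBijective _ hbij).symm (ι a)) = _
    rw [e, RingEquiv.symm_apply_apply]
    simp
  have hGz : G z = C t' := by
    change eval₂RingHom g₁ (C t') ((RingEquiv.ofBijective _ hbij).symm z) = _
    rw [ofBij_symm _ hbij (x := X) (by simp)]
    simp
  let F := eval₂RingHom ((twist ι h h' hz).toRingHom : A' →+* B) (ι t)
  have hFC : ∀ a, F (C a) = twist ι h h' hz a := fun a => by simp [F]
  have hFX : F X = ι t := by simp [F]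
  have h₁ : G.comp F = RingHom.id _ := by
    refine Polynomial.ringHom_ext (fun a => ?_) ?_
    · refine RingHom.congr_fun (h'.ext ((G.comp F).comp C) C (fun r => ?_) ?_) a
      · simp only [RingHom.comp_apply, hFC, twist_φ, hGι, hg₁φ]
      · simp only [RingHom.comp_apply, hFC, twist_t, hGz]
    · simp only [RingHom.comp_apply, hFX, hGι, hg₁t, RingHom.id_apply]
  have h₂ : F.comp G = RingHom.id _ := by
    refine coneExt ι hbij h _ _ (fun r => ?_) ?_ ?_
    · simp only [RingHom.comp_apply, hGι, hg₁φ, hFC, twist_φ, RingHom.id_apply]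
    · simp only [RingHom.comp_apply, hGι, hg₁t, hFX, RingHom.id_apply]
    · simp only [RingHom.comp_apply, hGz, hFC, twist_t, RingHom.id_apply]
  exact ⟨Function.LeftInverse.injective (g := G) (fun x => RingHom.congr_fun h₁ x),
    Function.RightInverse.surjective (g := G) (fun x => RingHom.congr_fun h₂ x)⟩

theorem twist_scale {t₁ : A} {t₁' : A'} (h : Fr φ 𝒜 t) (h' : Fr φ' 𝒜' t') (h₁ : Fr φ 𝒜 t₁)
    (h₁' : Fr φ' 𝒜' t₁') {u : R} (hu : φ' u * t₁' = t') {k : ℕ} {a : A'} (ha : a ∈ 𝒜' k) :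
    twist ι h₁ h₁' hz a = ι (φ u) ^ k * twist ι h h' hz a := by
  obtain ⟨r, rfl⟩ := h'.exists_coeff ha
  rw [map_mul (twist ι h h' hz), map_pow (twist ι h h' hz), twist_φ, twist_t, ← hu, map_mul, map_pow, map_mul,
    twist_φ, twist_φ, twist_t]
  ring

end Cone

section Dehom

variable {A σ : Type u} [CommRing A] [SetLike σ A] [AddSubgroupClass σ A] {𝒜 : ℕ → σ} [GradedRing 𝒜]
  {B σ' : Type u} [CommRing B] [SetLike σ' B] [AddSubgroupClass σ' B] {ℬ : ℕ → σ'} [GradedRing ℬ]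
  (ι : 𝒜 →+*ᵍ ℬ) {z : B}
  (hbij : Function.Bijective (eval₂RingHom (ι.toRingHom : A →+* B) z))

/-- The dehomogenization at `z`. -/
def dehom : Away ℬ z →+* A :=
  (IsLocalization.Away.lift z (g := PolyGr.evalOne ι z hbij) (by rw [PolyGr.evalOne_z]; exact isUnit_one)).comp
    (algebraMap (Away ℬ z) (Localization.Away z))

theorem dehom_spec (q : Away ℬ z) (k : ℕ) (a : A) (_ : a ∈ 𝒜 k)
    (hq : q.val = Localization.mk (ι a) ⟨z ^ k, pow_mem (Submonoid.mem_powers z) k⟩) : dehom ι hbij q = a := by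
  rw [dehom, RingHom.comp_apply, HomogeneousLocalization.algebraMap_apply, hq, Localization.mk_eq_mk',
    IsLocalization.Away.lift, IsLocalization.lift_mk', Units.mul_inv_eq_iff_eq_mul, IsUnit.coe_liftRight]
  simp [map_pow, PolyGr.evalOne_z, PolyGr.evalOne_ι]

end Dehom

section Scale

variable {B σ' : Type u} [CommRing B] [SetLike σ' B] [AddSubgroupClass σ' B] {ℬ : ℕ → σ'} [GradedRing ℬ]

theorem point_scale {A σ : Type u} [CommRing A] [SetLike σ A] [AddSubgroupClass σ A] {𝒜 : ℕ → σ} [GradedRing 𝒜]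
    (ι₀ ι₁ : 𝒜 →+*ᵍ ℬ) {z₀ z₁ : B} (hz₀ : z₀ ∈ ℬ 1) (hz₁ : z₁ ∈ ℬ 1) {c : B} (hc0 : c ∈ ℬ 0)
    (hzc : z₁ = z₀ * c) (hsc : ∀ (k : ℕ), ∀ a ∈ 𝒜 k, ι₁ a = c ^ k * ι₀ a)
    (hbij₀ : Function.Bijective (eval₂RingHom (ι₀.toRingHom : A →+* B) z₀))
    (θ₀ : Away ℬ z₀ →+* A)
    (hθ₀ : ∀ (q : Away ℬ z₀) (k : ℕ) (a : A), a ∈ 𝒜 k →
      q.val = Localization.mk (ι₀ a) ⟨z₀ ^ k, pow_mem (Submonoid.mem_powers z₀) k⟩ → θ₀ q = a)
    (θ₁ : Away ℬ z₁ →+* A)
    (hθ₁ : ∀ (q : Away ℬ z₁) (k : ℕ) (a : A), a ∈ 𝒜 k →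
      q.val = Localization.mk (ι₁ a) ⟨z₁ ^ k, pow_mem (Submonoid.mem_powers z₁) k⟩ → θ₁ q = a) :
    AwayDehom.point z₁ hz₁ θ₁ = AwayDehom.point z₀ hz₀ θ₀ := by
  have key : θ₁.comp (awayMap ℬ hc0 hzc) = θ₀ := by
    refine ConeImm.hom_ext_frac ι₀ hz₀ hbij₀ θ₀ hθ₀ _ _ fun k a ha => ?_
    rw [RingHom.comp_apply, AwayDehom.θ_frac ι₀ z₀ hz₀ θ₀ hθ₀]
    refine hθ₁ _ k a ha ?_
    rw [AwayDehom.frac, awayMap_mk, Away.val_mk, hsc k a ha, mul_comm]
  simp only [AwayDehom.point]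
  rw [← key, CommRingCat.ofHom_comp, Spec.map_comp, Category.assoc, Proj.SpecMap_awayMap_awayι]

theorem map_eq_of_scale {A σ : Type u} [CommRing A] [SetLike σ A] [AddSubgroupClass σ A] {𝒜 : ℕ → σ}
    [GradedRing 𝒜] (f g : 𝒜 →+*ᵍ ℬ) {c : B} (hc0 : c ∈ ℬ 0) (hsc : ∀ (k : ℕ), ∀ a ∈ 𝒜 k, g a = c ^ k * f a)
    (hf : ℬ₊ ≤ 𝒜₊.map f) (hg : ℬ₊ ≤ 𝒜₊.map g) : Proj.map g hg = Proj.map f hf := by
  refine (Proj.mapAffineOpenCover g hg).openCover.hom_ext _ _ fun s => ?_
  simp only [Scheme.AffineOpenCover.openCover_f, Proj.mapAffineOpenCover_f]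
  obtain ⟨⟨m, hm⟩, s, hs⟩ := s
  have hcm : c ^ m ∈ ℬ 0 := by simpa using SetLike.pow_mem_graded m hc0
  have hx : g s = f s * c ^ m := by rw [hsc m s hs, mul_comm]
  have key : (awayMap ℬ hcm hx).comp (Away.map f s) = Away.map g s := by
    refine RingHom.ext fun q => ?_
    obtain ⟨n, a, ha, rfl⟩ := Away.mk_surjective 𝒜 hs q
    apply val_injective
    rw [RingHom.comp_apply, Away.map_mk, awayMap_mk, Away.val_mk, Away.map_mk, Away.val_mk]
    congr 1
    rw [hsc (n • m) a ha, ← pow_mul, smul_eq_mul, mul_comm n m, mul_comm]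
  refine (Proj.awayι_comp_map g hg hm s hs).trans ?_
  rw [← key, CommRingCat.ofHom_comp, Spec.map_comp, Category.assoc, ← Proj.awayι_comp_map f hf hm s hs,
    Proj.SpecMap_awayMap_awayι_assoc]
  rfl

end Scale

end

end Groth.Agent.H81.Cone.FrameRing
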