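import Groth.Agent.H81.Cone.Frames

/-!
# The affine spectrum inside the pointed projective cone through frames
-/

set_option autoImplicit false
universe u

open CategoryTheory AlgebraicGeometry TopologicalSpace Opposite HomogeneousLocalization
open scoped HomogeneousIdeal

namespace Groth.Agent.H81.Cone.FrameSpec

open Groth.Agent.H81.Cone.Frames (Fam FrV)

noncomputable section

variable {Y PC : Scheme.{u}} {𝒮 Sh 𝒮' : RelProj.QCGrAlg Y} {ι : 𝒮.toQCAlg ⟶ Sh.toQCAlg}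
  {z : Sh.presheaf.obj (op ⊤)} (h : RelCone.IsPolyOver 𝒮 Sh ι z) (pC : PC ⟶ Y)
  (chartC : ∀ (U : Y.Opens) (hU : IsAffineOpen U), (((pC ⁻¹ᵁ U : PC.Opens) : Scheme.{u}) ≅ Proj (Sh.deg U hU)))
  (hPC : RelProj.IsRelProj Sh pC chartC)
  {T : ∀ V : Y.affineOpens, 𝒮.presheaf.obj (op V.1) → 𝒮'.presheaf.obj (op V.1) → Prop} (hT : Fam 𝒮 𝒮' T)

/-- The component of `ι`. -/
abbrev ιG (V : Y.affineOpens) : 𝒮.deg V.1 V.2 →+*ᵍ Sh.deg V.1 V.2 :=
  RelProj.gradedHomAt ι h.graded V.1 V.2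

theorem ιG_str (V : Y.affineOpens) (r : Γ(Y, V.1)) :
    ιG h V ((𝒮.str.app (op V.1)).hom r) = (Sh.str.app (op V.1)).hom r :=
  congr(($(NatTrans.congr_app ι.comm (op V.1))).hom r)

theorem hbij (V : Y.affineOpens) : Function.Bijective
    (Polynomial.eval₂RingHom ((ιG h V).toRingHom : 𝒮.presheaf.obj (op V.1) →+* Sh.presheaf.obj (op V.1))
      (RelCone.restrictTop Sh z V.1)) :=
  h.bij V.1 V.2

variable {V : Y.affineOpens} {t : 𝒮.presheaf.obj (op V.1)} {t' : 𝒮'.presheaf.obj (op V.1)}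

/-- The twisted graded homomorphism of a frame. -/
def tw (ht : T V t t') : 𝒮'.deg V.1 V.2 →+*ᵍ Sh.deg V.1 V.2 :=
  FrameRing.twist (ιG h V) (hT.fr V t t' ht) (hT.fr' V t t' ht) (h.deg_z V.1 V.2)

theorem tw_str (ht : T V t t') (r : Γ(Y, V.1)) :
    tw h hT ht ((𝒮'.str.app (op V.1)).hom r) = (Sh.str.app (op V.1)).hom r :=
  (FrameRing.twist_φ (ιG h V) (h.deg_z V.1 V.2) (hT.fr V t t' ht) (hT.fr' V t t' ht) r).trans (ιG_str h V r)

theorem tw_t (ht : T V t t') : tw h hT ht t' = RelCone.restrictTop Sh z V.1 :=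
  FrameRing.twist_t (ιG h V) (h.deg_z V.1 V.2) (hT.fr V t t' ht) (hT.fr' V t t' ht)

theorem tw_bij (ht : T V t t') : Function.Bijective
    (Polynomial.eval₂RingHom ((tw h hT ht).toRingHom : 𝒮'.presheaf.obj (op V.1) →+* Sh.presheaf.obj (op V.1))
      (ιG h V t)) :=
  FrameRing.twist_bij (ιG h V) (h.deg_z V.1 V.2) (hbij h V) (hT.fr V t t' ht) (hT.fr' V t t' ht)

theorem tw_res (ht : T V t t') {D : Y.affineOpens} (hD : Groth.Agent.H81.RelProj.RelTilde.Rel D V) (a : 𝒮'.presheaf.obj (op V.1)) :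
    Sh.res V.2 D.2 hD.le (tw h hT ht a) = tw h hT (hT.res D V hD t t' ht) (𝒮'.res V.2 D.2 hD.le a) := by
  refine RingHom.congr_fun ((hT.fr' V t t' ht).ext ((Sh.res V.2 D.2 hD.le).toRingHom.comp (tw h hT ht).toRingHom)
    ((tw h hT (hT.res D V hD t t' ht)).toRingHom.comp (𝒮'.res V.2 D.2 hD.le).toRingHom) (fun r => ?_) ?_) a
  · change Sh.res V.2 D.2 hD.le (tw h hT ht ((𝒮'.str.app (op V.1)).hom r)) =
      tw h hT (hT.res D V hD t t' ht) (𝒮'.res V.2 D.2 hD.le ((𝒮'.str.app (op V.1)).hom r))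
    rw [tw_str]
    refine (RelProj.Chart.str_res Sh hD.le r).trans ?_
    refine Eq.trans ?_ (congrArg (tw h hT (hT.res D V hD t t' ht)) (RelProj.Chart.str_res 𝒮' hD.le r).symm)
    exact (tw_str h hT (hT.res D V hD t t' ht) _).symm
  · change Sh.res V.2 D.2 hD.le (tw h hT ht t') = tw h hT (hT.res D V hD t t' ht) (𝒮'.res V.2 D.2 hD.le t')
    rw [tw_t, tw_t]
    exact Frames.res_res Sh hD.le z

theorem tw_scale (ht : T V t t') {s : 𝒮.presheaf.obj (op V.1)} {s' : 𝒮'.presheaf.obj (op V.1)} (hs : T V s s')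
    {v : Γ(Y, V.1)} (hv : (𝒮'.str.app (op V.1)).hom v * s' = t') (k : ℕ) (a : 𝒮'.presheaf.obj (op V.1))
    (ha : a ∈ 𝒮'.deg V.1 V.2 k) : tw h hT hs a = (Sh.str.app (op V.1)).hom v ^ k * tw h hT ht a := by
  rw [← ιG_str h V v]
  exact FrameRing.twist_scale (ιG h V) (h.deg_z V.1 V.2) (hT.fr V t t' ht) (hT.fr' V t t' ht) (hT.fr V s s' hs)
    (hT.fr' V s s' hs) hv ha

include hT in
theorem ιt_mem (ht : T V t t') : ιG h V t ∈ Sh.deg V.1 V.2 1 :=
  (ιG h V).map_mem (hT.fr V t t' ht).mem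

/-- The dehomogenization at the frame. -/
def θ (ht : T V t t') : Away (Sh.deg V.1 V.2) (ιG h V t) →+* 𝒮'.presheaf.obj (op V.1) :=
  FrameRing.dehom (tw h hT ht) (tw_bij h hT ht)

/-- The chart of the morphism. -/
def pt (ht : T V t t') : Spec (𝒮'.presheaf.obj (op V.1)) ⟶ PC :=
  AwayDehom.point (ιG h V t) (ιt_mem h hT ht) (θ h hT ht) ≫ RelProj.emb pC chartC V.1 V.2

include hPC in
theorem pt_res (ht : T V t t') {D : Y.affineOpens} (hD : Groth.Agent.H81.RelProj.RelTilde.Rel D V) :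
    Spec.map (𝒮'.presheaf.map (homOfLE hD.le).op) ≫ pt h pC chartC hT ht =
      pt h pC chartC hT (hT.res D V hD t t' ht) :=
  ConeImm.point_nat (tw h hT ht) (ιt_mem h hT ht) (tw_bij h hT ht) (θ h hT ht)
    (FrameRing.dehom_spec (tw h hT ht) (tw_bij h hT ht))
    (tw h hT (hT.res D V hD t t' ht)) (𝒮'.res V.2 D.2 hD.le) (Sh.res V.2 D.2 hD.le) (tw_res h hT ht hD)
    (RelProj.RelTilde.irr Sh hD) (ιt_mem h hT (hT.res D V hD t t' ht))
    (RelProj.RelComap.gradedHomAt_res ι h.graded V.2 D.2 hD.le t).symm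
    (θ h hT (hT.res D V hD t t' ht))
    (FrameRing.dehom_spec (tw h hT (hT.res D V hD t t' ht)) (tw_bij h hT (hT.res D V hD t t' ht)))
    _ _ (RelProj.RelTilde.map_emb hPC hD)

theorem pt_same (ht : T V t t') {s : 𝒮.presheaf.obj (op V.1)} {s' : 𝒮'.presheaf.obj (op V.1)} (hs : T V s s') :
    pt h pC chartC hT hs = pt h pC chartC hT ht := by
  obtain ⟨v, hv, hv'⟩ := hT.scale ht hs
  refine congrArg (fun f => f ≫ RelProj.emb pC chartC V.1 V.2) ?_
  refine FrameRing.point_scale (tw h hT ht) (tw h hT hs) (ιt_mem h hT ht) (ιt_mem h hT hs)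
    (Sh.str_mem V.1 V.2 v) ?_ (tw_scale h hT ht hs hv') (tw_bij h hT ht) _
    (FrameRing.dehom_spec (tw h hT ht) (tw_bij h hT ht)) _
    (FrameRing.dehom_spec (tw h hT hs) (tw_bij h hT hs))
  rw [hv, map_mul, ιG_str, mul_comm]

/-- The chart of a relative spectrum. -/
def chartS (A : RelSpec.QCAlg Y) (V : Y.affineOpens) :
    ((A.π ⁻¹ᵁ V.1 : A.spec.Opens) : Scheme.{u}) ≅ Spec (A.presheaf.obj (op V.1)) :=
  IsOpenImmersion.isoOfRangeEq (A.π ⁻¹ᵁ V.1).ι (A.ι V.1 V.2) (by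
    rw [Scheme.Opens.range_ι, A.π_preimage V.1 V.2]; rfl)

theorem chartS_ι (A : RelSpec.QCAlg Y) (V : Y.affineOpens) :
    (chartS A V).hom ≫ A.ι V.1 V.2 = (A.π ⁻¹ᵁ V.1).ι :=
  IsOpenImmersion.isoOfRangeEq_hom_fac _ _ _

theorem chartS_inv (A : RelSpec.QCAlg Y) (V : Y.affineOpens) :
    (chartS A V).inv ≫ (A.π ⁻¹ᵁ V.1).ι = A.ι V.1 V.2 :=
  IsOpenImmersion.isoOfRangeEq_inv_fac _ _ _

include hPC in
theorem exists_hom : ∃ g : 𝒮'.toQCAlg.spec ⟶ PC, ∀ (V : Y.affineOpens) (t : _) (t' : _) (ht : T V t t'),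
    𝒮'.toQCAlg.ι V.1 V.2 ≫ g = pt h pC chartC hT ht := by
  let A := 𝒮'.toQCAlg
  obtain ⟨g, hg⟩ := Frames.exists_glue A.π
    (T := fun V => {x : 𝒮.presheaf.obj (op V.1) × 𝒮'.presheaf.obj (op V.1) // T V x.1 x.2})
    (fun y => by
      obtain ⟨V, t, t', hy, ht⟩ := hT.cover y
      exact ⟨V, hy, ⟨⟨(t, t'), ht⟩⟩⟩)
    (fun {D V} hD a => ⟨(_, _), hT.res D V hD a.1.1 a.1.2 a.2⟩)
    (fun V a => (chartS A V).hom ≫ pt h pC chartC hT a.2)
    (fun {D V} hD a => by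
      rw [← pt_res h pC chartC hPC hT a.2 hD, ← Category.assoc, ← Category.assoc]
      congr 1
      rw [← cancel_mono (A.ι V.1 V.2), Category.assoc, Category.assoc, chartS_ι, Scheme.homOfLE_ι]
      obtain ⟨V, hV⟩ := V
      obtain ⟨D, hDa⟩ := D
      obtain ⟨r, rfl : Y.basicOpen r = D⟩ := id hD
      refine Eq.trans ?_ (congrArg ((chartS A ⟨_, hDa⟩).hom ≫ ·) (Vertex.ι_res A hV r).symm)
      exact (chartS_ι A ⟨_, hDa⟩).symm)
    (fun V a b => by rw [pt_same h pC chartC hT b.2 a.2])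
  refine ⟨g, fun V t t' ht => ?_⟩
  rw [← chartS_inv A V, Category.assoc, hg V ⟨(t, t'), ht⟩, Iso.inv_hom_id_assoc]

theorem pt_pC (hPC : RelProj.IsRelProj Sh pC chartC) (ht : T V t t') :
    pt h pC chartC hT ht ≫ pC = Spec.map (𝒮'.str.app (op V.1)) ≫ V.2.fromSpec := by
  simp only [pt, AwayDehom.point, Category.assoc, RelProj.emb]
  rw [← hPC.chart_over V.1 V.2, Iso.inv_hom_id_assoc, Proj.awayι_toSpecZero_assoc, ← Spec.map_comp_assoc,
    ← Spec.map_comp_assoc]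
  refine congrArg (fun f => Spec.map f ≫ V.2.fromSpec) (CommRingCat.hom_ext (RingHom.ext fun r => ?_))
  refine FrameRing.dehom_spec (tw h hT ht) (tw_bij h hT ht) _ 0 _ (𝒮'.str_mem V.1 V.2 r) ?_
  rw [tw_str]
  simp only [fromZeroRingHom, MonoidHom.coe_mk, OneHom.coe_mk, HomogeneousLocalization.val_mk]
  exact congrArg (Localization.mk _) (Subtype.ext (pow_zero _).symm)

include h hPC hT in
/-- The spectrum of the second algebra is the pointed projective cone of the first. -/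
theorem exists_iso : ∃ e : 𝒮'.toQCAlg.spec ≅ ((RelCone.pointedProjCone 𝒮 h pC chartC : PC.Opens) : Scheme.{u}),
    e.hom ≫ (RelCone.pointedProjCone 𝒮 h pC chartC).ι ≫ pC = 𝒮'.toQCAlg.π := by
  obtain ⟨g, hg⟩ := exists_hom h pC chartC hPC hT
  have hcov : ∀ y : Y, ∃ V : Y.affineOpens, y ∈ V.1 ∧ ∃ t t', T V t t' := fun y => by
    obtain ⟨V, t, t', hy, ht⟩ := hT.cover y
    exact ⟨V, hy, t, t', ht⟩
  have hgπ : g ≫ pC = 𝒮'.toQCAlg.π := by
    refine Frames.hom_ext 𝒮'.toQCAlg.π hcov fun V ⟨t, t', ht⟩ => ?_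
    rw [← chartS_ι 𝒮'.toQCAlg V]
    simp only [Category.assoc]
    rw [reassoc_of% (hg V t t' ht), RelSpec.QCAlg.ι_π, pt_pC h pC chartC hT hPC ht]
  have hiso : ∀ (V : Y.affineOpens) (t : _) (t' : _) (ht : T V t t'),
      IsIso (Spec.map (CommRingCat.ofHom (θ h hT ht))) := fun V t t' ht =>
    ConeImm.isIso_Spec_map (tw h hT ht) (ιt_mem h hT ht) (tw_bij h hT ht) (θ h hT ht)
      (FrameRing.dehom_spec (tw h hT ht) (tw_bij h hT ht))
  haveI : IsOpenImmersion g := by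
    refine IsZariskiLocalAtTarget.of_iSup_eq_top (P := @IsOpenImmersion)
      (fun k : {V : Y.affineOpens // ∃ t t', T V t t'} => pC ⁻¹ᵁ k.1.1) ?_ fun k => ?_
    · refine top_le_iff.mp fun x _ => ?_
      obtain ⟨V, hy, hV⟩ := hcov (pC x)
      exact Opens.mem_iSup.2 ⟨⟨V, hV⟩, hy⟩
    · obtain ⟨V, t, t', ht⟩ := k
      haveI := hiso V t t' ht
      obtain ⟨e, he⟩ := ConeImm.restrict_eq g (pC ⁻¹ᵁ V.1) (𝒮'.toQCAlg.ι V.1 V.2)
        (by rw [← Scheme.Hom.comp_preimage, hgπ, RelSpec.QCAlg.π_preimage _ V.1 V.2])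
        (AwayDehom.point (ιG h V t) (ιt_mem h hT ht) (θ h hT ht) ≫ (chartC V.1 V.2).inv)
        (by rw [hg V t t' ht, pt, Category.assoc]; rfl)
      rw [he, AwayDehom.point]
      infer_instance
  have hmem : ∀ (V : Y.affineOpens) (t : _) (t' : _) (ht : T V t t') (y : Proj (Sh.deg V.1 V.2)),
      RelProj.emb pC chartC V.1 V.2 y ∈ RelCone.pointedProjCone 𝒮 h pC chartC ↔
        y ∈ Proj.basicOpen (Sh.deg V.1 V.2) (ιG h V t) := fun V t t' ht y =>
    ((Infinity.mem_pointedProjCone_iff h pC chartC hPC V.1 V.2 y).trans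
      (FrameRing.dom_iff (ιG h V) (hT.fr V t t' ht) y)).trans (Proj.mem_basicOpen _ _ y).symm
  have hrange : Set.range g.base = Set.range (RelCone.pointedProjCone 𝒮 h pC chartC).ι.base := by
    rw [Scheme.Opens.range_ι]
    ext x
    obtain ⟨V, hxV, t, t', ht⟩ := hcov (pC x)
    haveI := hiso V t t' ht
    constructor
    · rintro ⟨w, rfl⟩
      obtain ⟨c, rfl⟩ : w ∈ (𝒮'.toQCAlg.ι V.1 V.2).opensRange := by
        rw [← RelSpec.QCAlg.π_preimage]
        change 𝒮'.toQCAlg.π w ∈ V.1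
        rw [← hgπ, Scheme.Hom.comp_apply]
        exact hxV
      rw [← Scheme.Hom.comp_apply, hg V t t' ht, pt, Scheme.Hom.comp_apply]
      refine (hmem V t t' ht _).2 ?_
      rw [← Proj.opensRange_awayι (Sh.deg V.1 V.2) (ιG h V t) (ιt_mem h hT ht) one_pos]
      exact ⟨_, rfl⟩
    · intro hx
      obtain ⟨y, rfl⟩ : x ∈ (RelProj.emb pC chartC V.1 V.2).opensRange := by
        rw [RelProj.RelTilde.opensRange_emb]; exact hxV
      have hy := (hmem V t t' ht y).1 hx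
      rw [← Proj.opensRange_awayι (Sh.deg V.1 V.2) (ιG h V t) (ιt_mem h hT ht) one_pos] at hy
      obtain ⟨c, rfl⟩ := hy
      obtain ⟨d, rfl⟩ := (Spec.map (CommRingCat.ofHom (θ h hT ht))).homeomorph.surjective c
      refine ⟨𝒮'.toQCAlg.ι V.1 V.2 d, ?_⟩
      rw [← Scheme.Hom.comp_apply, hg V t t' ht]
      rfl
  refine ⟨IsOpenImmersion.isoOfRangeEq g (RelCone.pointedProjCone 𝒮 h pC chartC).ι hrange, ?_⟩
  rw [IsOpenImmersion.isoOfRangeEq_hom_fac_assoc, hgπ]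

end

end Groth.Agent.H81.Cone.FrameSpec
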