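import Groth.Prelude.Def_RelSpec2
import Groth.Prelude.Def_RelProj2
import Groth.Agent.H81.RelSpec.AffineHom
import Groth.Agent.Lib.SymAlg.Main

/-!
# `Sym(E)[z] = Sym(E ⊕ O)`
-/

set_option autoImplicit false
universe u

open CategoryTheory CategoryTheory.Limits AlgebraicGeometry TopologicalSpace Opposite

namespace Groth.Agent.H81.Cone.SymBiprod

noncomputable section

variable {Y : Scheme.{u}} {E : Y.Modules} {𝒮 Sh : RelProj.QCGrAlg Y} {ι : 𝒮.toQCAlg ⟶ Sh.toQCAlg}
  {z : Sh.presheaf.obj (op ⊤)} {j : E ⟶ 𝒮.toModule} {k : Coh.structureModule Y ⟶ Sh.toModule}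

theorem unit_smul (U : Y.Opens) (r : Γ(Y, U)) :
    (r : Γ(Coh.structureModule Y, U)) = r • ((1 : Γ(Y, U)) : Γ(Coh.structureModule Y, U)) :=
  (mul_one r).symm

theorem k_apply (hk : ∀ U : Y.Opens, (k.app U) (1 : Γ(Y, U)) = RelCone.restrictTop Sh z U) (U : Y.Opens)
    (r : Γ(Y, U)) :
    (k.app U) r = (Sh.str.app (op U)).hom r * RelCone.restrictTop Sh z U := by
  refine ((congrArg (k.app U) (unit_smul U r)).trans (Scheme.Modules.Hom.app_smul k r _)).trans ?_
  rw [hk U]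
  rfl

variable (h : RelCone.IsPolyOver 𝒮 Sh ι z) {B : RelSpec.QCAlg Y}

/-- The extension to `𝒮[z]` over an affine open. -/
def extAff (ψ₀ : 𝒮.toQCAlg ⟶ B) (c : B.presheaf.obj (op ⊤)) (U : Y.Opens) (hU : IsAffineOpen U) :
    Sh.presheaf.obj (op U) →+* B.presheaf.obj (op U) :=
  (Polynomial.eval₂RingHom (ψ₀.hom.app (op U)).hom ((B.presheaf.map (homOfLE le_top).op).hom c)).comp
    (RingEquiv.ofBijective _ (h.bij U hU)).symm.toRingHom

theorem extAff_eval₂ (ψ₀ : 𝒮.toQCAlg ⟶ B) (c : B.presheaf.obj (op ⊤)) (U : Y.Opens) (hU : IsAffineOpen U)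
    (Q : Polynomial (𝒮.presheaf.obj (op U))) :
    extAff h ψ₀ c U hU (Polynomial.eval₂RingHom (ι.hom.app (op U)).hom (RelCone.restrictTop Sh z U) Q) =
      Q.eval₂ (ψ₀.hom.app (op U)).hom ((B.presheaf.map (homOfLE le_top).op).hom c) :=
  congrArg (Polynomial.eval₂RingHom (ψ₀.hom.app (op U)).hom ((B.presheaf.map (homOfLE le_top).op).hom c))
    ((RingEquiv.ofBijective _ (h.bij U hU)).symm_apply_apply Q)

theorem extAff_ι (ψ₀ : 𝒮.toQCAlg ⟶ B) (c : B.presheaf.obj (op ⊤)) (U : Y.Opens) (hU : IsAffineOpen U)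
    (a : 𝒮.presheaf.obj (op U)) :
    extAff h ψ₀ c U hU ((ι.hom.app (op U)).hom a) = (ψ₀.hom.app (op U)).hom a := by
  have e := extAff_eval₂ h ψ₀ c U hU (Polynomial.C a)
  simpa using e

theorem extAff_z (ψ₀ : 𝒮.toQCAlg ⟶ B) (c : B.presheaf.obj (op ⊤)) (U : Y.Opens) (hU : IsAffineOpen U) :
    extAff h ψ₀ c U hU (RelCone.restrictTop Sh z U) = (B.presheaf.map (homOfLE le_top).op).hom c := by
  have e := extAff_eval₂ h ψ₀ c U hU Polynomial.X
  simpa using e

include h in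
theorem ringHom_ext {C : Type u} [CommRing C] (U : Y.Opens) (hU : IsAffineOpen U)
    (f g : Sh.presheaf.obj (op U) →+* C) (hι : ∀ a, f ((ι.hom.app (op U)).hom a) = g ((ι.hom.app (op U)).hom a))
    (hz : f (RelCone.restrictTop Sh z U) = g (RelCone.restrictTop Sh z U)) : f = g := by
  refine RingHom.ext fun b => ?_
  obtain ⟨Q, rfl⟩ := (h.bij U hU).2 b
  induction Q using Polynomial.induction_on' with
  | add P Q hP hQ => rw [map_add, map_add, map_add, hP, hQ]
  | monomial i a => simp [hι, hz]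

theorem restrictTop_res (A : RelSpec.QCAlg Y) (c : A.presheaf.obj (op ⊤)) {U V : Y.Opens} (i : V ≤ U) :
    (A.presheaf.map (homOfLE i).op).hom ((A.presheaf.map (homOfLE (le_top (a := U))).op).hom c) =
      (A.presheaf.map (homOfLE (le_top (a := V))).op).hom c := by
  rw [← RingHom.comp_apply, ← CommRingCat.hom_comp, ← Functor.map_comp]
  rfl

include h in
theorem exists_ext (ψ₀ : 𝒮.toQCAlg ⟶ B) (c : B.presheaf.obj (op ⊤)) :
    ∃ ψ : Sh.toQCAlg ⟶ B, ∀ (U : Y.Opens) (hU : IsAffineOpen U),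
      (∀ a, (ψ.hom.app (op U)).hom ((ι.hom.app (op U)).hom a) = (ψ₀.hom.app (op U)).hom a) ∧
        (ψ.hom.app (op U)).hom (RelCone.restrictTop Sh z U) = (B.presheaf.map (homOfLE le_top).op).hom c := by
  have hres : ∀ (U V : Y.Opens) (hU : IsAffineOpen U) (hV : IsAffineOpen V) (i : V ≤ U)
      (a : Sh.presheaf.obj (op U)), extAff h ψ₀ c V hV ((Sh.presheaf.map (homOfLE i).op).hom a) =
        (B.presheaf.map (homOfLE i).op).hom (extAff h ψ₀ c U hU a) := by
    intro U V hU hV i a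
    refine congr($(ringHom_ext h U hU ((extAff h ψ₀ c V hV).comp (Sh.presheaf.map (homOfLE i).op).hom)
      ((B.presheaf.map (homOfLE i).op).hom.comp (extAff h ψ₀ c U hU)) (fun a => ?_) ?_) a)
    · rw [RingHom.comp_apply, RingHom.comp_apply, extAff_ι]
      refine Eq.trans (congrArg (extAff h ψ₀ c V hV) (congr(($(ι.hom.naturality (homOfLE i).op)).hom a)).symm) ?_
      exact (extAff_ι h ψ₀ c V hV _).trans (congr(($(ψ₀.hom.naturality (homOfLE i).op)).hom a))
    · rw [RingHom.comp_apply, RingHom.comp_apply, extAff_z]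
      refine Eq.trans (congrArg (extAff h ψ₀ c V hV) (restrictTop_res Sh.toQCAlg z i)) ?_
      exact (extAff_z h ψ₀ c V hV).trans (restrictTop_res B c i).symm
  have hstr : ∀ (U : Y.Opens) (hU : IsAffineOpen U) (r : Γ(Y, U)),
      extAff h ψ₀ c U hU ((Sh.str.app (op U)).hom r) = (B.str.app (op U)).hom r := by
    intro U hU r
    rw [show (Sh.str.app (op U)).hom r = (ι.hom.app (op U)).hom ((𝒮.str.app (op U)).hom r) from
      (congr(($(NatTrans.congr_app ι.comm (op U))).hom r)).symm, extAff_ι]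
    exact congr(($(NatTrans.congr_app ψ₀.comm (op U))).hom r)
  obtain ⟨ψ, hψ⟩ := Groth.Agent.H81.RelSpec.AffineHom.exists_hom Sh.toQCAlg B (extAff h ψ₀ c) hres hstr
  refine ⟨ψ, fun U hU => ⟨fun a => ?_, ?_⟩⟩
  · rw [hψ U hU]; exact extAff_ι h ψ₀ c U hU a
  · rw [hψ U hU]; exact extAff_z h ψ₀ c U hU

theorem isGrSymAlg [E.IsQuasicoherent] (hS : RelProj.IsGrSymAlg E 𝒮 j)
    (hk : ∀ U : Y.Opens, (k.app U) (1 : Γ(Y, U)) = RelCone.restrictTop Sh z U)
    (h : RelCone.IsPolyOver 𝒮 Sh ι z) [(Coh.structureModule Y).IsQuasicoherent] :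
    RelProj.IsGrSymAlg (E ⊞ Coh.structureModule Y) Sh
      (biprod.desc (j ≫ RelSpec.QCAlg.Hom.toModuleMap ι) k) := by
  constructor
  · intro B φ
    obtain ⟨ψ₀, hψ₀, hψ₀u⟩ := hS.1 B (biprod.inl ≫ φ)
    let c : B.presheaf.obj (op ⊤) := ((biprod.inr ≫ φ).app ⊤) (1 : Γ(Y, ⊤))
    have hc : ∀ U : Y.Opens, ((biprod.inr ≫ φ).app U) (1 : Γ(Y, U)) = (B.presheaf.map (homOfLE le_top).op).hom c := by
      intro U
      refine Eq.trans ?_ (Groth.Agent.Lib.QCoh.Localizing.res_app (biprod.inr ≫ φ) (le_top (a := U)) (1 : Γ(Y, ⊤))).symm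
      exact congrArg ((biprod.inr ≫ φ).app U) (map_one (Y.presheaf.map (homOfLE (le_top (a := U))).op).hom).symm
    obtain ⟨ψ, hψ⟩ := exists_ext h ψ₀ c
    refine ⟨ψ, ?_, fun ψ' hψ' => ?_⟩
    · refine biprod.hom_ext' _ _ ?_ ?_
      · rw [biprod.inl_desc_assoc, Category.assoc]
        refine Groth.Agent.Lib.SymAlg.Main.module_hom_ext E fun U m => ?_
        refine Eq.trans ?_ (congr(($hψ₀).app U.toOpens m))
        exact (hψ U.1 U.2).1 _
      · rw [biprod.inr_desc_assoc]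
        refine Groth.Agent.Lib.SymAlg.Main.module_hom_ext (Coh.structureModule Y) fun U r => ?_
        change (ψ.hom.app (op U.1)).hom ((k.app U.1) r) = ((biprod.inr ≫ φ).app U.1) r
        rw [k_apply hk U.1 r, map_mul, (hψ U.1 U.2).2]
        refine Eq.trans ?_ ((congrArg ((biprod.inr ≫ φ).app U.1) (unit_smul U.1 r)).trans
          (Scheme.Modules.Hom.app_smul (biprod.inr ≫ φ) r _)).symm
        rw [hc U.1]
        exact congrArg (fun t : B.presheaf.obj (op U.1) => t * (B.presheaf.map (homOfLE le_top).op).hom c)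
          (congr(($(NatTrans.congr_app ψ.comm (op U.1))).hom r))
    · have h0 : ι ≫ ψ' = ψ₀ := by
        refine hψ₀u _ ?_
        rw [← hψ', biprod.inl_desc_assoc, Category.assoc]
        rfl
      refine Groth.Agent.H81.RelSpec.AffineHom.hom_ext fun U hU => CommRingCat.hom_ext ?_
      refine ringHom_ext h U hU _ _ (fun a => ?_) ?_
      · rw [(hψ U hU).1 a]
        exact congr(($h0).hom.app (op U) a)
      · rw [(hψ U hU).2, ← hc U, ← hk U]
        have e1 : k ≫ RelSpec.QCAlg.Hom.toModuleMap ψ' = biprod.inr ≫ φ := by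
          rw [← hψ', biprod.inr_desc_assoc]
        exact congr(($e1).app U (1 : Γ(Y, U)))
  · intro U hU x
    have e : (biprod.desc (j ≫ RelSpec.QCAlg.Hom.toModuleMap ι) k) =
        biprod.fst ≫ j ≫ RelSpec.QCAlg.Hom.toModuleMap ι + biprod.snd ≫ k := biprod.desc_eq
    rw [e]
    have h1 : ((ι.hom.app (op U)).hom ((j.app U) ((biprod.fst (X := E) (Y := Coh.structureModule Y)).app U x))) ∈
        Sh.deg U hU 1 := h.graded U hU 1 _ (hS.2 U hU _)
    have h2 : (k.app U) ((biprod.snd (X := E) (Y := Coh.structureModule Y)).app U x) ∈ Sh.deg U hU 1 := by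
      rw [k_apply hk U]
      have := SetLike.mul_mem_graded (A := Sh.deg U hU) (Sh.str_mem U hU
        ((biprod.snd (X := E) (Y := Coh.structureModule Y)).app U x)) (h.deg_z U hU)
      rwa [zero_add] at this
    exact add_mem h1 h2

end

end Groth.Agent.H81.Cone.SymBiprod
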