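import Groth.Agent.H81.Cone.FrameRing
import Groth.Agent.H81.Cone.SymBiprod

/-!
# Families of frames of two graded algebras and gluing along them
-/

set_option autoImplicit false
universe u

open CategoryTheory Limits AlgebraicGeometry TopologicalSpace Opposite
open scoped HomogeneousIdeal

namespace Groth.Agent.H81.Cone.Frames

open Groth.Agent.H81.RelProj (RelTilde.Rel)
open Groth.Agent.H81.Cone.FrameRing (Fr)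

noncomputable section

/-- Gluing of morphisms along a restriction-closed family covering the base. -/
theorem exists_glue {Y P Z : Scheme.{u}} (p : P ⟶ Y) {T : Y.affineOpens → Type u}
    (hcov : ∀ y : Y, ∃ V : Y.affineOpens, y ∈ V.1 ∧ Nonempty (T V))
    (res : ∀ {D V : Y.affineOpens}, RelTilde.Rel D V → T V → T D)
    (φ : ∀ V : Y.affineOpens, T V → (((p ⁻¹ᵁ V.1 : P.Opens) : Scheme.{u}) ⟶ Z))
    (hres : ∀ {D V : Y.affineOpens} (h : RelTilde.Rel D V) (a : T V),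
      P.homOfLE (p.preimage_mono h.le) ≫ φ V a = φ D (res h a))
    (hsame : ∀ (V : Y.affineOpens) (a b : T V), φ V a = φ V b) :
    ∃ e : P ⟶ Z, ∀ (V : Y.affineOpens) (a : T V), (p ⁻¹ᵁ V.1).ι ≫ e = φ V a := by
  have hO : ⨆ k : Σ V : Y.affineOpens, T V, p ⁻¹ᵁ k.1.1 = ⊤ := by
    refine top_le_iff.mp fun x _ => ?_
    obtain ⟨V, hV, ⟨a⟩⟩ := hcov (p x)
    exact Opens.mem_iSup.2 ⟨⟨V, a⟩, hV⟩
  have hcompat (k l : Σ V : Y.affineOpens, T V) :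
      P.homOfLE (inf_le_left : p ⁻¹ᵁ k.1.1 ⊓ p ⁻¹ᵁ l.1.1 ≤ _) ≫ φ k.1 k.2 =
        P.homOfLE (inf_le_right : p ⁻¹ᵁ k.1.1 ⊓ p ⁻¹ᵁ l.1.1 ≤ _) ≫ φ l.1 l.2 := by
    refine Scheme.hom_ext_of_forall _ _ fun x => ?_
    obtain ⟨D, h₁, h₂, hx⟩ := RelProj.RelTilde.exists_common (p := p) k.1 l.1 x.1 x.2.1 x.2.2
    refine ⟨(p ⁻¹ᵁ k.1.1 ⊓ p ⁻¹ᵁ l.1.1).ι ⁻¹ᵁ (p ⁻¹ᵁ D.1), hx, ?_⟩
    have hle : p ⁻¹ᵁ D.1 ≤ p ⁻¹ᵁ k.1.1 ⊓ p ⁻¹ᵁ l.1.1 := le_inf (p.preimage_mono h₁.le) (p.preimage_mono h₂.le)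
    let j : (((p ⁻¹ᵁ k.1.1 ⊓ p ⁻¹ᵁ l.1.1).ι ⁻¹ᵁ (p ⁻¹ᵁ D.1) : _) : Scheme.{u}) ⟶ (p ⁻¹ᵁ D.1 : P.Opens) :=
      (p ⁻¹ᵁ k.1.1 ⊓ p ⁻¹ᵁ l.1.1).ι ∣_ _
    have hj : ((p ⁻¹ᵁ k.1.1 ⊓ p ⁻¹ᵁ l.1.1).ι ⁻¹ᵁ (p ⁻¹ᵁ D.1)).ι = j ≫ P.homOfLE hle := by
      rw [← cancel_mono (p ⁻¹ᵁ k.1.1 ⊓ p ⁻¹ᵁ l.1.1).ι]
      simp [j]
    rw [hj, Category.assoc, Category.assoc, Scheme.homOfLE_homOfLE_assoc, Scheme.homOfLE_homOfLE_assoc,
      hres h₁, hres h₂, hsame D (res h₁ k.2) (res h₂ l.2)]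
  let 𝒰 := P.openCoverOfIsOpenCover _ hO
  refine ⟨Scheme.Cover.glueMorphisms 𝒰 (fun k => φ k.1 k.2) fun k l => ?_,
    fun V a => Scheme.Cover.ι_glueMorphisms 𝒰 (fun k => φ k.1 k.2) _ ⟨V, a⟩⟩
  refine (cancel_epi (isPullback_opens_inf (p ⁻¹ᵁ k.1.1) (p ⁻¹ᵁ l.1.1)).isoPullback.hom).mp ?_
  erw [IsPullback.isoPullback_hom_fst_assoc, IsPullback.isoPullback_hom_snd_assoc]
  exact hcompat k l

/-- Morphisms agreeing over a covering family agree. -/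
theorem hom_ext {Y P Z : Scheme.{u}} (p : P ⟶ Y) {T : Y.affineOpens → Prop}
    (hcov : ∀ y : Y, ∃ V : Y.affineOpens, y ∈ V.1 ∧ T V) {e e' : P ⟶ Z}
    (h : ∀ V : Y.affineOpens, T V → (p ⁻¹ᵁ V.1).ι ≫ e = (p ⁻¹ᵁ V.1).ι ≫ e') : e = e' := by
  refine Scheme.hom_ext_of_forall _ _ fun x => ?_
  obtain ⟨V, hV, hT⟩ := hcov (p x)
  exact ⟨p ⁻¹ᵁ V.1, hV, h V hT⟩

variable {Y : Scheme.{u}}

/-- The frame predicate over an affine open. -/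
abbrev FrV (𝒮 : RelProj.QCGrAlg Y) (V : Y.affineOpens) (t : 𝒮.presheaf.obj (op V.1)) : Prop :=
  Fr (𝒮.str.app (op V.1)).hom (𝒮.deg V.1 V.2) t

/-- A family of pairs of mutually inverse frames. -/
structure Fam (𝒮 𝒮' : RelProj.QCGrAlg Y)
    (T : ∀ V : Y.affineOpens, 𝒮.presheaf.obj (op V.1) → 𝒮'.presheaf.obj (op V.1) → Prop) : Prop where
  fr : ∀ V t t', T V t t' → FrV 𝒮 V t
  fr' : ∀ V t t', T V t t' → FrV 𝒮' V t'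
  res : ∀ (D V : Y.affineOpens) (h : RelTilde.Rel D V) t t', T V t t' →
    T D (𝒮.res V.2 D.2 h.le t) (𝒮'.res V.2 D.2 h.le t')
  unit : ∀ V t t' s s', T V t t' → T V s s' → ∃ v w : Γ(Y, V.1), v * w = 1 ∧
    s = (𝒮.str.app (op V.1)).hom v * t ∧ s' = (𝒮'.str.app (op V.1)).hom w * t'
  cover : ∀ y : Y, ∃ (V : Y.affineOpens) (t : _) (t' : _), y ∈ V.1 ∧ T V t t'

theorem Fam.swap {𝒮 𝒮' : RelProj.QCGrAlg Y} {T} (h : Fam 𝒮 𝒮' T) : Fam 𝒮' 𝒮 (fun V t' t => T V t t') where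
  fr V t t' ht := h.fr' V t' t ht
  fr' V t t' ht := h.fr V t' t ht
  res D V hr t t' ht := h.res D V hr t' t ht
  unit V t t' s s' ht hs := by
    obtain ⟨v, w, hvw, e, e'⟩ := h.unit V t' t s' s ht hs
    exact ⟨w, v, by rw [mul_comm, hvw], e', e⟩
  cover y := by
    obtain ⟨V, t, t', hy, ht⟩ := h.cover y
    exact ⟨V, t', t, hy, ht⟩

theorem Fam.scale {𝒮 𝒮' : RelProj.QCGrAlg Y} {T} (h : Fam 𝒮 𝒮' T) {V : Y.affineOpens} {t t' s s'}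
    (ht : T V t t') (hs : T V s s') : ∃ v : Γ(Y, V.1),
      s = (𝒮.str.app (op V.1)).hom v * t ∧ (𝒮'.str.app (op V.1)).hom v * s' = t' := by
  obtain ⟨v, w, hvw, e, e'⟩ := h.unit V t t' s s' ht hs
  exact ⟨v, e, by rw [e', ← mul_assoc, ← map_mul, hvw, map_one, one_mul]⟩

theorem res_res (𝒮 : RelProj.QCGrAlg Y) {U V : Y.Opens} (i : V ≤ U) (z : 𝒮.presheaf.obj (op ⊤)) :
    (𝒮.presheaf.map (homOfLE i).op).hom (RelCone.restrictTop 𝒮 z U) = RelCone.restrictTop 𝒮 z V :=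
  SymBiprod.restrictTop_res 𝒮.toQCAlg z i

end

end Groth.Agent.H81.Cone.Frames
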