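import Groth.Agent.H81.Cone.Vertex

/-!
# Morphisms of affine cones and the pointed cones
-/

set_option autoImplicit false
universe u

open CategoryTheory AlgebraicGeometry TopologicalSpace Opposite
open scoped HomogeneousIdeal

namespace Groth.Agent.H81.Cone.Funct

noncomputable section

section Ring

variable {A σ : Type u} [CommRing A] [SetLike σ A] [AddSubgroupClass σ A] {𝒜 : ℕ → σ} [GradedRing 𝒜]
  {B τ : Type u} [CommRing B] [SetLike τ B] [AddSubgroupClass τ B] {ℬ : ℕ → τ} [GradedRing ℬ]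

theorem irrelevant_le_of_le (ψ : 𝒜 →+*ᵍ ℬ) {P : Ideal B} (h : (HomogeneousIdeal.irrelevant ℬ).toIdeal ≤ P) :
    (HomogeneousIdeal.irrelevant 𝒜).toIdeal ≤ Ideal.comap ψ.toRingHom P := by
  rw [HomogeneousIdeal.toIdeal_irrelevant_le]
  exact fun i hi x hx => h (HomogeneousIdeal.mem_irrelevant_of_mem _ hi (ψ.map_mem hx))

theorem domOpen_eq_top_iff (ψ : 𝒜 →+*ᵍ ℬ) :
    RelCone.domOpen ψ = ⊤ ↔ ∀ P : Ideal B, P.IsPrime → ¬ (HomogeneousIdeal.irrelevant ℬ).toIdeal ≤ P →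
      ¬ (HomogeneousIdeal.irrelevant 𝒜).toIdeal ≤ Ideal.comap ψ.toRingHom P := by
  classical
  constructor
  · intro h P hP hirr hle
    have hcore : ¬ HomogeneousIdeal.irrelevant ℬ ≤ P.homogeneousCore ℬ := fun hc =>
      hirr (fun b hb => Ideal.toIdeal_homogeneousCore_le ℬ P (hc hb))
    let y : Proj ℬ := (⟨P.homogeneousCore ℬ, hP.homogeneousCore, hcore⟩ : ProjectiveSpectrum ℬ)
    have hy : y ∈ RelCone.domOpen ψ := by rw [h]; trivial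
    obtain ⟨f, hf, hfy⟩ := (RelCone.mem_domOpen ψ y).1 hy
    refine hfy ?_
    rw [← DirectSum.sum_support_decompose 𝒜 f, map_sum]
    change ∑ i ∈ _, ψ _ ∈ (P.homogeneousCore ℬ).toIdeal
    refine Ideal.sum_mem _ fun i _ => Ideal.mem_homogeneousCore_of_homogeneous_of_mem
      ⟨i, ψ.map_mem (SetLike.coe_mem _)⟩ (hle ?_)
    exact (HomogeneousIdeal.irrelevant 𝒜).isHomogeneous i hf
  · intro h
    refine top_le_iff.mp fun y _ => (RelCone.mem_domOpen ψ y).2 ?_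
    obtain ⟨f, hf, hfy⟩ := SetLike.not_le_iff_exists.1 (h y.asHomogeneousIdeal.toIdeal y.isPrime y.not_irrelevant_le)
    exact ⟨f, hf, hfy⟩

end Ring

variable {Y Y' : Scheme.{u}} (q : Y' ⟶ Y) (𝒮 : RelProj.QCGrAlg Y) (𝒮' : RelProj.QCGrAlg Y')
  (u : 𝒮.presheaf ⟶ q.base _* 𝒮'.presheaf)
  (φ : ∀ (U : Y.Opens) (hU : IsAffineOpen U) (U' : Y'.Opens) (hU' : IsAffineOpen U') (_ : U' ≤ q ⁻¹ᵁ U),
    𝒮.deg U hU →+*ᵍ 𝒮'.deg U' hU')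
  (hφ : ∀ (U : Y.Opens) (hU : IsAffineOpen U) (U' : Y'.Opens) (hU' : IsAffineOpen U') (hle : U' ≤ q ⁻¹ᵁ U),
    (φ U hU U' hU' hle).toRingHom =
      ((u.app (op U) : 𝒮.presheaf.obj (op U) ⟶ 𝒮'.presheaf.obj (op (q ⁻¹ᵁ U))) ≫
        𝒮'.presheaf.map (homOfLE hle).op).hom)
  (Φ : 𝒮'.toQCAlg.spec ⟶ 𝒮.toQCAlg.spec)
  (hΦ : ∀ (U : Y.Opens) (hU : IsAffineOpen U) (U' : Y'.Opens) (hU' : IsAffineOpen U') (hle : U' ≤ q ⁻¹ᵁ U),
    𝒮'.toQCAlg.ι U' hU' ≫ Φ =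
      Spec.map ((u.app (op U) : 𝒮.presheaf.obj (op U) ⟶ 𝒮'.presheaf.obj (op (q ⁻¹ᵁ U))) ≫
        𝒮'.presheaf.map (homOfLE hle).op) ≫ 𝒮.toQCAlg.ι U hU)

include hφ hΦ in
theorem preimage_mem_iff (U : Y.Opens) (hU : IsAffineOpen U) (U' : Y'.Opens) (hU' : IsAffineOpen U')
    (hle : U' ≤ q ⁻¹ᵁ U) (c : Spec (𝒮'.presheaf.obj (op U'))) :
    𝒮'.toQCAlg.ι U' hU' c ∈ Φ ⁻¹ᵁ RelCone.pointedCone 𝒮 ↔
      ¬ (HomogeneousIdeal.irrelevant (𝒮.deg U hU)).toIdeal ≤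
        Ideal.comap (φ U hU U' hU' hle).toRingHom c.asIdeal := by
  change Φ (𝒮'.toQCAlg.ι U' hU' c) ∈ RelCone.pointedCone 𝒮 ↔ _
  rw [← Scheme.Hom.comp_apply, hΦ U hU U' hU' hle, Scheme.Hom.comp_apply, Vertex.mem_pointedCone_iff, hφ]
  rfl

theorem exists_chart_below (x : 𝒮'.toQCAlg.spec) :
    ∃ (U : Y.Opens) (hU : IsAffineOpen U) (U' : Y'.Opens) (hU' : IsAffineOpen U') (_ : U' ≤ q ⁻¹ᵁ U),
      ∃ c, 𝒮'.toQCAlg.ι U' hU' c = x := by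
  obtain ⟨U, hU, hxU, -⟩ := exists_isAffineOpen_mem_and_subset (U := ⊤) (x := q (𝒮'.toQCAlg.π x)) trivial
  obtain ⟨U', hU', hxU', hle⟩ := exists_isAffineOpen_mem_and_subset (U := q ⁻¹ᵁ U) (x := 𝒮'.toQCAlg.π x) hxU
  have h : x ∈ (𝒮'.toQCAlg.ι U' hU').opensRange := by rw [← 𝒮'.toQCAlg.π_preimage U' hU']; exact hxU'
  obtain ⟨c, hc⟩ := h
  exact ⟨U, hU, U', hU', hle, c, hc⟩

include hφ hΦ in
theorem preimage_le : Φ ⁻¹ᵁ RelCone.pointedCone 𝒮 ≤ RelCone.pointedCone 𝒮' := by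
  intro x hx
  obtain ⟨U, hU, U', hU', hle, c, rfl⟩ := exists_chart_below q 𝒮' x
  have h := (preimage_mem_iff q 𝒮 𝒮' u φ hφ Φ hΦ U hU U' hU' hle c).1 hx
  exact (Vertex.mem_pointedCone_iff 𝒮' hU' c).2 fun hle' => h (irrelevant_le_of_le _ hle')

include hφ hΦ in
theorem domOpen_iff :
    (∀ (U : Y.Opens) (hU : IsAffineOpen U) (U' : Y'.Opens) (hU' : IsAffineOpen U') (hle : U' ≤ q ⁻¹ᵁ U),
        RelCone.domOpen (φ U hU U' hU' hle) = ⊤) ↔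
      Φ ⁻¹ᵁ RelCone.pointedCone 𝒮 = RelCone.pointedCone 𝒮' := by
  constructor
  · intro h
    refine le_antisymm (preimage_le q 𝒮 𝒮' u φ hφ Φ hΦ) fun x hx => ?_
    obtain ⟨U, hU, U', hU', hle, c, rfl⟩ := exists_chart_below q 𝒮' x
    exact (preimage_mem_iff q 𝒮 𝒮' u φ hφ Φ hΦ U hU U' hU' hle c).2
      ((domOpen_eq_top_iff _).1 (h U hU U' hU' hle) c.asIdeal c.isPrime
        ((Vertex.mem_pointedCone_iff 𝒮' hU' c).1 hx))
  · intro h U hU U' hU' hle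
    refine (domOpen_eq_top_iff _).2 fun P hP hirr => ?_
    let c : Spec (𝒮'.presheaf.obj (op U')) := ⟨P, hP⟩
    have hc := (Vertex.mem_pointedCone_iff 𝒮' hU' c).2 hirr
    rw [← h] at hc
    exact (preimage_mem_iff q 𝒮 𝒮' u φ hφ Φ hΦ U hU U' hU' hle c).1 hc

end

end Groth.Agent.H81.Cone.Funct
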