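import Groth.Agent.H81.Cone.ConeImm
import Groth.Agent.H81.RelProj.Map
import Groth.Agent.H81.RelProj.RelComap

/-!
# The projective cone: locus at infinity and pointed projective cone
-/

set_option autoImplicit false
universe u

open CategoryTheory AlgebraicGeometry TopologicalSpace Opposite HomogeneousLocalization
open scoped HomogeneousIdeal

namespace Groth.Agent.H81.Cone.Infinity

noncomputable section

section Ring

variable {A σ : Type u} [CommRing A] [SetLike σ A] [AddSubgroupClass σ A] {𝒜 : ℕ → σ} [GradedRing 𝒜]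
  {B σ' : Type u} [CommRing B] [SetLike σ' B] [AddSubgroupClass σ' B] {ℬ : ℕ → σ'} [GradedRing ℬ]
  (ι : 𝒜 →+*ᵍ ℬ) {z : B} (hz : z ∈ ℬ 1)
  (hbij : Function.Bijective (Polynomial.eval₂RingHom (ι.toRingHom : A →+* B) z))

include hz hbij in
theorem dom_of_z_mem (y : ProjectiveSpectrum ℬ) (hy : z ∈ y.asHomogeneousIdeal) : y ∈ RelCone.domOpen ι := by
  refine (RelCone.mem_domOpen ι y).2 ?_
  by_contra h
  push Not at h
  exact y.not_irrelevant_le (PolyGr.irrelevant_le ι z hz hbij h hy)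

include hz hbij in
theorem exists_preimage (θ : ℬ →+*ᵍ 𝒜) (hsec : ∀ a, θ (ι a) = a) (hθz : θ z = 0) (hirr : 𝒜₊ ≤ (ℬ₊).map θ)
    (y : ProjectiveSpectrum ℬ) :
    (∃ x, ProjectiveSpectrum.comap θ hirr x = y) ↔ z ∈ y.asHomogeneousIdeal := by
  constructor
  · rintro ⟨x, rfl⟩
    change θ z ∈ x.asHomogeneousIdeal
    rw [hθz]
    exact Ideal.zero_mem _
  · intro hy
    have hmem : ∀ b : B, b ∈ y.asHomogeneousIdeal ↔ ι (θ b) ∈ y.asHomogeneousIdeal := by
      intro b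
      obtain ⟨P, rfl⟩ := hbij.2 b
      obtain ⟨Q, hQ⟩ : Polynomial.X ∣ P - Polynomial.C (P.coeff 0) := by
        rw [Polynomial.X_dvd_iff]; simp
      have hP : P = Polynomial.C (P.coeff 0) + Polynomial.X * Q := by rw [← hQ]; ring
      have e : Polynomial.eval₂RingHom ι.toRingHom z P =
          ι (P.coeff 0) + z * Polynomial.eval₂RingHom ι.toRingHom z Q := by
        conv_lhs => rw [hP]
        simp
      rw [e, map_add, map_mul, hsec, hθz, zero_mul, add_zero]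
      exact Ideal.add_mem_iff_left _ (Ideal.mul_mem_right _ _ hy)
    let I : HomogeneousIdeal 𝒜 := y.asHomogeneousIdeal.comap ι
    haveI := y.isPrime
    have hI : ¬ 𝒜₊ ≤ I := fun h =>
      y.not_irrelevant_le (PolyGr.irrelevant_le ι z hz hbij (fun a ha => h ha) hy)
    refine ⟨⟨I, Ideal.IsPrime.comap ι.toRingHom, hI⟩, ProjectiveSpectrum.ext (HomogeneousIdeal.ext (SetLike.ext fun b => ?_))⟩
    exact (hmem b).symm

theorem irr_map {A' σ₁ : Type u} [CommRing A'] [SetLike σ₁ A'] [AddSubgroupClass σ₁ A'] {𝒜' : ℕ → σ₁} [GradedRing 𝒜']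
    (rA : 𝒜 →+*ᵍ 𝒜') {f : A} (hf : f ∈ (HomogeneousIdeal.irrelevant 𝒜).toIdeal) :
    rA f ∈ (HomogeneousIdeal.irrelevant 𝒜').toIdeal := by
  revert f
  change (HomogeneousIdeal.irrelevant 𝒜).toIdeal ≤ Ideal.comap rA.toRingHom (HomogeneousIdeal.irrelevant 𝒜').toIdeal
  rw [HomogeneousIdeal.toIdeal_irrelevant_le]
  exact fun i hi x hx => HomogeneousIdeal.mem_irrelevant_of_mem _ hi (rA.map_mem hx)

theorem dom_res {A' σ₁ : Type u} [CommRing A'] [SetLike σ₁ A'] [AddSubgroupClass σ₁ A'] {𝒜' : ℕ → σ₁} [GradedRing 𝒜']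
    {B' σ₂ : Type u} [CommRing B'] [SetLike σ₂ B'] [AddSubgroupClass σ₂ B'] {ℬ' : ℕ → σ₂} [GradedRing ℬ']
    (ι' : 𝒜' →+*ᵍ ℬ') (rA : 𝒜 →+*ᵍ 𝒜') (rB : ℬ →+*ᵍ ℬ') (hcomm : ∀ a, rB (ι a) = ι' (rA a))
    (hA : 𝒜'₊ ≤ (𝒜₊).map rA) (hB : ℬ'₊ ≤ (ℬ₊).map rB) (y : ProjectiveSpectrum ℬ') :
    ProjectiveSpectrum.comap rB hB y ∈ RelCone.domOpen ι ↔ y ∈ RelCone.domOpen ι' := by
  refine (RelCone.mem_domOpen ι (ProjectiveSpectrum.comap rB hB y)).trans (Iff.trans ?_ (RelCone.mem_domOpen ι' y).symm)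
  constructor
  · rintro ⟨f, hf, hfy⟩
    exact ⟨rA f, irr_map rA hf, fun h => hfy (show rB (ι f) ∈ y.asHomogeneousIdeal by rw [hcomm]; exact h)⟩
  · rintro ⟨g, hg, hgy⟩
    by_contra h
    push Not at h
    have hle : Ideal.map rA.toRingHom (HomogeneousIdeal.irrelevant 𝒜).toIdeal ≤
        Ideal.comap ι'.toRingHom y.asHomogeneousIdeal.toIdeal := by
      rw [Ideal.map_le_iff_le_comap]
      intro f hf
      have hf' : rB (ι f) ∈ y.asHomogeneousIdeal := h f hf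
      rw [hcomm] at hf'
      exact hf'
    exact hgy (hle (hA hg))

variable (θ : Away ℬ z →+* A)
  (hθ : ∀ (q : Away ℬ z) (k : ℕ) (a : A), a ∈ 𝒜 k →
    q.val = Localization.mk (ι a) ⟨z ^ k, pow_mem (Submonoid.mem_powers z) k⟩ → θ q = a)

include hθ in
theorem dom_point_iff (c : Spec (CommRingCat.of A)) :
    (AwayDehom.point z hz θ) c ∈ RelCone.domOpen ι ↔ ¬ (HomogeneousIdeal.irrelevant 𝒜).toIdeal ≤ c.asIdeal := by
  classical
  refine (RelCone.mem_domOpen ι ((AwayDehom.point z hz θ) c)).trans ?_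
  constructor
  · rintro ⟨f, hf, hfy⟩ hle
    refine hfy ?_
    rw [← DirectSum.sum_support_decompose 𝒜 f, map_sum]
    refine Ideal.sum_mem _ fun i _ => ?_
    rcases Nat.eq_zero_or_pos i with rfl | hi
    · have h0 := (HomogeneousIdeal.mem_irrelevant_iff 𝒜 f).1 hf
      rw [GradedRing.proj_apply] at h0
      rw [h0, map_zero]
      exact Ideal.zero_mem _
    · exact (AwayDehom.ι_mem_point_iff ι z hz θ hθ c hi (SetLike.coe_mem _)).2
        (hle (HomogeneousIdeal.mem_irrelevant_of_mem _ hi (SetLike.coe_mem _)))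
  · intro h
    by_contra hno
    push Not at hno
    refine h ?_
    rw [HomogeneousIdeal.toIdeal_irrelevant_le]
    intro i hi a ha
    exact (AwayDehom.ι_mem_point_iff ι z hz θ hθ c hi ha).1 (hno a (HomogeneousIdeal.mem_irrelevant_of_mem _ hi ha))

end Ring

variable {Y PC : Scheme.{u}} {𝒮 Sh : RelProj.QCGrAlg Y} {ι : 𝒮.toQCAlg ⟶ Sh.toQCAlg} {z : Sh.presheaf.obj (op ⊤)}
  (h : RelCone.IsPolyOver 𝒮 Sh ι z) (pC : PC ⟶ Y)
  (chartC : ∀ (U : Y.Opens) (hU : IsAffineOpen U), (((pC ⁻¹ᵁ U : PC.Opens) : Scheme.{u}) ≅ Proj (Sh.deg U hU)))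
  (hPC : RelProj.IsRelProj Sh pC chartC)

/-- `awayZToBase` as a family. -/
def θ₀ (U : Y.Opens) (hU : IsAffineOpen U) :
    CommRingCat.of (Away (Sh.deg U hU) (ConeImm.zU z U)) ⟶ 𝒮.presheaf.obj (op U) :=
  CommRingCat.ofHom (h.awayZToBase U hU)

theorem hθ₀ (U : Y.Opens) (hU : IsAffineOpen U) (q : Away (Sh.deg U hU) (ConeImm.zU z U)) (k : ℕ)
    (x : 𝒮.presheaf.obj (op U)) (_ : x ∈ 𝒮.deg U hU k)
    (hq : q.val = Localization.mk ((ι.hom.app (op U)).hom x)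
        ⟨ConeImm.zU z U ^ k, pow_mem (Submonoid.mem_powers (ConeImm.zU z U)) k⟩) : (θ₀ h U hU).hom q = x :=
  (h.awayZToBase_of_val U hU q _ k hq).trans (h.evalOne_ι U hU x)

include hPC in
theorem mem_range_iConeImm (i : 𝒮.toQCAlg.spec ⟶ PC) (hi : RelCone.IsConeImm 𝒮 h pC chartC i) (U : Y.Opens)
    (hU : IsAffineOpen U) (y : Proj (Sh.deg U hU)) :
    RelProj.emb pC chartC U hU y ∈ Set.range i ↔
      RelCone.restrictTop Sh z U ∉ (ProjectiveSpectrum.asHomogeneousIdeal (𝒜 := Sh.deg U hU) y) :=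
  (ConeImm.mem_range_iff ι h.graded z h.deg_z h.bij pC chartC (θ₀ h) (hθ₀ h) i hi hPC U hU y).trans
    (Proj.mem_basicOpen (Sh.deg U hU) (ConeImm.zU z U) y)

include hPC in
theorem range_eq {P : Scheme.{u}} (i : 𝒮.toQCAlg.spec ⟶ PC) (hi : RelCone.IsConeImm 𝒮 h pC chartC i)
    (θ : Sh.toQCAlg ⟶ 𝒮.toQCAlg) (hθ : RelProj.IsGradedHom θ) (hιθ : ι ≫ θ = 𝟙 _)
    (hθz : (θ.hom.app (op ⊤)).hom z = 0)
    (hirr : ∀ (U : Y.Opens) (hU : IsAffineOpen U),
      (𝒮.deg U hU)₊ ≤ ((Sh.deg U hU)₊).map (RelProj.gradedHomAt θ hθ U hU))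
    (p : P ⟶ Y)
    (chart : ∀ (U : Y.Opens) (hU : IsAffineOpen U), (((p ⁻¹ᵁ U : P.Opens) : Scheme.{u}) ≅ Proj (𝒮.deg U hU)))
    (hP : RelProj.IsRelProj 𝒮 p chart) (j : P ⟶ PC) (hj : RelProj.IsRelProjMap θ hθ hirr chartC chart j) :
    Set.range i.base = (Set.range j.base)ᶜ := by
  ext x
  obtain ⟨U, hU, hxU, -⟩ := exists_isAffineOpen_mem_and_subset (U := ⊤) (x := pC x) trivial
  obtain ⟨y, rfl⟩ : x ∈ (RelProj.emb pC chartC U hU).opensRange := by
    rw [Groth.Agent.H81.RelProj.RelTilde.opensRange_emb]; exact hxU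
  rw [Set.mem_compl_iff]
  refine (mem_range_iConeImm h pC chartC hPC i hi U hU y).trans (not_congr ?_)
  have hsec : ∀ a : 𝒮.presheaf.obj (op U),
      RelProj.gradedHomAt θ hθ U hU (RelProj.gradedHomAt ι h.graded U hU a) = a := fun a =>
    congr(($(hιθ)).hom.app (op U) a)
  have hθzU : RelProj.gradedHomAt θ hθ U hU (RelCone.restrictTop Sh z U) = 0 := by
    have e := congr(($(θ.hom.naturality (homOfLE (le_top (a := U))).op)).hom z)
    refine e.trans ?_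
    change (𝒮.presheaf.map _).hom ((θ.hom.app (op ⊤)).hom z) = 0
    rw [hθz, map_zero]
  rw [← exists_preimage (RelProj.gradedHomAt ι h.graded U hU) (h.deg_z U hU) (h.bij U hU)
    (RelProj.gradedHomAt θ hθ U hU) hsec hθzU (hirr U hU) y]
  have hmap : ∀ x' : Proj (𝒮.deg U hU), j (RelProj.emb p chart U hU x') =
      RelProj.emb pC chartC U hU (Proj.map (RelProj.gradedHomAt θ hθ U hU) (hirr U hU) x') := fun x' => by
    rw [← Scheme.Hom.comp_apply, ← Scheme.Hom.comp_apply]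
    exact (congr($(Groth.Agent.H81.RelProj.RelComap.emb_map j hj ⟨U, hU⟩) x')).symm
  constructor
  · rintro ⟨x', hx'⟩
    refine ⟨RelProj.emb p chart U hU x', (hmap x').trans ?_⟩
    rw [← hx']
    rfl
  · rintro ⟨w, hw⟩
    have hwU : w ∈ (RelProj.emb p chart U hU).opensRange := by
      rw [Groth.Agent.H81.RelProj.RelTilde.opensRange_emb]
      change p w ∈ U
      rw [← (Groth.Agent.H81.RelProj.Map.existsUnique θ hθ hirr hPC hP).2 j hj, Scheme.Hom.comp_apply, hw]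
      exact ((chartC U hU).inv y).2
    obtain ⟨x', rfl⟩ := hwU
    exact ⟨x', (RelProj.emb pC chartC U hU).isOpenEmbedding.injective ((hmap x').symm.trans hw)⟩

include hPC in
theorem mem_pointedProjCone_iff (U : Y.Opens) (hU : IsAffineOpen U) (y : Proj (Sh.deg U hU)) :
    RelProj.emb pC chartC U hU y ∈ RelCone.pointedProjCone 𝒮 h pC chartC ↔
      y ∈ RelCone.domOpen (RelProj.gradedHomAt ι h.graded U hU) := by
  constructor
  · intro hx
    obtain ⟨V, d, hd, hdx⟩ := Opens.mem_iSup.1 hx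
    have hmemU : RelProj.emb pC chartC U hU y ∈ pC ⁻¹ᵁ U := ((chartC U hU).inv y).2
    have hmemV : RelProj.emb pC chartC U hU y ∈ pC ⁻¹ᵁ V.1 := by
      rw [← hdx]; exact ((chartC V.1 V.2).inv d).2
    obtain ⟨l, h₁, h₂, hl⟩ := Groth.Agent.H81.RelProj.RelTilde.exists_common (p := pC) (⟨U, hU⟩ : Y.affineOpens) V _
      hmemU hmemV
    obtain ⟨yl, hyl⟩ : RelProj.emb pC chartC U hU y ∈ (RelProj.emb pC chartC l.1 l.2).opensRange := by
      rw [Groth.Agent.H81.RelProj.RelTilde.opensRange_emb]; exact hl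
    have key : ∀ {W : Y.affineOpens} (hr : Groth.Agent.H81.RelProj.RelTilde.Rel l W) (w : Proj (Sh.deg W.1 W.2)),
        RelProj.emb pC chartC W.1 W.2 w = RelProj.emb pC chartC l.1 l.2 yl →
        (w ∈ RelCone.domOpen (RelProj.gradedHomAt ι h.graded W.1 W.2) ↔
          yl ∈ RelCone.domOpen (RelProj.gradedHomAt ι h.graded l.1 l.2)) := by
      intro W hr w hw
      rw [← Groth.Agent.H81.RelProj.RelTilde.map_emb hPC hr, Scheme.Hom.comp_apply] at hw
      rw [(RelProj.emb pC chartC W.1 W.2).isOpenEmbedding.injective hw]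
      exact dom_res (RelProj.gradedHomAt ι h.graded W.1 W.2) (RelProj.gradedHomAt ι h.graded l.1 l.2)
        (𝒮.res W.2 l.2 hr.le) (Sh.res W.2 l.2 hr.le)
        (fun a => (Groth.Agent.H81.RelProj.RelComap.gradedHomAt_res ι h.graded W.2 l.2 hr.le a).symm)
        (Groth.Agent.H81.RelProj.RelTilde.irr 𝒮 hr) (Groth.Agent.H81.RelProj.RelTilde.irr Sh hr) yl
    exact (key (W := ⟨U, hU⟩) h₁ y hyl.symm).2 ((key h₂ d (hdx.trans hyl.symm)).1 hd)
  · exact fun hy => Opens.mem_iSup.2 ⟨⟨U, hU⟩, y, hy, rfl⟩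

include hPC in
theorem pointedProjCone_eq (h0 : RelCone.StrZeroBij 𝒮) {aug : 𝒮.toQCAlg ⟶ RelSpec.QCAlg.unit Y}
    (haug : RelCone.IsAugmentation 𝒮 aug) {ε : Y ⟶ 𝒮.toQCAlg.spec} (hε : RelCone.IsVertex 𝒮 aug ε)
    (i : 𝒮.toQCAlg.spec ⟶ PC) (hi : RelCone.IsConeImm 𝒮 h pC chartC i) :
    ((RelCone.pointedProjCone 𝒮 h pC chartC : PC.Opens) : Set PC) = (Set.range (ε ≫ i).base)ᶜ := by
  ext x
  obtain ⟨U, hU, hxU, -⟩ := exists_isAffineOpen_mem_and_subset (U := ⊤) (x := pC x) trivial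
  obtain ⟨y, rfl⟩ : x ∈ (RelProj.emb pC chartC U hU).opensRange := by
    rw [Groth.Agent.H81.RelProj.RelTilde.opensRange_emb]; exact hxU
  refine (mem_pointedProjCone_iff h pC chartC hPC U hU y).trans ?_
  rw [Set.mem_compl_iff]
  by_cases hz : RelCone.restrictTop Sh z U ∈ (ProjectiveSpectrum.asHomogeneousIdeal (𝒜 := Sh.deg U hU) y)
  · refine iff_of_true (dom_of_z_mem _ (h.deg_z U hU) (h.bij U hU) y hz) ?_
    rintro ⟨w, hw⟩
    exact (mem_range_iConeImm h pC chartC hPC i hi U hU y).1 ⟨ε w, hw⟩ hz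
  · have hy : y ∈ (Proj.awayι (Sh.deg U hU) (RelCone.restrictTop Sh z U) (h.deg_z U hU) one_pos).opensRange := by
      rw [Proj.opensRange_awayι]; exact hz
    obtain ⟨c', rfl⟩ := hy
    haveI : IsIso (Spec.map (θ₀ h U hU)) := ConeImm.isIso_Spec_map (RelProj.gradedHomAt ι h.graded U hU)
      (h.deg_z U hU) (h.bij U hU) (θ₀ h U hU).hom (hθ₀ h U hU)
    obtain ⟨c, rfl⟩ := (Spec.map (θ₀ h U hU)).homeomorph.surjective c'
    have hic : i (𝒮.toQCAlg.ι U hU c) = RelProj.emb pC chartC U hU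
        ((Proj.awayι (Sh.deg U hU) (RelCone.restrictTop Sh z U) (h.deg_z U hU) one_pos)
          (Spec.map (θ₀ h U hU) c)) := by
      rw [← Scheme.Hom.comp_apply, hi U hU]
      rfl
    refine (dom_point_iff (RelProj.gradedHomAt ι h.graded U hU) (h.deg_z U hU) (θ₀ h U hU).hom (hθ₀ h U hU) c).trans ?_
    change Vertex.Pointed 𝒮 hU c ↔ _
    have hinj := (ConeImm.props ι h.graded z h.deg_z h.bij pC chartC (θ₀ h) (hθ₀ h) i hi hPC).1
    rw [← not_iff_not, ← Vertex.mem_range_vertex_iff 𝒮 h0 haug hε hU c, not_not]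
    constructor
    · rintro ⟨w, hw⟩
      refine ⟨w, ?_⟩
      rw [Scheme.Hom.comp_apply, hw]
      exact hic
    · rintro ⟨w, hw⟩
      refine ⟨w, i.isOpenEmbedding.injective ?_⟩
      rw [← Scheme.Hom.comp_apply, hw]
      exact hic.symm

end

end Groth.Agent.H81.Cone.Infinity
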