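import Groth.Agent.H81.Cone.Frames
import Groth.Agent.Lib.SymAlg.Unique
import Groth.Agent.Lib.Ample.GenLocus

/-!
# The frames of a pair of mutually inverse line bundles
-/

set_option autoImplicit false
universe u

open CategoryTheory AlgebraicGeometry TopologicalSpace Opposite
open scoped HomogeneousIdeal

namespace Groth.Agent.H81.Cone.LineFrames

open Groth.Agent.Lib Groth.Agent.Lib.TensorMod Groth.Agent.Lib.TensorMod.Dual
open Groth.Agent.Lib.TensorMod.Gen (IsGen)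
open Groth.Agent.Lib.Ample
open Groth.Agent.Lib.Ample.GenLocus
open Groth.Agent.H81.Cone.Frames (Fam FrV)

noncomputable section

variable {Y : Scheme.{u}}

/-- A generator of the module gives a frame of the symmetric algebra. -/
theorem fr_of_gen {L : Y.Modules} (hLq : Coh.IsQCoh L) {𝒮 : RelProj.QCGrAlg Y} {j : L ⟶ 𝒮.toModule}
    (hS : RelProj.IsGrSymAlg L 𝒮 j) (V : Y.affineOpens) {e : Γ(L, V.1)} (he : IsGen L V.1 e) :
    FrV 𝒮 V (j.app V.1 e) := by
  haveI : L.IsQuasicoherent := hLq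
  letI := SymAlg.Unique.algInst 𝒮.toQCAlg V.1
  let E : Γ(Y, V.1) ≃ₗ[Γ(Y, V.1)] Γ(L, V.1) :=
    LinearEquiv.ofBijective (LinearMap.toSpanSingleton _ _ e) (by
      have h' : Function.Bijective fun a : Γ(Y, V.1) => a • e := by
        simpa only [rs_self] using he V.1 le_rfl
      exact h')
  let jl := SymAlg.Unique.jLin 𝒮.toQCAlg j V.1
  have hs := SymAlg.Unique.isSymmetricAlgebra hS.1 V.2
  let φ : Γ(L, V.1) →ₗ[Γ(Y, V.1)] Polynomial Γ(Y, V.1) :=
    (LinearMap.toSpanSingleton Γ(Y, V.1) (Polynomial Γ(Y, V.1)) Polynomial.X).comp E.symm.toLinearMap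
  let F := hs.lift φ
  let G : Polynomial Γ(Y, V.1) →ₐ[Γ(Y, V.1)] 𝒮.presheaf.obj (op V.1) := Polynomial.aeval (jl e)
  have hE : E 1 = e := one_smul _ e
  have hF : F (jl e) = Polynomial.X := by
    rw [IsSymmetricAlgebra.lift_eq]
    show E.symm e • (Polynomial.X : Polynomial Γ(Y, V.1)) = Polynomial.X
    rw [show E.symm e = 1 from (LinearEquiv.symm_apply_eq _).2 hE.symm, one_smul]
  have h1 : F.comp G = AlgHom.id _ _ := Polynomial.algHom_ext (by simp [G, hF])
  have h2 : G.comp F = AlgHom.id _ _ := hs.algHom_ext (LinearMap.ext fun m => by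
    obtain ⟨a, rfl⟩ := E.surjective m
    show G (F (jl (E a))) = jl (E a)
    rw [show E a = a • e from rfl, map_smul, map_smul, hF, map_smul]
    simp [G])
  exact ⟨fun r => 𝒮.str_mem V.1 V.2 r, hS.2 V.1 V.2 e, (AlgEquiv.ofAlgHom G F h2 h1).bijective⟩

variable {L L' : Y.Modules} (φ : CohB1.tensorMod L L' ≅ Coh.structureModule Y) {𝒮 𝒮' : RelProj.QCGrAlg Y}
  (j : L ⟶ 𝒮.toModule) (j' : L' ⟶ 𝒮'.toModule)

/-- The value of the pairing. -/
def pairing (V : Y.Opens) (m : Γ(L, V)) (n : Γ(L', V)) : Γ(Y, V) :=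
  φ.hom.app V (SecTwist.tmul L L' V m n)

theorem pairing_smul (V : Y.Opens) (a b : Γ(Y, V)) (m : Γ(L, V)) (n : Γ(L', V)) :
    pairing φ V (a • m) (b • n) = a * b * pairing φ V m n := by
  exact (congrArg (φ.hom.app V) (tmul_smul a b m n)).trans (Scheme.Modules.Hom.app_smul φ.hom _ _)

theorem pairing_res {U V : Y.Opens} (h : V ≤ U) (m : Γ(L, U)) (n : Γ(L', U)) :
    pairing φ V (rs L h m) (rs L' h n) = rf h (pairing φ U m n) := by
  unfold pairing
  rw [← rs_tmul, ← Groth.Agent.Lib.QCoh.Localizing.res_app φ.hom h]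
  rfl

theorem isUnit_pairing {V : Y.Opens} {e : Γ(L, V)} {e' : Γ(L', V)} (he : IsGen L V e) (he' : IsGen L' V e') :
    IsUnit (pairing φ V e e') := by
  have hb := isGen_tmul he he' V le_rfl
  simp only [rs_self] at hb
  obtain ⟨s, hs⟩ := (ConcreteCategory.bijective_of_isIso (φ.hom.app V)).2 (Gen.one Y V)
  obtain ⟨a, rfl⟩ := hb.2 s
  refine IsUnit.of_mul_eq_one_right a ?_
  exact (Scheme.Modules.Hom.app_smul φ.hom a _).symm.trans hs

/-- The predicate of a pair of frames. -/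
def T (V : Y.affineOpens) (t : 𝒮.presheaf.obj (op V.1)) (t' : 𝒮'.presheaf.obj (op V.1)) : Prop :=
  ∃ (e : Γ(L, V.1)) (e' : Γ(L', V.1)), IsGen L V.1 e ∧ IsGen L' V.1 e' ∧ pairing φ V.1 e e' = 1 ∧
    t = j.app V.1 e ∧ t' = j'.app V.1 e'

theorem fam (hL : PicF.IsInvertible L) (hL' : PicF.IsInvertible L') (hLq : Coh.IsQCoh L) (hL'q : Coh.IsQCoh L')
    (hS : RelProj.IsGrSymAlg L 𝒮 j) (hS' : RelProj.IsGrSymAlg L' 𝒮' j') : Fam 𝒮 𝒮' (T φ j j') where
  fr V t t' := by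
    rintro ⟨e, e', he, -, -, rfl, -⟩
    exact fr_of_gen hLq hS V he
  fr' V t t' := by
    rintro ⟨e, e', -, he', -, -, rfl⟩
    exact fr_of_gen hL'q hS' V he'
  res D V h t t' := by
    rintro ⟨e, e', he, he', h1, rfl, rfl⟩
    refine ⟨rs L h.le e, rs L' h.le e', he.res h.le, he'.res h.le, ?_, ?_, ?_⟩
    · rw [pairing_res, h1]; exact map_one _
    · exact Groth.Agent.Lib.QCoh.Localizing.res_app j h.le e
    · exact Groth.Agent.Lib.QCoh.Localizing.res_app j' h.le e'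
  unit V t t' s s' := by
    rintro ⟨e, e', he, he', h1, rfl, rfl⟩ ⟨g, g', -, -, h2, rfl, rfl⟩
    obtain ⟨v, hv⟩ := (show Function.Bijective fun a : Γ(Y, V.1) => a • e by
      simpa only [rs_self] using he V.1 le_rfl).2 g
    obtain ⟨w, hw⟩ := (show Function.Bijective fun a : Γ(Y, V.1) => a • e' by
      simpa only [rs_self] using he' V.1 le_rfl).2 g'
    simp only at hv hw
    subst hv hw
    refine ⟨v, w, ?_, Scheme.Modules.Hom.app_smul j v e, Scheme.Modules.Hom.app_smul j' w e'⟩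
    rwa [pairing_smul, h1, mul_one] at h2
  cover y := by
    obtain ⟨U, e, hyU, he⟩ := Gen.isInvertible_iff.1 hL y
    obtain ⟨U', e', hyU', he'⟩ := Gen.isInvertible_iff.1 hL' y
    obtain ⟨V, hV, hyV, hsub⟩ := exists_isAffineOpen_mem_and_subset (X := Y) (x := y) (U := U ⊓ U') ⟨hyU, hyU'⟩
    have h₁ : V ≤ U := fun x hx => (hsub hx).1
    have h₂ : V ≤ U' := fun x hx => (hsub hx).2
    obtain ⟨c, hc⟩ := isUnit_pairing φ (he.res h₁) (he'.res h₂)
    refine ⟨⟨V, hV⟩, _, _, hyV, rs L h₁ e, (↑c⁻¹ : Γ(Y, V)) • rs L' h₂ e', he.res h₁,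
      IsGen_smul_isUnit (he'.res h₂) (Units.isUnit _), ?_, rfl, rfl⟩
    have h := pairing_smul φ V 1 (↑c⁻¹ : Γ(Y, V)) (rs L h₁ e) (rs L' h₂ e')
    rw [one_smul, one_mul, ← hc, Units.inv_mul] at h
    exact h

end

end Groth.Agent.H81.Cone.LineFrames
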