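import Groth.Agent.H81.Cone.FrameSpec
import Groth.Agent.H81.Cone.LineFrames

/-!
# The inverse line bundle is the pointed projective cone
-/

set_option autoImplicit false
universe u

open CategoryTheory AlgebraicGeometry TopologicalSpace Opposite
open scoped HomogeneousIdeal

namespace Groth.Agent.H81.Cone.LineInvSpec

noncomputable section

variable {Y : Scheme.{u}}

theorem specMap_comp {A B C : RelSpec.QCAlg Y} (f : A ⟶ B) (g : B ⟶ C) :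
    RelSpec.QCAlg.specMap g ≫ RelSpec.QCAlg.specMap f = RelSpec.QCAlg.specMap (f ≫ g) := by
  refine Limits.colimit.hom_ext fun U => ?_
  change C.ι U.1 U.2 ≫ _ = C.ι U.1 U.2 ≫ _
  rw [reassoc_of% (RelSpec.QCAlg.ι_specMap U.1 U.2 g), RelSpec.QCAlg.ι_specMap, RelSpec.QCAlg.ι_specMap,
    RelSpec.QCAlg.comp_hom, NatTrans.comp_app, Spec.map_comp_assoc]

theorem specMap_id (A : RelSpec.QCAlg Y) : RelSpec.QCAlg.specMap (𝟙 A) = 𝟙 A.spec := by
  refine Limits.colimit.hom_ext fun U => ?_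
  change A.ι U.1 U.2 ≫ _ = A.ι U.1 U.2 ≫ _
  rw [RelSpec.QCAlg.ι_specMap, RelSpec.QCAlg.id_hom, NatTrans.id_app, Spec.map_id, Category.id_comp]
  exact (Category.comp_id _).symm

/-- The isomorphism of spectra of an isomorphism of algebras. -/
def specIso {A B : RelSpec.QCAlg Y} (e : A ≅ B) : B.spec ≅ A.spec where
  hom := RelSpec.QCAlg.specMap e.hom
  inv := RelSpec.QCAlg.specMap e.inv
  hom_inv_id := by rw [specMap_comp, e.inv_hom_id, specMap_id]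
  inv_hom_id := by rw [specMap_comp, e.hom_inv_id, specMap_id]

theorem main {PC : Scheme.{u}} (L L' : Y.Modules)
    (hL : PicF.IsInvertible L) (hL' : PicF.IsInvertible L') (hLq : Coh.IsQCoh L) (hL'q : Coh.IsQCoh L')
    (hLL' : Nonempty (CohB1.tensorMod L L' ≅ Coh.structureModule Y))
    (𝒮 𝒮h : RelProj.QCGrAlg Y) (j : L ⟶ 𝒮.toModule) (hS : RelProj.IsGrSymAlg L 𝒮 j)
    (ι : 𝒮.toQCAlg ⟶ 𝒮h.toQCAlg) (z : 𝒮h.presheaf.obj (op ⊤)) (hz : RelCone.IsPolyOver 𝒮 𝒮h ι z)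
    (pC : PC ⟶ Y)
    (chartC : ∀ (U : Y.Opens) (hU : IsAffineOpen U), (((pC ⁻¹ᵁ U : PC.Opens) : Scheme.{u}) ≅ Proj (𝒮h.deg U hU)))
    (hPC : RelProj.IsRelProj 𝒮h pC chartC)
    (𝒮' : RelSpec.QCAlg Y) (j' : L' ⟶ 𝒮'.toModule) (hS' : RelSpec.IsSymAlg L' 𝒮' j') :
    ∃ e : 𝒮'.spec ≅ ((RelCone.pointedProjCone 𝒮 hz pC chartC : PC.Opens) : Scheme.{u}),
      e.hom ≫ (RelCone.pointedProjCone 𝒮 hz pC chartC).ι ≫ pC = 𝒮'.π := by
  obtain ⟨φ⟩ := hLL'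
  haveI : L'.IsQuasicoherent := hL'q
  have hS₁ := Groth.Agent.Lib.SymAlg.Exists.isGrSymAlg L'
  obtain ⟨ψ, -⟩ := Groth.Agent.Lib.SymAlg.Unique.exists_iso hS'
  obtain ⟨e, he⟩ := FrameSpec.exists_iso hz pC chartC hPC
    (LineFrames.fam (𝒮' := Groth.Agent.Lib.SymAlg.Exists.grAlg L') φ j (Groth.Agent.Lib.SymAlg.Exists.jmap L') hL hL' hLq hL'q hS hS₁)
  refine ⟨specIso ψ ≪≫ e, ?_⟩
  rw [Iso.trans_hom, Category.assoc]
  refine (congrArg ((specIso ψ).hom ≫ ·) he).trans ?_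
  exact RelSpec.QCAlg.specMap_π ψ.hom

end

end Groth.Agent.H81.Cone.LineInvSpec
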