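import Groth.Prelude.Def_RelSpec2
import Mathlib.Algebra.Polynomial.BigOperators
import Mathlib.RingTheory.GradedAlgebra.HomogeneousLocalization
import Mathlib.Algebra.Polynomial.Coeff
import Mathlib.Algebra.Polynomial.Eval.Coeff

/-!
# The graded ring `A[z]` and the point set of its `Proj`
-/

set_option autoImplicit false
universe u

open TopologicalSpace
open scoped HomogeneousIdeal

namespace Groth.Agent.H81.Cone.PolyGr

open Polynomial

noncomputable section

variable {A σ : Type u} [CommRing A] [SetLike σ A] [AddSubgroupClass σ A] {𝒜 : ℕ → σ} [GradedRing 𝒜]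
  {B σ' : Type u} [CommRing B] [SetLike σ' B] [AddSubgroupClass σ' B] {ℬ : ℕ → σ'} [GradedRing ℬ]
  (ι : 𝒜 →+*ᵍ ℬ) (z : B) (hz : z ∈ ℬ 1) (hbij : Function.Bijective (eval₂RingHom (ι.toRingHom : A →+* B) z))

include hz hbij in
/-- The coefficients of an element of degree `k`. -/
theorem exists_coeff {k : ℕ} {x : B} (hx : x ∈ ℬ k) :
    ∃ a : ℕ → A, (∀ j, a j ∈ 𝒜 j) ∧ (∀ j, k < j → a j = 0) ∧
      x = ∑ j ∈ Finset.range (k + 1), ι (a j) * z ^ (k - j) := by
  classical
  obtain ⟨P, hP⟩ := hbij.2 x
  let a : ℕ → A := fun j => if j ≤ k then (DirectSum.decompose 𝒜 (P.coeff (k - j)) j : A) else 0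
  refine ⟨a, fun j => ?_, fun j hj => if_neg (by omega), ?_⟩
  · by_cases h : j ≤ k
    · simp only [a, if_pos h]; exact SetLike.coe_mem _
    · simp only [a, if_neg h]; exact zero_mem _
  have key : ∀ i : ℕ, GradedRing.proj ℬ k (ι (P.coeff i) * z ^ i) =
      if i ≤ k then ι (DirectSum.decompose 𝒜 (P.coeff i) (k - i) : A) * z ^ i else 0 := by
    intro i
    have hzi : z ^ i ∈ ℬ i := by simpa using SetLike.pow_mem_graded i hz
    conv_lhs => rw [← DirectSum.sum_support_decompose 𝒜 (P.coeff i), map_sum, Finset.sum_mul, map_sum]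
    have hterm : ∀ j, GradedRing.proj ℬ k (ι (DirectSum.decompose 𝒜 (P.coeff i) j : A) * z ^ i) =
        if j + i = k then ι (DirectSum.decompose 𝒜 (P.coeff i) j : A) * z ^ i else 0 := by
      intro j
      have hm := SetLike.mul_mem_graded (ι.map_mem (SetLike.coe_mem (DirectSum.decompose 𝒜 (P.coeff i) j))) hzi
      rw [GradedRing.proj_apply]
      split_ifs with h
      · subst h; exact DirectSum.decompose_of_mem_same ℬ hm
      · exact DirectSum.decompose_of_mem_ne ℬ hm h
    simp only [hterm]
    rw [Finset.sum_eq_single (k - i)]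
    · split_ifs <;> first | rfl | omega
    · intro j _ hj
      rw [if_neg (by omega)]
    · intro hj
      rw [DFinsupp.notMem_support_iff.mp hj]
      simp
  have hx' : x = GradedRing.proj ℬ k x := (DirectSum.decompose_of_mem_same ℬ hx).symm
  conv_lhs => rw [hx', ← hP, coe_eval₂RingHom, eval₂_eq_sum_range, map_sum]
  have hr : ∀ i : ℕ, GradedRing.proj ℬ k (ι.toRingHom (P.coeff i) * z ^ i) =
      if i ≤ k then ι (a (k - i)) * z ^ i else 0 := by
    intro i
    refine (key i).trans ?_
    split_ifs with h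
    · simp only [a, if_pos (Nat.sub_le k i), show k - (k - i) = i by omega]
    · rfl
  rw [Finset.sum_congr rfl fun i _ => hr i]
  have e1 : ∑ i ∈ Finset.range (P.natDegree + 1), (if i ≤ k then ι (a (k - i)) * z ^ i else 0) =
      ∑ i ∈ Finset.range (k + 1), ι (a (k - i)) * z ^ i := by
    have hzero : ∀ i, P.natDegree < i → a (k - i) = 0 ∨ ¬ i ≤ k := fun i hi => by
      by_cases h : i ≤ k
      · left
        simp only [a, if_pos (Nat.sub_le k i), show k - (k - i) = i by omega, coeff_eq_zero_of_natDegree_lt hi]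
        simp
      · exact Or.inr h
    rw [← Finset.sum_filter]
    refine (Finset.sum_subset (fun i hi => ?_) fun i hi hni => ?_)
    · simp only [Finset.mem_filter, Finset.mem_range] at hi ⊢; omega
    · simp only [Finset.mem_filter, Finset.mem_range, not_and] at hi hni
      have : P.natDegree < i := by
        by_contra h
        exact hni (by omega) (by omega)
      rcases hzero i this with h | h
      · rw [h, map_zero, zero_mul]
      · omega
  rw [e1, ← Finset.sum_range_reflect (fun j => ι (a j) * z ^ (k - j)) (k + 1)]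
  refine Finset.sum_congr rfl fun i hi => ?_
  have : i ≤ k := by simp only [Finset.mem_range] at hi; omega
  simp only [show k + 1 - 1 - i = k - i by omega, show k - (k - i) = i by omega]

/-- The inverse of the presentation followed by `z ↦ 1`. -/
def evalOne : B →+* A :=
  (evalRingHom 1).comp (RingEquiv.ofBijective _ hbij).symm.toRingHom

theorem evalOne_ι (a : A) : evalOne ι z hbij (ι a) = a := by
  have e : (RingEquiv.ofBijective _ hbij) (C a) = ι a := by
    simp
  have e' : (RingEquiv.ofBijective _ hbij).symm (ι a) = C a := (RingEquiv.symm_apply_eq _).2 e.symm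
  rw [evalOne, RingHom.comp_apply]
  change eval 1 ((RingEquiv.ofBijective _ hbij).symm (ι a)) = a
  rw [e', eval_C]

theorem evalOne_z : evalOne ι z hbij z = 1 := by
  have e : (RingEquiv.ofBijective _ hbij) X = z := by
    simp
  have e' : (RingEquiv.ofBijective _ hbij).symm z = X := (RingEquiv.symm_apply_eq _).2 e.symm
  rw [evalOne, RingHom.comp_apply]
  change eval 1 ((RingEquiv.ofBijective _ hbij).symm z) = 1
  rw [e', eval_X]

include hz in
theorem evalOne_injOn {k : ℕ} {x : B} (hx : x ∈ ℬ k) (h : evalOne ι z hbij x = 0) : x = 0 := by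
  classical
  obtain ⟨a, ha, -, rfl⟩ := exists_coeff ι z hz hbij hx
  rw [map_sum] at h
  simp only [map_mul, map_pow, evalOne_ι, evalOne_z, one_pow, mul_one] at h
  refine Finset.sum_eq_zero fun j hj => ?_
  have hj' := congrArg (GradedRing.proj 𝒜 j) h
  rw [map_sum, map_zero, Finset.sum_eq_single j] at hj'
  · rw [GradedRing.proj_apply, DirectSum.decompose_of_mem_same 𝒜 (ha j)] at hj'
    rw [hj', map_zero, zero_mul]
  · intro i _ hi
    rw [GradedRing.proj_apply, DirectSum.decompose_of_mem_ne 𝒜 (ha i) hi]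
  · exact fun h' => absurd hj h'

include hbij in
/-- `z` is a non-zero-divisor. -/
theorem z_nzd {x : B} (h : z * x = 0) : x = 0 := by
  obtain ⟨P, rfl⟩ := hbij.2 x
  have e : eval₂RingHom (ι.toRingHom : A →+* B) z (X * P) = eval₂RingHom (ι.toRingHom : A →+* B) z 0 := by
    rw [map_mul, map_zero, coe_eval₂RingHom, eval₂_X]
    exact h
  have e' : P = 0 := by
    refine Polynomial.ext fun n => ?_
    have := congrArg (fun Q => Polynomial.coeff Q (n + 1)) (hbij.1 e)
    simpa [coeff_X_mul] using this
  rw [e', map_zero]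

include hz hbij in
/-- A homogeneous prime containing the image of `A₊` and `z` contains `B₊`. -/
theorem irrelevant_le {y : Ideal B} (hι : ∀ a ∈ (HomogeneousIdeal.irrelevant 𝒜).toIdeal, ι a ∈ y) (hzy : z ∈ y) :
    (HomogeneousIdeal.irrelevant ℬ).toIdeal ≤ y := by
  classical
  intro b hb
  rw [← DirectSum.sum_support_decompose ℬ b]
  refine Ideal.sum_mem _ fun k _ => ?_
  rcases Nat.eq_zero_or_pos k with rfl | hk
  · have h0 := (HomogeneousIdeal.mem_irrelevant_iff ℬ b).1 hb
    rw [GradedRing.proj_apply] at h0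
    rw [h0]
    exact Ideal.zero_mem _
  · obtain ⟨a, ha, -, he⟩ := exists_coeff ι z hz hbij (SetLike.coe_mem (DirectSum.decompose ℬ b k))
    rw [he]
    refine Ideal.sum_mem _ fun j _ => ?_
    rcases Nat.eq_zero_or_pos j with rfl | hj
    · exact Ideal.mul_mem_left _ _ (Ideal.pow_mem_of_mem _ hzy _ (by omega))
    · exact Ideal.mul_mem_right _ _ (hι _ (HomogeneousIdeal.mem_irrelevant_of_mem _ hj (ha j)))

end

end Groth.Agent.H81.Cone.PolyGr
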