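import Groth.Agent.H81.Cone.RetractCone
import Groth.Agent.H81.Cone.Funct

/-!
# Functoriality of the projective cone
-/

set_option autoImplicit false
universe u

open CategoryTheory CategoryTheory.Limits AlgebraicGeometry TopologicalSpace Opposite HomogeneousLocalization
open scoped HomogeneousIdeal

namespace Groth.Agent.H81.Cone.ProjConeFunct

open Groth.Agent.Lib

noncomputable section

section ring

variable {A σ : Type u} [CommRing A] [SetLike σ A] [AddSubgroupClass σ A] {𝒜 : ℕ → σ} [GradedRing 𝒜]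
  {B τ : Type u} [CommRing B] [SetLike τ B] [AddSubgroupClass τ B] {ℬ : ℕ → τ} [GradedRing ℬ]
  {A' σ₁ : Type u} [CommRing A'] [SetLike σ₁ A'] [AddSubgroupClass σ₁ A'] {𝒜' : ℕ → σ₁} [GradedRing 𝒜']
  {B' σ₂ : Type u} [CommRing B'] [SetLike σ₂ B'] [AddSubgroupClass σ₂ B'] {ℬ' : ℕ → σ₂} [GradedRing ℬ']
  (ι : 𝒜 →+*ᵍ ℬ) {z : B} (hz : z ∈ ℬ 1)
  (hbij : Function.Bijective (Polynomial.eval₂RingHom (ι.toRingHom : A →+* B) z))

include hbij in
theorem graded_ext (f g : ℬ →+*ᵍ 𝒜') (h : ∀ a, f (ι a) = g (ι a)) (hzz : f z = g z) : f = g := by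
  refine GradedRingHom.ext fun b => ?_
  obtain ⟨P, rfl⟩ := hbij.2 b
  induction P using Polynomial.induction_on' with
  | add P Q hP hQ => rw [map_add, map_add, map_add, hP, hQ]
  | monomial i c =>
    have e : Polynomial.eval₂RingHom (ι.toRingHom : A →+* B) z (Polynomial.monomial i c) = ι c * z ^ i := by
      simp
    rw [e, map_mul, map_mul, map_pow, map_pow, h, hzz]

variable (θ : Away ℬ z →+* A)
  (hθ : ∀ (q : Away ℬ z) (k : ℕ) (a : A), a ∈ 𝒜 k →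
    q.val = Localization.mk (ι a) ⟨z ^ k, pow_mem (Submonoid.mem_powers z) k⟩ → θ q = a)

include hbij hθ in
/-- The cone immersions commute with the morphism of projective cones. -/
theorem cone_nat (ι' : 𝒜' →+*ᵍ ℬ') (rA : 𝒜 →+*ᵍ 𝒜') (rB : ℬ →+*ᵍ ℬ') (hcomm : ∀ a, rB (ι a) = ι' (rA a))
    {z' : B'} (hz' : z' ∈ ℬ' 1) (hzz : rB z = z') (θ' : Away ℬ' z' →+* A')
    (hθ' : ∀ (q : Away ℬ' z') (k : ℕ) (a : A'), a ∈ 𝒜' k →
      q.val = Localization.mk (ι' a) ⟨z' ^ k, pow_mem (Submonoid.mem_powers z') k⟩ → θ' q = a)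
    {Q Q' W' : Scheme.{u}} (e : Proj ℬ ⟶ Q) (e' : Proj ℬ' ⟶ Q') (wι : W' ⟶ Q') [Mono wι] (F : W' ⟶ Q)
    (l : Spec (CommRingCat.of (Away ℬ' (rB z))) ⟶ W')
    (hl : l ≫ wι = Proj.awayι ℬ' (rB z) (rB.2 hz) one_pos ≫ e')
    (hF : l ≫ F = Spec.map (CommRingCat.ofHom (Away.map rB z)) ≫ Proj.awayι ℬ z hz one_pos ≫ e)
    (m : Spec (CommRingCat.of A') ⟶ W') (hm : m ≫ wι = AwayDehom.point z' hz' θ' ≫ e') :
    m ≫ F = Spec.map (CommRingCat.ofHom rA.toRingHom) ≫ AwayDehom.point z hz θ ≫ e := by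
  subst hzz
  have key : rA.toRingHom.comp θ = θ'.comp (Away.map rB z) := by
    refine ConeImm.hom_ext_frac ι hz hbij θ hθ _ _ fun k a ha => ?_
    rw [RingHom.comp_apply, RingHom.comp_apply, AwayDehom.θ_frac ι z hz θ hθ]
    refine (hθ' _ k (rA a) (rA.map_mem ha) ?_).symm
    rw [AwayDehom.frac, Away.map_mk, Away.val_mk]
    simp only [hcomm]
  have hml : m = Spec.map (CommRingCat.ofHom θ') ≫ l := by
    rw [← cancel_mono wι, hm, Category.assoc, hl, AwayDehom.point, Category.assoc]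
  rw [hml, Category.assoc, hF, AwayDehom.point, Category.assoc, ← Spec.map_comp_assoc, ← Spec.map_comp_assoc,
    ← CommRingCat.ofHom_comp, ← CommRingCat.ofHom_comp, key]

end ring

variable {Y Y' PC PC' : Scheme.{u}} {q : Y' ⟶ Y} {𝒮 : RelProj.QCGrAlg Y} {𝒮' : RelProj.QCGrAlg Y'}
  {u : RelProj.QGrHom q 𝒮 𝒮'}
  {Sh : RelProj.QCGrAlg Y} {ι : 𝒮.toQCAlg ⟶ Sh.toQCAlg} {z : Sh.presheaf.obj (op ⊤)}
  {hz : RelCone.IsPolyOver 𝒮 Sh ι z}
  {pC : PC ⟶ Y}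
  {chartC : ∀ (U : Y.Opens) (hU : IsAffineOpen U), (((pC ⁻¹ᵁ U : PC.Opens) : Scheme.{u}) ≅ Proj (Sh.deg U hU))}
  {Sh' : RelProj.QCGrAlg Y'} {ι' : 𝒮'.toQCAlg ⟶ Sh'.toQCAlg} {z' : Sh'.presheaf.obj (op ⊤)}
  {hz' : RelCone.IsPolyOver 𝒮' Sh' ι' z'}
  {pC' : PC' ⟶ Y'}
  {chartC' : ∀ (U : Y'.Opens) (hU : IsAffineOpen U), (((pC' ⁻¹ᵁ U : PC'.Opens) : Scheme.{u}) ≅ Proj (Sh'.deg U hU))}
  {uh : RelProj.QGrHom q Sh Sh'}

section comm

variable (huh : ∀ U : Y.Opens, ι.hom.app (op U) ≫ uh.app U = u.app U ≫ ι'.hom.app (op (q ⁻¹ᵁ U)))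
  (huhz : (uh.app ⊤).hom z = RelCone.restrictTop Sh' z' (q ⁻¹ᵁ ⊤))
  {U : Y.Opens} (hU : IsAffineOpen U) {U' : Y'.Opens} (hU' : IsAffineOpen U') (hle : U' ≤ q ⁻¹ᵁ U)

include huh in
theorem comm_apply (a : 𝒮.presheaf.obj (op U)) :
    uh.gradedAt U hU U' hU' hle (Retraction.φ hz U hU a) =
      Retraction.φ hz' U' hU' (u.gradedAt U hU U' hU' hle a) := by
  change (uh.appLE U U' hle).hom ((ι.hom.app (op U)).hom a) = (ι'.hom.app (op U')).hom ((u.appLE U U' hle).hom a)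
  rw [RelSpec.QHom.appLE_eq, RelSpec.QHom.appLE_eq]
  refine Eq.trans (congrArg (Sh'.presheaf.map (homOfLE hle).op).hom (congr($(huh U) a))) ?_
  exact (congr(($(ι'.hom.naturality (homOfLE hle).op)).hom ((u.app U).hom a))).symm

include huhz in
theorem z_apply :
    uh.gradedAt U hU U' hU' hle (RelCone.restrictTop Sh z U) = RelCone.restrictTop Sh' z' U' := by
  change (uh.appLE U U' hle).hom ((Sh.presheaf.map (homOfLE le_top).op).hom z) = _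
  have e := congr($(uh.toQHom.map_appLE (le_top : U ≤ ⊤) hle) z)
  refine e.trans ?_
  rw [RelSpec.QHom.appLE_eq]
  refine Eq.trans (congrArg (Sh'.presheaf.map (homOfLE _).op).hom huhz) ?_
  change (Sh'.presheaf.map _).hom ((Sh'.presheaf.map _).hom z') = (Sh'.presheaf.map _).hom z'
  rw [← RingHom.comp_apply, ← CommRingCat.hom_comp, ← Functor.map_comp]
  rfl

end comm

variable (hC : RelProj.IsRelProj Sh pC chartC) (hC' : RelProj.IsRelProj Sh' pC' chartC')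
  (huh : ∀ U : Y.Opens, ι.hom.app (op U) ≫ uh.app U = u.app U ≫ ι'.hom.app (op (q ⁻¹ᵁ U)))
  {Φh : ((RelProj.domQ uh pC' chartC' : PC'.Opens) : Scheme.{u}) ⟶ PC}
  (hΦh : RelProj.IsProjQMapOn uh pC chartC pC' chartC' (RelProj.domQ uh pC' chartC') Φh)

include hC hC' huh hΦh in
/-- The preimage of the pointed cone on a chart. -/
theorem preimage_iff {U : Y.Opens} (hU : IsAffineOpen U) {U' : Y'.Opens} (hU' : IsAffineOpen U')
    (hle : U' ≤ q ⁻¹ᵁ U) (y : Proj (Sh'.deg U' hU')) :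
    RelProj.emb pC' chartC' U' hU' y ∈
        (RelProj.domQ uh pC' chartC').ι ''ᵁ (Φh ⁻¹ᵁ RelCone.pointedProjCone 𝒮 hz pC chartC) ↔
      ∃ (d : ℕ) (f : 𝒮.presheaf.obj (op U)), 0 < d ∧ f ∈ 𝒮.deg U hU d ∧
        y ∈ Proj.basicOpen (Sh'.deg U' hU') (Retraction.φ hz' U' hU' (u.gradedAt U hU U' hU' hle f)) := by
  have hy : pC' (RelProj.emb pC' chartC' U' hU' y) ∈ U' := ((chartC' U' hU').inv y).2
  constructor
  · rintro ⟨x, hx, hxy⟩
    have hxy' : x.1 = RelProj.emb pC' chartC' U' hU' y := hxy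
    have hxU : pC' x.1 ∈ U' := hxy' ▸ hy
    obtain ⟨w, hw⟩ : Φh x ∈ (RelProj.emb pC chartC U hU).opensRange := by
      rw [ProjQ.opensRange_emb]
      change pC (Φh x) ∈ U
      rw [← Scheme.Hom.comp_apply, ProjQ.over hC hC' hΦh]
      exact hle hxU
    have hwd := (Infinity.mem_pointedProjCone_iff hz pC chartC hC U hU w).1
      (show RelProj.emb pC chartC U hU w ∈ RelCone.pointedProjCone 𝒮 hz pC chartC by rw [hw]; exact hx)
    obtain ⟨d, f, hd, hf, hfw⟩ := (ProjQ.domOpen_eq _ w).1 hwd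
    refine ⟨d, f, hd, hf, ?_⟩
    have e := (ProjQ.mem_preimage_iff hC hC' hΦh U hU U' hU' hle hd (Retraction.φ hz U hU f)
      ((Retraction.φ hz U hU).2 hf) x hxU).1 ⟨w, hfw, hw⟩
    rw [hxy', comm_apply (hz' := hz') huh hU hU' hle f] at e
    obtain ⟨v, hv, hvy⟩ := e
    exact (RelProj.emb pC' chartC' U' hU').isOpenEmbedding.injective hvy ▸ hv
  · rintro ⟨d, f, hd, hf, hfy⟩
    rw [← comm_apply (hz := hz) (hz' := hz') huh hU hU' hle f] at hfy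
    have hmem : RelProj.emb pC' chartC' U' hU' y ∈ RelProj.domQ uh pC' chartC' :=
      ((ProjQ.domQ_inf hC' U hU U' hU' hle).ge ⟨y, (ProjQ.domOpen_eq _ y).2
        ⟨d, _, hd, (Retraction.φ hz U hU).2 hf, hfy⟩, rfl⟩).1
    refine ⟨⟨_, hmem⟩, ?_, rfl⟩
    obtain ⟨w, hw, hwΦ⟩ := (ProjQ.mem_preimage_iff hC hC' hΦh U hU U' hU' hle hd (Retraction.φ hz U hU f)
      ((Retraction.φ hz U hU).2 hf) ⟨_, hmem⟩ hy).2 ⟨y, hfy, rfl⟩
    change Φh ⟨_, hmem⟩ ∈ RelCone.pointedProjCone 𝒮 hz pC chartC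
    rw [← hwΦ]
    exact (Infinity.mem_pointedProjCone_iff hz pC chartC hC U hU w).2
      ((ProjQ.domOpen_eq _ w).2 ⟨d, f, hd, hf, hw⟩)

theorem exists_pair (p' : PC' ⟶ Y')
    (chart' : ∀ (U : Y'.Opens) (hU : IsAffineOpen U), (((p' ⁻¹ᵁ U : PC'.Opens) : Scheme.{u}) ≅ Proj (Sh'.deg U hU)))
    (x : PC') :
    ∃ (U : Y.Opens) (hU : IsAffineOpen U) (U' : Y'.Opens) (hU' : IsAffineOpen U') (_ : U' ≤ q ⁻¹ᵁ U)
      (y : Proj (Sh'.deg U' hU')), RelProj.emb p' chart' U' hU' y = x := by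
  obtain ⟨U, hU, hxU, -⟩ := exists_isAffineOpen_mem_and_subset (X := Y) (U := ⊤) (x := q (p' x)) trivial
  obtain ⟨U', hU', hxU', hle⟩ := exists_isAffineOpen_mem_and_subset (X := Y') (U := q ⁻¹ᵁ U) (x := p' x) hxU
  obtain ⟨y, hy⟩ : x ∈ (RelProj.emb p' chart' U' hU').opensRange := by
    rw [ProjQ.opensRange_emb]; exact hxU'
  exact ⟨U, hU, U', hU', hle, y, hy⟩

include hC hC' huh hΦh in
theorem preimage_le :
    (RelProj.domQ uh pC' chartC').ι ''ᵁ (Φh ⁻¹ᵁ RelCone.pointedProjCone 𝒮 hz pC chartC) ≤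
      RelCone.pointedProjCone 𝒮' hz' pC' chartC' := by
  intro x hx
  obtain ⟨U, hU, U', hU', hle, y, rfl⟩ := exists_pair (q := q) pC' chartC' x
  obtain ⟨d, f, hd, hf, hfy⟩ := (preimage_iff (hz' := hz') hC hC' huh hΦh hU hU' hle y).1 hx
  exact (Infinity.mem_pointedProjCone_iff hz' pC' chartC' hC' U' hU' y).2
    ((ProjQ.domOpen_eq _ y).2 ⟨d, _, hd, (u.gradedAt U hU U' hU' hle).2 hf, hfy⟩)

variable (huhz : (uh.app ⊤).hom z = RelCone.restrictTop Sh' z' (q ⁻¹ᵁ ⊤))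
  {P' : Scheme.{u}} {p' : P' ⟶ Y'}
  {chart' : ∀ (U : Y'.Opens) (hU : IsAffineOpen U), (((p' ⁻¹ᵁ U : P'.Opens) : Scheme.{u}) ≅ Proj (𝒮'.deg U hU))}
  (hP' : RelProj.IsRelProj 𝒮' p' chart')

include hP' in
theorem domOpen_eq_top (htop : RelProj.domQ u p' chart' = ⊤) {U : Y.Opens} (hU : IsAffineOpen U)
    {U' : Y'.Opens} (hU' : IsAffineOpen U') (hle : U' ≤ q ⁻¹ᵁ U) :
    RelCone.domOpen (u.gradedAt U hU U' hU' hle) = ⊤ := by
  refine top_le_iff.1 fun w _ => ?_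
  have h : RelProj.emb p' chart' U' hU' w ∈ RelProj.domQ u p' chart' ⊓ p' ⁻¹ᵁ U' :=
    ⟨htop.ge (Set.mem_univ _), ((chart' U' hU').inv w).2⟩
  rw [ProjQ.domQ_inf hP' U hU U' hU' hle] at h
  obtain ⟨v, hv, hvw⟩ := h
  exact (RelProj.emb p' chart' U' hU').isOpenEmbedding.injective hvw ▸ hv

theorem exists_notMem {A σ : Type u} [CommRing A] [SetLike σ A] [AddSubgroupClass σ A] {𝒜 : ℕ → σ} [GradedRing 𝒜]
    {A' σ₁ : Type u} [CommRing A'] [SetLike σ₁ A'] [AddSubgroupClass σ₁ A'] {𝒜' : ℕ → σ₁} [GradedRing 𝒜']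
    {B' σ₂ : Type u} [CommRing B'] [SetLike σ₂ B'] [AddSubgroupClass σ₂ B'] {ℬ' : ℕ → σ₂} [GradedRing ℬ']
    (ψ : 𝒜 →+*ᵍ 𝒜') (ι' : 𝒜' →+*ᵍ ℬ') (htop : RelCone.domOpen ψ = ⊤) (y : Proj ℬ')
    (hy : y ∈ RelCone.domOpen ι') :
    ∃ (d : ℕ) (f : A), 0 < d ∧ f ∈ 𝒜 d ∧ y ∈ Proj.basicOpen ℬ' (ι' (ψ f)) := by
  haveI := y.isPrime
  obtain ⟨g, hg, hgy⟩ := (RelCone.mem_domOpen ι' y).1 hy
  have h := (Funct.domOpen_eq_top_iff ψ).1 htop (Ideal.comap ι'.toRingHom y.asHomogeneousIdeal.toIdeal)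
    (Ideal.IsPrime.comap _) (fun hle => hgy (hle hg))
  by_contra hno
  push Not at hno
  refine h ?_
  rw [HomogeneousIdeal.toIdeal_irrelevant_le]
  intro d hd a ha
  have := hno d a hd ha
  rwa [Proj.mem_basicOpen, not_not] at this

include hC hC' huh hΦh huhz hP' in
theorem preimage_eq (htop : RelProj.domQ u p' chart' = ⊤) :
    RelProj.domQ uh pC' chartC' = ⊤ ∧
      (RelProj.domQ uh pC' chartC').ι ''ᵁ (Φh ⁻¹ᵁ RelCone.pointedProjCone 𝒮 hz pC chartC) =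
        RelCone.pointedProjCone 𝒮' hz' pC' chartC' := by
  constructor
  · refine top_le_iff.1 fun x _ => ?_
    obtain ⟨U, hU, U', hU', hle, y, rfl⟩ := exists_pair (q := q) pC' chartC' x
    refine ((ProjQ.domQ_inf hC' U hU U' hU' hle).ge ⟨y, ?_, rfl⟩).1
    refine (ProjQ.domOpen_eq _ y).2 ?_
    by_cases hy : RelCone.restrictTop Sh' z' U' ∈ y.asHomogeneousIdeal
    · obtain ⟨d, f, hd, hf, hfy⟩ := exists_notMem (u.gradedAt U hU U' hU' hle) (Retraction.φ hz' U' hU')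
        (domOpen_eq_top hP' htop hU hU' hle) y
        (Infinity.dom_of_z_mem (Retraction.φ hz' U' hU') (hz'.deg_z U' hU') (hz'.bij U' hU') y hy)
      rw [← comm_apply (hz := hz) (hz' := hz') huh hU hU' hle f] at hfy
      exact ⟨d, _, hd, (Retraction.φ hz U hU).2 hf, hfy⟩
    · refine ⟨1, RelCone.restrictTop Sh z U, one_pos, hz.deg_z U hU, ?_⟩
      rw [z_apply huhz hU hU' hle]
      exact hy
  · refine le_antisymm (preimage_le hC hC' huh hΦh) fun x hx => ?_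
    obtain ⟨U, hU, U', hU', hle, y, rfl⟩ := exists_pair (q := q) pC' chartC' x
    refine (preimage_iff (hz' := hz') hC hC' huh hΦh hU hU' hle y).2 ?_
    exact exists_notMem (u.gradedAt U hU U' hU' hle) (Retraction.φ hz' U' hU')
      (domOpen_eq_top hP' htop hU hU' hle) y
      ((Infinity.mem_pointedProjCone_iff hz' pC' chartC' hC' U' hU' y).1 hx)

end

end Groth.Agent.H81.Cone.ProjConeFunct
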