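import Groth.Agent.H81.Cone.ProjConeFunct

/-!
# The squares of the projective cone functoriality
-/

set_option autoImplicit false
universe u

open CategoryTheory CategoryTheory.Limits AlgebraicGeometry TopologicalSpace Opposite HomogeneousLocalization
open scoped HomogeneousIdeal

namespace Groth.Agent.H81.Cone.ProjConeSquares

open Groth.Agent.Lib

noncomputable section

variable {Y Y' PC PC' P P' : Scheme.{u}} {q : Y' ⟶ Y} {𝒮 : RelProj.QCGrAlg Y} {𝒮' : RelProj.QCGrAlg Y'}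
  {u : RelProj.QGrHom q 𝒮 𝒮'}
  {Sh : RelProj.QCGrAlg Y} {ι : 𝒮.toQCAlg ⟶ Sh.toQCAlg} {z : Sh.presheaf.obj (op ⊤)}
  {hz : RelCone.IsPolyOver 𝒮 Sh ι z}
  {pC : PC ⟶ Y}
  {chartC : ∀ (U : Y.Opens) (hU : IsAffineOpen U), (((pC ⁻¹ᵁ U : PC.Opens) : Scheme.{u}) ≅ Proj (Sh.deg U hU))}
  {Sh' : RelProj.QCGrAlg Y'} {ι' : 𝒮'.toQCAlg ⟶ Sh'.toQCAlg} {z' : Sh'.presheaf.obj (op ⊤)}
  {hz' : RelCone.IsPolyOver 𝒮' Sh' ι' z'}
  {pC' : PC' ⟶ Y'}
  {chartC' : ∀ (U : Y'.Opens) (hU : IsAffineOpen U), (((pC' ⁻¹ᵁ U : PC'.Opens) : Scheme.{u}) ≅ Proj (Sh'.deg U hU))}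
  {uh : RelProj.QGrHom q Sh Sh'}
  {Φh : ((RelProj.domQ uh pC' chartC' : PC'.Opens) : Scheme.{u}) ⟶ PC}
  (hΦh : RelProj.IsProjQMapOn uh pC chartC pC' chartC' (RelProj.domQ uh pC' chartC') Φh)
  (huh : ∀ U : Y.Opens, ι.hom.app (op U) ≫ uh.app U = u.app U ≫ ι'.hom.app (op (q ⁻¹ᵁ U)))
  (huhz : (uh.app ⊤).hom z = RelCone.restrictTop Sh' z' (q ⁻¹ᵁ ⊤))

section coneImm

variable (hC' : RelProj.IsRelProj Sh' pC' chartC') {i' : 𝒮'.toQCAlg.spec ⟶ PC'}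
  (hi' : RelCone.IsConeImm 𝒮' hz' pC' chartC' i')

include hz huhz hC' hi' in
theorem range_coneImm_le : Set.range i'.base ⊆ ((RelProj.domQ uh pC' chartC' : PC'.Opens) : Set PC') := by
  rintro _ ⟨x, rfl⟩
  obtain ⟨U, hU, U', hU', hle, c, rfl⟩ := Funct.exists_chart_below q 𝒮' x
  rw [RetractCone.i_chart hi' hU' c]
  refine ((ProjQ.domQ_inf hC' U hU U' hU' hle).ge ⟨_, ?_, rfl⟩).1
  refine (ProjQ.domOpen_eq _ _).2 ⟨1, RelCone.restrictTop Sh z U, one_pos, hz.deg_z U hU, ?_⟩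
  rw [ProjConeFunct.z_apply huhz hU hU' hle]
  exact AwayDehom.z_notMem_point _ (hz'.deg_z U' hU') (Infinity.θ₀ hz' U' hU').hom c

variable {Φc : 𝒮'.toQCAlg.spec ⟶ 𝒮.toQCAlg.spec} (hΦc : RelSpec.IsSpecQMap u.toQHom Φc)
  {i : 𝒮.toQCAlg.spec ⟶ PC} (hi : RelCone.IsConeImm 𝒮 hz pC chartC i)

include huh huhz hΦh hi' hΦc hi in
theorem coneImm_comm (i'' : 𝒮'.toQCAlg.spec ⟶ ((RelProj.domQ uh pC' chartC' : PC'.Opens) : Scheme.{u}))
    (hi'' : i'' ≫ (RelProj.domQ uh pC' chartC').ι = i') : i'' ≫ Φh = Φc ≫ i := by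
  refine Scheme.hom_ext_of_forall _ _ fun x => ?_
  obtain ⟨U, hU, U', hU', hle, c, rfl⟩ := Funct.exists_chart_below q 𝒮' x
  refine ⟨(𝒮'.toQCAlg.ι U' hU').opensRange, ⟨c, rfl⟩, ?_⟩
  rw [← cancel_epi (𝒮'.toQCAlg.ι U' hU').isoOpensRange.hom]
  simp only [Scheme.Hom.isoOpensRange_hom_ι_assoc]
  let j : ProjQ.Idx (g := q) (𝒮 := Sh) :=
    ⟨U, hU, U', hU', hle, 1, one_pos, RelCone.restrictTop Sh z U, hz.deg_z U hU⟩
  have key := ProjConeFunct.cone_nat (Retraction.φ hz U hU) (hz.deg_z U hU) (hz.bij U hU)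
    (Infinity.θ₀ hz U hU).hom (Infinity.hθ₀ hz U hU) (Retraction.φ hz' U' hU')
    (u.gradedAt U hU U' hU' hle) (uh.gradedAt U hU U' hU' hle)
    (fun a => ProjConeFunct.comm_apply (hz := hz) (hz' := hz') huh hU hU' hle a)
    (hz'.deg_z U' hU') (ProjConeFunct.z_apply huhz hU hU' hle) (Infinity.θ₀ hz' U' hU').hom
    (Infinity.hθ₀ hz' U' hU') (RelProj.emb pC chartC U hU) (RelProj.emb pC' chartC' U' hU')
    (RelProj.domQ uh pC' chartC').ι Φh (ProjQ.lift (u := uh) pC' chartC' j)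
    (ProjQ.lift_ι (u := uh) (p' := pC') (chart' := chartC') j)
    ((ProjQ.isProjQMapOn_iff Φh).1 hΦh j) (𝒮'.toQCAlg.ι U' hU' ≫ i'')
    (by rw [Category.assoc, hi'', hi' U' hU']; rfl)
  rw [Category.assoc] at key
  rw [key, reassoc_of% (hΦc U hU U' hU' hle), hi U hU]
  rfl

end coneImm

section retraction

variable {p : P ⟶ Y}
  {chart : ∀ (U : Y.Opens) (hU : IsAffineOpen U), (((p ⁻¹ᵁ U : P.Opens) : Scheme.{u}) ≅ Proj (𝒮.deg U hU))}
  {p' : P' ⟶ Y'}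
  {chart' : ∀ (U : Y'.Opens) (hU : IsAffineOpen U), (((p' ⁻¹ᵁ U : P'.Opens) : Scheme.{u}) ≅ Proj (𝒮'.deg U hU))}
  (hC : RelProj.IsRelProj Sh pC chartC) (hC' : RelProj.IsRelProj Sh' pC' chartC')
  (hP' : RelProj.IsRelProj 𝒮' p' chart')
  {r : ((RelCone.pointedProjCone 𝒮 hz pC chartC : PC.Opens) : Scheme.{u}) ⟶ P}
  (hr : Retraction.Cond hz pC chartC p chart r)
  {r' : ((RelCone.pointedProjCone 𝒮' hz' pC' chartC' : PC'.Opens) : Scheme.{u}) ⟶ P'}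
  (hr' : Retraction.Cond hz' pC' chartC' p' chart' r')
  {T : Scheme.{u}} {a : T ⟶ ((RelCone.pointedProjCone 𝒮' hz' pC' chartC' : PC'.Opens) : Scheme.{u})}
  {b : T ⟶ ((RelProj.domQ uh pC' chartC' : PC'.Opens) : Scheme.{u})}
  {c : T ⟶ ((RelCone.pointedProjCone 𝒮 hz pC chartC : PC.Opens) : Scheme.{u})}
  (hab : a ≫ (RelCone.pointedProjCone 𝒮' hz' pC' chartC').ι = b ≫ (RelProj.domQ uh pC' chartC').ι)
  (hbc : b ≫ Φh = c ≫ (RelCone.pointedProjCone 𝒮 hz pC chartC).ι)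

include hΦh huh hC hC' hab hbc in
theorem exists_elt (t : T) :
    ∃ (U : Y.Opens) (hU : IsAffineOpen U) (U' : Y'.Opens) (hU' : IsAffineOpen U') (hle : U' ≤ q ⁻¹ᵁ U)
      (d : ℕ) (f : 𝒮.presheaf.obj (op U)) (_ : 0 < d) (_ : f ∈ 𝒮.deg U hU d) (y : Proj (Sh'.deg U' hU')),
      RelProj.emb pC' chartC' U' hU' y = (a t).1 ∧
        y ∈ Proj.basicOpen (Sh'.deg U' hU') (Retraction.φ hz' U' hU' (u.gradedAt U hU U' hU' hle f)) := by
  obtain ⟨U, hU, U', hU', hle, y, hy⟩ := ProjConeFunct.exists_pair (q := q) pC' chartC' (a t).1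
  have hmem : RelProj.emb pC' chartC' U' hU' y ∈
      (RelProj.domQ uh pC' chartC').ι ''ᵁ (Φh ⁻¹ᵁ RelCone.pointedProjCone 𝒮 hz pC chartC) := by
    refine ⟨b t, ?_, (congr($hab t)).symm.trans hy.symm⟩
    change Φh (b t) ∈ RelCone.pointedProjCone 𝒮 hz pC chartC
    rw [← Scheme.Hom.comp_apply, hbc]
    exact (c t).2
  obtain ⟨d, f, hd, hf, hfy⟩ := (ProjConeFunct.preimage_iff (hz' := hz') hC hC' huh hΦh hU hU' hle y).1 hmem
  exact ⟨U, hU, U', hU', hle, d, f, hd, hf, y, hy, hfy⟩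

include hΦh huh hC hC' hP' hr' hab hbc in
theorem range_retraction_le : Set.range (a ≫ r').base ⊆ ((RelProj.domQ u p' chart' : P'.Opens) : Set P') := by
  rintro _ ⟨t, rfl⟩
  obtain ⟨U, hU, U', hU', hle, d, f, hd, hf, y, hy, hfy⟩ := exists_elt hΦh huh hC hC' hab hbc t
  have hxU : pC' (a t).1 ∈ U' := hy ▸ ((chartC' U' hU').inv y).2
  obtain ⟨w, hw, hwx⟩ := (Retraction.mem_iff hC' hP' hr' hU' hd ((u.gradedAt U hU U' hU' hle).2 hf) (a t) hxU).2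
    ⟨y, hfy, hy⟩
  refine ((ProjQ.domQ_inf hP' U hU U' hU' hle).ge ⟨w, (ProjQ.domOpen_eq _ w).2 ⟨d, f, hd, hf, hw⟩, ?_⟩).1
  exact hwx

variable {Φ : ((RelProj.domQ u p' chart' : P'.Opens) : Scheme.{u}) ⟶ P}
  (hΦ : RelProj.IsProjQMapOn u p chart p' chart' (RelProj.domQ u p' chart') Φ)

include hΦh huh hC hC' hr hr' hab hbc hΦ in
theorem retraction_comm (d : T ⟶ ((RelProj.domQ u p' chart' : P'.Opens) : Scheme.{u}))
    (hd : a ≫ r' = d ≫ (RelProj.domQ u p' chart').ι) : c ≫ r = d ≫ Φ := by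
  refine Scheme.hom_ext_of_forall _ _ fun t => ?_
  obtain ⟨U, hU, U', hU', hle, n, f, hn, hf, y, hy, hfy⟩ := exists_elt hΦh huh hC hC' hab hbc t
  let u₀ := u.gradedAt U hU U' hU' hle
  obtain ⟨g', hg'⟩ := Retraction.exists_chart (h := hz') hC' hU' hn (u₀.2 hf)
  haveI : IsOpenImmersion (g' ≫ (RelCone.pointedProjCone 𝒮' hz' pC' chartC').ι) := by rw [hg']; infer_instance
  haveI : IsOpenImmersion g' := IsOpenImmersion.of_comp g' (RelCone.pointedProjCone 𝒮' hz' pC' chartC').ι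
  have ht : a t ∈ g'.opensRange := by
    obtain ⟨v, hv⟩ := (ProjQ.opensRange_std (p := pC') (chart := chartC') U' hU' hn _
      ((Retraction.φ hz' U' hU').2 (u₀.2 hf))).ge ⟨y, hfy, hy⟩
    exact ⟨v, (RelCone.pointedProjCone 𝒮' hz' pC' chartC').ι.isOpenEmbedding.injective ((congr($hg' v)).trans hv)⟩
  refine ⟨a ⁻¹ᵁ g'.opensRange, ht, ?_⟩
  let O := a ⁻¹ᵁ g'.opensRange
  let k := IsOpenImmersion.lift g' (O.ι ≫ a) (by rintro _ ⟨v, rfl⟩; exact v.2)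
  have hk : k ≫ g' = O.ι ≫ a := IsOpenImmersion.lift_fac _ _ _
  have hL : ∀ ψ : 𝒮.deg U hU →+*ᵍ Sh'.deg U' hU',
      ψ = (uh.gradedAt U hU U' hU' hle).comp (Retraction.φ hz U hU) →
      ∀ k' : (O : Scheme.{u}) ⟶ Spec (CommRingCat.of (Away (Sh'.deg U' hU') (ψ f))),
        k' ≫ Proj.awayι (Sh'.deg U' hU') (ψ f) (ψ.2 hf) hn ≫ RelProj.emb pC' chartC' U' hU' =
          O.ι ≫ b ≫ (RelProj.domQ uh pC' chartC').ι →
        O.ι ≫ c ≫ r = k' ≫ Spec.map (CommRingCat.ofHom (Away.map ψ f)) ≫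
          Proj.awayι (𝒮.deg U hU) f hf hn ≫ RelProj.emb p chart U hU := by
    rintro ψ rfl k' hk'
    let j : ProjQ.Idx (g := q) (𝒮 := Sh) :=
      ⟨U, hU, U', hU', hle, n, hn, Retraction.φ hz U hU f, (Retraction.φ hz U hU).2 hf⟩
    have e1 : k' ≫ ProjQ.lift (u := uh) pC' chartC' j = O.ι ≫ b := by
      rw [← cancel_mono (RelProj.domQ uh pC' chartC').ι]
      refine (Category.assoc _ _ _).trans ((congrArg (fun s => k' ≫ s) ?_).trans (hk'.trans (Category.assoc _ _ _).symm))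
      exact ProjQ.lift_ι j
    obtain ⟨g, hg⟩ := Retraction.exists_chart (h := hz) hC hU hn hf
    have e2 : O.ι ≫ c = k' ≫ Spec.map (CommRingCat.ofHom
        (Away.map (uh.gradedAt U hU U' hU' hle) (Retraction.φ hz U hU f))) ≫ g := by
      rw [← cancel_mono (RelCone.pointedProjCone 𝒮 hz pC chartC).ι, Category.assoc, ← hbc, ← reassoc_of% e1,
        Category.assoc, Category.assoc, hg]
      exact congrArg (fun s => k' ≫ s) ((ProjQ.isProjQMapOn_iff Φh).1 hΦh j)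
    rw [reassoc_of% e2, hr U hU n hn f hf g hg, ← Spec.map_comp_assoc, ← CommRingCat.ofHom_comp]
    rw [Away.map_comp]
    rfl
  have h1 := hL ((Retraction.φ hz' U' hU').comp u₀)
    (GradedRingHom.ext fun x => (ProjConeFunct.comm_apply (hz := hz) (hz' := hz') huh hU hU' hle x).symm) k
    (by
      rw [← hab, ← reassoc_of% hk, hg']
      rfl)
  let j' : ProjQ.Idx (g := q) (𝒮 := 𝒮) := ⟨U, hU, U', hU', hle, n, hn, f, hf⟩
  have e3 : O.ι ≫ d = k ≫ Spec.map (CommRingCat.ofHom (Away.map (Retraction.φ hz' U' hU') (u₀ f))) ≫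
      ProjQ.lift (u := u) p' chart' j' := by
    rw [← cancel_mono (RelProj.domQ u p' chart').ι, Category.assoc, ← hd, Category.assoc, Category.assoc,
      ProjQ.lift_ι, ← reassoc_of% hk, hr' U' hU' n hn (u₀ f) (u₀.2 hf) g' hg']
    rfl
  rw [h1, reassoc_of% e3, (ProjQ.isProjQMapOn_iff Φ).1 hΦ j']
  rw [Away.map_comp]
  change _ = k ≫ Spec.map _ ≫ Spec.map _ ≫ ProjQ.std p chart U hU hn f hf
  rw [← Spec.map_comp_assoc]
  rfl

end retraction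

section infinity

variable {p : P ⟶ Y}
  {chart : ∀ (U : Y.Opens) (hU : IsAffineOpen U), (((p ⁻¹ᵁ U : P.Opens) : Scheme.{u}) ≅ Proj (𝒮.deg U hU))}
  {p' : P' ⟶ Y'}
  {chart' : ∀ (U : Y'.Opens) (hU : IsAffineOpen U), (((p' ⁻¹ᵁ U : P'.Opens) : Scheme.{u}) ≅ Proj (𝒮'.deg U hU))}
  (hC' : RelProj.IsRelProj Sh' pC' chartC') (hP' : RelProj.IsRelProj 𝒮' p' chart')
  {θ : Sh.toQCAlg ⟶ 𝒮.toQCAlg} {hθ : RelProj.IsGradedHom θ} (hθι : ι ≫ θ = 𝟙 _)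
  (hθz : (θ.hom.app (op ⊤)).hom z = 0)
  {jX : P ⟶ PC} (hjX : RelProj.IsProjQMap (RelProj.QGrHom.ofHom θ hθ) pC chartC p chart jX)
  {θ' : Sh'.toQCAlg ⟶ 𝒮'.toQCAlg} {hθ' : RelProj.IsGradedHom θ'} (hθι' : ι' ≫ θ' = 𝟙 _)
  (hθz' : (θ'.hom.app (op ⊤)).hom z' = 0)
  {jX' : P' ⟶ PC'} (hjX' : RelProj.IsProjQMap (RelProj.QGrHom.ofHom θ' hθ') pC' chartC' p' chart' jX')

theorem proj_chart {S Q Q₁ : Scheme.{u}} {𝒜 ℬ : RelProj.QCGrAlg S} {α : 𝒜.toQCAlg ⟶ ℬ.toQCAlg}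
    {hα : RelProj.IsGradedHom α} {a : Q ⟶ S}
    {ca : ∀ (U : S.Opens) (hU : IsAffineOpen U), (((a ⁻¹ᵁ U : Q.Opens) : Scheme.{u}) ≅ Proj (𝒜.deg U hU))}
    {b : Q₁ ⟶ S}
    {cb : ∀ (U : S.Opens) (hU : IsAffineOpen U), (((b ⁻¹ᵁ U : Q₁.Opens) : Scheme.{u}) ≅ Proj (ℬ.deg U hU))}
    {j : Q₁ ⟶ Q} (hj : RelProj.IsProjQMap (RelProj.QGrHom.ofHom α hα) a ca b cb j)
    (U : S.Opens) (hU : IsAffineOpen U) {d : ℕ} (hd : 0 < d) (x : 𝒜.presheaf.obj (op U)) (hx : x ∈ 𝒜.deg U hU d) :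
    ProjQ.std b cb U hU hd (RelProj.gradedHomAt α hα U hU x) ((RelProj.gradedHomAt α hα U hU).2 hx) ≫ j =
      Spec.map (CommRingCat.ofHom (Away.map (RelProj.gradedHomAt α hα U hU) x)) ≫
        ProjQ.std a ca U hU hd x hx := by
  have key : ∀ ψ : 𝒜.deg U hU →+*ᵍ ℬ.deg U hU,
      ψ = (RelProj.QGrHom.ofHom α hα).gradedAt U hU U hU le_rfl →
      ProjQ.std b cb U hU hd (ψ x) (ψ.2 hx) ≫ j =
        Spec.map (CommRingCat.ofHom (Away.map ψ x)) ≫ ProjQ.std a ca U hU hd x hx := by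
    rintro ψ rfl
    exact hj.2 U hU U hU le_rfl d hd x hx
  exact key _ (ProjQ.gradedAt_ofHom α hα U hU).symm

include hz hz' huh hP' hθι' in
theorem exists_elt_infinity {w : P'} (hw : w ∈ RelProj.domQ u p' chart') :
    ∃ (U : Y.Opens) (hU : IsAffineOpen U) (U' : Y'.Opens) (hU' : IsAffineOpen U') (hle : U' ≤ q ⁻¹ᵁ U)
      (d : ℕ) (b : Sh.presheaf.obj (op U)) (hd : 0 < d) (hb : b ∈ Sh.deg U hU d),
      w ∈ (ProjQ.std p' chart' U' hU' hd (((RelProj.gradedHomAt θ' hθ' U' hU').comp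
        (uh.gradedAt U hU U' hU' hle)) b) (((RelProj.gradedHomAt θ' hθ' U' hU').comp
          (uh.gradedAt U hU U' hU' hle)).2 hb)).opensRange := by
  obtain ⟨⟨⟨⟨U, hU⟩, ⟨U', hU'⟩⟩, hle⟩, v, hv, rfl⟩ := Opens.mem_iSup.1 hw
  obtain ⟨d, f, hd, hf, hfv⟩ := (ProjQ.domOpen_eq _ v).1 hv
  refine ⟨U, hU, U', hU', hle, d, Retraction.φ hz U hU f, hd, (Retraction.φ hz U hU).2 hf, ?_⟩
  rw [ProjQ.opensRange_std]
  refine ⟨v, ?_, rfl⟩
  have e : ((RelProj.gradedHomAt θ' hθ' U' hU').comp (uh.gradedAt U hU U' hU' hle)) (Retraction.φ hz U hU f) =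
      u.gradedAt U hU U' hU' hle f :=
    (congrArg (RelProj.gradedHomAt θ' hθ' U' hU') (ProjConeFunct.comm_apply (hz := hz) (hz' := hz') huh hU hU' hle f)).trans
      (congr(($(hθι')).hom.app (op U') (u.gradedAt U hU U' hU' hle f)))
  rw [e]
  exact hfv

include huh hC' hP' hθι' hjX' in
theorem image_infinity_le (hz : RelCone.IsPolyOver 𝒮 Sh ι z) (hz' : RelCone.IsPolyOver 𝒮' Sh' ι' z') :
    jX'.base '' ((RelProj.domQ u p' chart' : P'.Opens) : Set P') ⊆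
      ((RelProj.domQ uh pC' chartC' : PC'.Opens) : Set PC') := by
  rintro _ ⟨w, hw, rfl⟩
  obtain ⟨U, hU, U', hU', hle, d, b, hd, hb, v, hv⟩ :=
    exists_elt_infinity (hz := hz) (hz' := hz') (θ' := θ') (hθ' := hθ') huh hP' hθι' hw
  let j : ProjQ.Idx (g := q) (𝒮 := Sh) := ⟨U, hU, U', hU', hle, d, hd, b, hb⟩
  rw [← hv]
  refine ProjQ.mem_domQ.2 ⟨j, ?_⟩
  exact ⟨_, (congr($(proj_chart hjX' U' hU' hd (uh.gradedAt U hU U' hU' hle b)
    ((uh.gradedAt U hU U' hU' hle).2 hb)) v)).symm⟩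

variable {Φ : ((RelProj.domQ u p' chart' : P'.Opens) : Scheme.{u}) ⟶ P}
  (hΦ : RelProj.IsProjQMapOn u p chart p' chart' (RelProj.domQ u p' chart') Φ)

include hΦh huh huhz hP' hθι hθz hjX hθι' hθz' hjX' hΦ in
theorem infinity_comm (hz : RelCone.IsPolyOver 𝒮 Sh ι z) (hz' : RelCone.IsPolyOver 𝒮' Sh' ι' z')
    {T : Scheme.{u}} (d : T ⟶ ((RelProj.domQ u p' chart' : P'.Opens) : Scheme.{u}))
    (e : T ⟶ ((RelProj.domQ uh pC' chartC' : PC'.Opens) : Scheme.{u}))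
    (hde : d ≫ (RelProj.domQ u p' chart').ι ≫ jX' = e ≫ (RelProj.domQ uh pC' chartC').ι) :
    e ≫ Φh = d ≫ Φ ≫ jX := by
  refine Scheme.hom_ext_of_forall _ _ fun t => ?_
  obtain ⟨U, hU, U', hU', hle, n, b, hn, hb, hmem⟩ :=
    exists_elt_infinity (hz := hz) (hz' := hz') (θ' := θ') (hθ' := hθ') huh hP' hθι' (d t).2
  let θU := RelProj.gradedHomAt θ hθ U hU
  let θU' := RelProj.gradedHomAt θ' hθ' U' hU'
  let u₀ := u.gradedAt U hU U' hU' hle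
  let uh₀ := uh.gradedAt U hU U' hU' hle
  let chartψ := ProjQ.std p' chart' U' hU' hn ((θU'.comp uh₀) b) ((θU'.comp uh₀).2 hb)
  refine ⟨(d ≫ (RelProj.domQ u p' chart').ι) ⁻¹ᵁ chartψ.opensRange, hmem, ?_⟩
  let O := (d ≫ (RelProj.domQ u p' chart').ι) ⁻¹ᵁ chartψ.opensRange
  let k := IsOpenImmersion.lift chartψ (O.ι ≫ d ≫ (RelProj.domQ u p' chart').ι) (by rintro _ ⟨v, rfl⟩; exact v.2)
  have hk : k ≫ chartψ = O.ι ≫ d ≫ (RelProj.domQ u p' chart').ι := IsOpenImmersion.lift_fac _ _ _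
  have hψ : θU'.comp uh₀ = u₀.comp θU := by
    refine ProjConeFunct.graded_ext (Retraction.φ hz U hU) (hz.bij U hU) _ _ (fun x => ?_) ?_
    · refine ((congrArg θU' (ProjConeFunct.comm_apply (hz := hz) (hz' := hz') huh hU hU' hle x)).trans
        (congr(($(hθι')).hom.app (op U') (u₀ x)))).trans ?_
      exact congrArg u₀ (congr(($(hθι)).hom.app (op U) x)).symm
    · have h1 : θU (RelCone.restrictTop Sh z U) = 0 := by
        refine (congr(($(θ.hom.naturality (homOfLE (le_top (a := U))).op)).hom z)).trans ?_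
        change (𝒮.presheaf.map _).hom ((θ.hom.app (op ⊤)).hom z) = 0
        rw [hθz, map_zero]
      have h2 : θU' (RelCone.restrictTop Sh' z' U') = 0 := by
        refine (congr(($(θ'.hom.naturality (homOfLE (le_top (a := U'))).op)).hom z')).trans ?_
        change (𝒮'.presheaf.map _).hom ((θ'.hom.app (op ⊤)).hom z') = 0
        rw [hθz', map_zero]
      change θU' (uh₀ (RelCone.restrictTop Sh z U)) = u₀ (θU (RelCone.restrictTop Sh z U))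
      rw [ProjConeFunct.z_apply huhz hU hU' hle, h1, h2, map_zero]
  have hR : ∀ ψ : Sh.deg U hU →+*ᵍ 𝒮'.deg U' hU', ψ = u₀.comp θU →
      ∀ k' : (O : Scheme.{u}) ⟶ Spec (CommRingCat.of (Away (𝒮'.deg U' hU') (ψ b))),
        k' ≫ ProjQ.std p' chart' U' hU' hn (ψ b) (ψ.2 hb) = O.ι ≫ d ≫ (RelProj.domQ u p' chart').ι →
        O.ι ≫ d ≫ Φ ≫ jX = k' ≫ Spec.map (CommRingCat.ofHom (Away.map ψ b)) ≫
          ProjQ.std pC chartC U hU hn b hb := by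
    rintro ψ rfl k' hk'
    let j : ProjQ.Idx (g := q) (𝒮 := 𝒮) := ⟨U, hU, U', hU', hle, n, hn, θU b, θU.2 hb⟩
    have e1 : k' ≫ ProjQ.lift (u := u) p' chart' j = O.ι ≫ d := by
      rw [← cancel_mono (RelProj.domQ u p' chart').ι]
      refine (Category.assoc _ _ _).trans ((congrArg (fun s => k' ≫ s) ?_).trans (hk'.trans (Category.assoc _ _ _).symm))
      exact ProjQ.lift_ι j
    have e2 : ProjQ.lift (u := u) p' chart' j ≫ Φ ≫ jX = Spec.map (CommRingCat.ofHom (Away.map u₀ (θU b))) ≫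
        Spec.map (CommRingCat.ofHom (Away.map θU b)) ≫ ProjQ.std pC chartC U hU hn b hb := by
      rw [← Category.assoc, (ProjQ.isProjQMapOn_iff Φ).1 hΦ j, ProjQ.Idx.c, Category.assoc]
      exact congrArg (fun s => Spec.map (CommRingCat.ofHom (Away.map u₀ (θU b))) ≫ s) (proj_chart hjX U hU hn b hb)
    rw [← reassoc_of% e1]
    refine congrArg (fun s => k' ≫ s) (e2.trans ?_)
    rw [Away.map_comp]
    exact (Spec.map_comp_assoc _ _ _).symm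
  let j : ProjQ.Idx (g := q) (𝒮 := Sh) := ⟨U, hU, U', hU', hle, n, hn, b, hb⟩
  have e2 : O.ι ≫ e = k ≫ Spec.map (CommRingCat.ofHom (Away.map θU' (uh₀ b))) ≫
      ProjQ.lift (u := uh) pC' chartC' j := by
    rw [← cancel_mono (RelProj.domQ uh pC' chartC').ι, Category.assoc, ← hde, Category.assoc, Category.assoc,
      ProjQ.lift_ι, ← reassoc_of% hk]
    exact congrArg (k ≫ ·) (proj_chart hjX' U' hU' hn (uh₀ b) (uh₀.2 hb))
  rw [reassoc_of% e2, (ProjQ.isProjQMapOn_iff Φh).1 hΦh j, hR _ hψ k hk, ProjQ.Idx.c, Away.map_comp]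
  exact congrArg (fun s => k ≫ s) (Spec.map_comp_assoc _ _ _).symm

end infinity

end

end Groth.Agent.H81.Cone.ProjConeSquares
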