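import Groth.Agent.H81.Cone.Retraction

/-!
# The retraction of the pointed affine cone
-/

set_option autoImplicit false
universe u

open CategoryTheory CategoryTheory.Limits AlgebraicGeometry TopologicalSpace Opposite HomogeneousLocalization
open scoped HomogeneousIdeal

namespace Groth.Agent.H81.Cone.RetractCone

noncomputable section

variable {Y PC P : Scheme.{u}} {𝒮 Sh : RelProj.QCGrAlg Y} {ι : 𝒮.toQCAlg ⟶ Sh.toQCAlg}
  {z : Sh.presheaf.obj (op ⊤)} {h : RelCone.IsPolyOver 𝒮 Sh ι z} {pC : PC ⟶ Y}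
  {chartC : ∀ (U : Y.Opens) (hU : IsAffineOpen U), (((pC ⁻¹ᵁ U : PC.Opens) : Scheme.{u}) ≅ Proj (Sh.deg U hU))}
  {p : P ⟶ Y}
  {chart : ∀ (U : Y.Opens) (hU : IsAffineOpen U), (((p ⁻¹ᵁ U : P.Opens) : Scheme.{u}) ≅ Proj (𝒮.deg U hU))}
  {i : 𝒮.toQCAlg.spec ⟶ PC} (hi : RelCone.IsConeImm 𝒮 h pC chartC i)

include hi in
theorem i_chart {U : Y.Opens} (hU : IsAffineOpen U) (c : Spec (𝒮.presheaf.obj (op U))) :
    i (𝒮.toQCAlg.ι U hU c) = RelProj.emb pC chartC U hU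
      ((AwayDehom.point (RelCone.restrictTop Sh z U) (h.deg_z U hU) (Infinity.θ₀ h U hU).hom) c) := by
  rw [← Scheme.Hom.comp_apply, hi U hU]
  rfl

variable (hPC : RelProj.IsRelProj Sh pC chartC) (hP : RelProj.IsRelProj 𝒮 p chart)

include hi hPC in
theorem pointed_le :
    (RelCone.pointedCone 𝒮 : 𝒮.toQCAlg.spec.Opens) ≤ i ⁻¹ᵁ (RelCone.pointedProjCone 𝒮 h pC chartC) := by
  intro x hx
  obtain ⟨U, hU, c, rfl⟩ := Vertex.exists_mem_chart 𝒮.toQCAlg x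
  change i (𝒮.toQCAlg.ι U hU c) ∈ RelCone.pointedProjCone 𝒮 h pC chartC
  rw [i_chart hi hU c]
  exact (Infinity.mem_pointedProjCone_iff h pC chartC hPC U hU _).2
    ((Infinity.dom_point_iff (Retraction.φ h U hU) (h.deg_z U hU) (Infinity.θ₀ h U hU).hom (Infinity.hθ₀ h U hU) c).2
      ((Vertex.mem_pointedCone_iff 𝒮 hU c).1 hx))

include hi hPC in
theorem i_pC : i ≫ pC = 𝒮.toQCAlg.π :=
  ConeImm.i_pC ι h.graded z h.deg_z pC chartC (Infinity.θ₀ h) (Infinity.hθ₀ h) i hi hPC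

theorem basicOpen_le_pointed {U : Y.Opens} (hU : IsAffineOpen U) {d : ℕ} (hd : 0 < d)
    {f : 𝒮.presheaf.obj (op U)} (hf : f ∈ 𝒮.deg U hU d) :
    (𝒮.toQCAlg.ι U hU) ''ᵁ PrimeSpectrum.basicOpen f ≤ RelCone.pointedCone 𝒮 := by
  rintro _ ⟨c, hc, rfl⟩
  exact (Vertex.mem_pointedCone_iff 𝒮 hU c).2 fun hle =>
    hc (hle (HomogeneousIdeal.mem_irrelevant_of_mem _ hd hf))

variable {r : ((RelCone.pointedProjCone 𝒮 h pC chartC : PC.Opens) : Scheme.{u}) ⟶ P}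
  (hr : Retraction.Cond h pC chartC p chart r)
  {i' : ((RelCone.pointedCone 𝒮 : 𝒮.toQCAlg.spec.Opens) : Scheme.{u}) ⟶
    ((RelCone.pointedProjCone 𝒮 h pC chartC : PC.Opens) : Scheme.{u})}
  (hi' : i' ≫ (RelCone.pointedProjCone 𝒮 h pC chartC).ι = (RelCone.pointedCone 𝒮).ι ≫ i)

include hi hPC hP hr hi'

/-- The preimage of a standard open under the retraction of the pointed affine cone. -/
theorem preimage_std {U : Y.Opens} (hU : IsAffineOpen U) {d : ℕ} (hd : 0 < d)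
    {f : 𝒮.presheaf.obj (op U)} (hf : f ∈ 𝒮.deg U hU d) :
    (i' ≫ r) ⁻¹ᵁ ((RelProj.emb p chart U hU) ''ᵁ Proj.basicOpen (𝒮.deg U hU) f) =
      (RelCone.pointedCone 𝒮).ι ⁻¹ᵁ ((𝒮.toQCAlg.ι U hU) ''ᵁ PrimeSpectrum.basicOpen f) := by
  refine Opens.ext (Set.ext fun e => ?_)
  have he : (i' e).1 = i e.1 := congr($hi' e)
  have hπ : pC (i' e).1 = 𝒮.toQCAlg.π e.1 := by
    rw [he, ← Scheme.Hom.comp_apply, i_pC hi hPC]
  have key : ∀ c : Spec (𝒮.presheaf.obj (op U)), 𝒮.toQCAlg.ι U hU c = e.1 →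
      (r (i' e) ∈ (RelProj.emb p chart U hU) ''ᵁ Proj.basicOpen (𝒮.deg U hU) f ↔ f ∉ c.asIdeal) := by
    intro c hc
    have hU' : pC (i' e).1 ∈ U := by
      rw [hπ, ← hc]
      exact (RelSpec.QCAlg.π_preimage 𝒮.toQCAlg U hU).ge ⟨c, rfl⟩
    rw [Retraction.mem_iff hPC hP hr hU hd hf (i' e) hU', he, ← hc, i_chart hi hU c]
    have e2 := AwayDehom.ι_mem_point_iff (Retraction.φ h U hU) _ (h.deg_z U hU) (Infinity.θ₀ h U hU).hom
      (Infinity.hθ₀ h U hU) c hd hf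
    constructor
    · rintro ⟨y, hy, hyy⟩
      obtain rfl := (RelProj.emb pC chartC U hU).isOpenEmbedding.injective hyy
      exact fun hfc => hy (e2.2 hfc)
    · exact fun hfc => ⟨_, fun hm => hfc (e2.1 hm), rfl⟩
  constructor
  · intro hm
    change r (i' e) ∈ (RelProj.emb p chart U hU) ''ᵁ Proj.basicOpen (𝒮.deg U hU) f at hm
    have hU' : e.1 ∈ (𝒮.toQCAlg.ι U hU).opensRange := by
      rw [← RelSpec.QCAlg.π_preimage]
      change 𝒮.toQCAlg.π e.1 ∈ U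
      rw [← hπ]
      have hpr : p (r (i' e)) = pC (i' e).1 := by
        rw [← Scheme.Hom.comp_apply, Retraction.over hPC hP hr]
        rfl
      rw [← hpr]
      obtain ⟨w, -, hw⟩ := hm
      rw [← hw]
      exact ((chart U hU).inv w).2
    obtain ⟨c, hc⟩ := hU'
    exact ⟨c, (key c hc).1 hm, hc⟩
  · rintro ⟨c, hc, hce⟩
    exact (key c hce).2 hc

theorem isAffineHom : IsAffineHom (i' ≫ r) := by
  refine isAffineHom_of_forall_exists_isAffineOpen _ fun x => ?_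
  obtain ⟨U, hU, d, hd, f, hf, hx⟩ := Groth.Agent.Lib.ProjQ.exists_std (p := p) (chart := chart) x
  refine ⟨_, hx, isAffineOpen_opensRange _, ?_⟩
  rw [Groth.Agent.Lib.ProjQ.opensRange_std, preimage_std hi hPC hP hr hi' hU hd hf]
  refine IsAffineOpen.preimage_of_isOpenImmersion ?_ _
    ((basicOpen_le_pointed hU hd hf).trans (Scheme.Opens.opensRange_ι _).ge)
  exact (IsAffineOpen.Spec_basicOpen f).image_of_isOpenImmersion (𝒮.toQCAlg.ι U hU)

theorem surjective : Function.Surjective (i' ≫ r).base := by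
  intro x
  obtain ⟨U, hU, hxU, -⟩ := exists_isAffineOpen_mem_and_subset (X := Y) (U := ⊤) (x := p x) trivial
  obtain ⟨w, rfl⟩ : x ∈ (RelProj.emb p chart U hU).opensRange := by
    rw [Groth.Agent.Lib.ProjQ.opensRange_emb]; exact hxU
  obtain ⟨c, hc, x', hx', hrx⟩ := Retraction.exists_point hPC hP hr hU w
  refine ⟨⟨𝒮.toQCAlg.ι U hU c, (Vertex.mem_pointedCone_iff 𝒮 hU c).2 hc⟩, ?_⟩
  rw [← hrx, Scheme.Hom.comp_apply]
  refine congrArg r.base (Subtype.ext ?_)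
  rw [hx']
  exact (congr($hi' _)).trans (i_chart hi hU c)

end

end Groth.Agent.H81.Cone.RetractCone
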