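import Groth.Agent.H81.Cone.RetractCone
import Groth.Agent.H81.Cone.DegOne
import Groth.Agent.H81.Cone.FibreLine
import Groth.Agent.H81.RelProj.TwistInv

/-!
# The fibres of the retractions of the pointed cones, for algebras generated in degree one
-/

set_option autoImplicit false
universe u

open CategoryTheory CategoryTheory.Limits AlgebraicGeometry TopologicalSpace Opposite HomogeneousLocalization
open scoped HomogeneousIdeal

namespace Groth.Agent.H81.Cone.RetractFibre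

open Groth.Agent.Lib

noncomputable section

variable {Y PC P : Scheme.{u}} {𝒮 Sh : RelProj.QCGrAlg Y} {ι : 𝒮.toQCAlg ⟶ Sh.toQCAlg}
  {z : Sh.presheaf.obj (op ⊤)} {h : RelCone.IsPolyOver 𝒮 Sh ι z} {pC : PC ⟶ Y}
  {chartC : ∀ (U : Y.Opens) (hU : IsAffineOpen U), (((pC ⁻¹ᵁ U : PC.Opens) : Scheme.{u}) ≅ Proj (Sh.deg U hU))}
  {p : P ⟶ Y}
  {chart : ∀ (U : Y.Opens) (hU : IsAffineOpen U), (((p ⁻¹ᵁ U : P.Opens) : Scheme.{u}) ≅ Proj (𝒮.deg U hU))}

theorem exists_std_degOne (hgen : 𝒮.IsGenDegOne) (x : P) :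
    ∃ (U : Y.Opens) (hU : IsAffineOpen U) (f : 𝒮.presheaf.obj (op U)) (hf : f ∈ 𝒮.deg U hU 1),
      x ∈ (ProjQ.std p chart U hU one_pos f hf).opensRange := by
  obtain ⟨U, hU, hxU, -⟩ := exists_isAffineOpen_mem_and_subset (X := Y) (U := ⊤) (x := p x) trivial
  obtain ⟨y, rfl⟩ : x ∈ (RelProj.emb p chart U hU).opensRange := by
    rw [ProjQ.opensRange_emb]; exact hxU
  obtain ⟨f, hf, hfy⟩ := Groth.Agent.H81.RelProj.TwistInv.irrelevant_le_span (𝒮.deg U hU) (hgen U hU) y
  refine ⟨U, hU, f, hf, ?_⟩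
  rw [ProjQ.opensRange_std]
  exact ⟨y, hfy, rfl⟩

variable (hPC : RelProj.IsRelProj Sh pC chartC) (hP : RelProj.IsRelProj 𝒮 p chart)
  {r : ((RelCone.pointedProjCone 𝒮 h pC chartC : PC.Opens) : Scheme.{u}) ⟶ P}
  (hr : Retraction.Cond h pC chartC p chart r)

include hPC hP hr

theorem exists_square {U : Y.Opens} (hU : IsAffineOpen U) {f : 𝒮.presheaf.obj (op U)} (hf : f ∈ 𝒮.deg U hU 1) :
    ∃ g : Spec (CommRingCat.of (Away (Sh.deg U hU) ((Retraction.φ h U hU) f))) ⟶
        ((RelCone.pointedProjCone 𝒮 h pC chartC : PC.Opens) : Scheme.{u}),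
      g ≫ (RelCone.pointedProjCone 𝒮 h pC chartC).ι =
          Proj.awayι (Sh.deg U hU) ((Retraction.φ h U hU) f) ((Retraction.φ h U hU).2 hf) one_pos ≫
            RelProj.emb pC chartC U hU ∧
        IsPullback (Spec.map (CommRingCat.ofHom (Away.map (Retraction.φ h U hU) f))) g
          (ProjQ.std p chart U hU one_pos f hf) r := by
  obtain ⟨g, hg⟩ := Retraction.exists_chart (h := h) hPC hU one_pos hf
  haveI : IsOpenImmersion (g ≫ (RelCone.pointedProjCone 𝒮 h pC chartC).ι) := by rw [hg]; infer_instance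
  haveI : IsOpenImmersion g := IsOpenImmersion.of_comp g (RelCone.pointedProjCone 𝒮 h pC chartC).ι
  refine ⟨g, hg, IsOpenImmersion.isPullback _ _ _ _ (hr U hU 1 one_pos f hf g hg) ?_⟩
  refine Opens.ext (Set.ext fun w => ?_)
  change r w ∈ (ProjQ.std p chart U hU one_pos f hf).opensRange ↔ w ∈ g.opensRange
  rw [ProjQ.opensRange_std]
  constructor
  · intro hw
    have hwU : pC w.1 ∈ U := by
      have hpr : p (r w) = pC w.1 := by
        rw [← Scheme.Hom.comp_apply, Retraction.over hPC hP hr]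
        rfl
      rw [← hpr]
      obtain ⟨v, -, hv⟩ := hw
      rw [← hv]
      exact ((chart U hU).inv v).2
    obtain ⟨v, hv⟩ := (ProjQ.opensRange_std (p := pC) (chart := chartC) U hU one_pos _
      ((Retraction.φ h U hU).2 hf)).ge ((Retraction.mem_iff hPC hP hr hU one_pos hf w hwU).1 hw)
    exact ⟨v, (RelCone.pointedProjCone 𝒮 h pC chartC).ι.isOpenEmbedding.injective ((congr($hg v)).trans hv)⟩
  · rintro ⟨v, rfl⟩
    rw [← Scheme.Hom.comp_apply, hr U hU 1 one_pos f hf g hg]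
    exact (ProjQ.opensRange_std (p := p) (chart := chart) U hU one_pos f hf).le ⟨_, rfl⟩

variable {i : 𝒮.toQCAlg.spec ⟶ PC} (hi : RelCone.IsConeImm 𝒮 h pC chartC i)
  {i' : ((RelCone.pointedCone 𝒮 : 𝒮.toQCAlg.spec.Opens) : Scheme.{u}) ⟶
    ((RelCone.pointedProjCone 𝒮 h pC chartC : PC.Opens) : Scheme.{u})}
  (hi' : i' ≫ (RelCone.pointedProjCone 𝒮 h pC chartC).ι = (RelCone.pointedCone 𝒮).ι ≫ i)

include hi hi' in
theorem exists_square_cone {U : Y.Opens} (hU : IsAffineOpen U) {f : 𝒮.presheaf.obj (op U)}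
    (hf : f ∈ 𝒮.deg U hU 1) :
    ∃ c : Spec (CommRingCat.of (Localization.Away f)) ⟶
        ((RelCone.pointedCone 𝒮 : 𝒮.toQCAlg.spec.Opens) : Scheme.{u}),
      IsPullback (Spec.map (CommRingCat.ofHom (algebraMap (Away (𝒮.deg U hU) f) (Localization.Away f)))) c
        (ProjQ.std p chart U hU one_pos f hf) (i' ≫ r) := by
  let E := RelCone.pointedCone 𝒮
  let e₀ : Spec (CommRingCat.of (Localization.Away f)) ⟶ 𝒮.toQCAlg.spec :=
    Spec.map (CommRingCat.ofHom (algebraMap (𝒮.presheaf.obj (op U)) (Localization.Away f))) ≫ 𝒮.toQCAlg.ι U hU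
  have hrange : Set.range e₀.base = ((𝒮.toQCAlg.ι U hU) ''ᵁ PrimeSpectrum.basicOpen f : Set _) := by
    change Set.range (fun v => 𝒮.toQCAlg.ι U hU (PrimeSpectrum.comap (algebraMap (𝒮.presheaf.obj (op U))
      (Localization.Away f)) v)) = _
    rw [Set.range_comp' (𝒮.toQCAlg.ι U hU) (PrimeSpectrum.comap (algebraMap (𝒮.presheaf.obj (op U))
      (Localization.Away f)))]
    exact congrArg (fun s => (𝒮.toQCAlg.ι U hU) '' s)
      (PrimeSpectrum.localization_away_comap_range (Localization.Away f) f)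
  haveI : IsOpenImmersion (Spec.map (CommRingCat.ofHom (algebraMap (𝒮.presheaf.obj (op U))
      (Localization.Away f)))) := IsOpenImmersion.of_isLocalization f
  let c := IsOpenImmersion.lift E.ι e₀ (by
    rw [hrange, Scheme.Opens.range_ι]
    exact RetractCone.basicOpen_le_pointed hU one_pos hf)
  have hc : c ≫ E.ι = e₀ := IsOpenImmersion.lift_fac _ _ _
  haveI : IsOpenImmersion (c ≫ E.ι) := by rw [hc]; infer_instance
  haveI : IsOpenImmersion c := IsOpenImmersion.of_comp c E.ι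
  obtain ⟨g, hg, -⟩ := exists_square hPC hP hr hU hf
  obtain ⟨χ, hχ1, hχ2⟩ := DegOne.exists_lift (Retraction.φ h U hU) (h.deg_z U hU) (Infinity.θ₀ h U hU).hom
    (Infinity.hθ₀ h U hU) hf
  have h1 : c ≫ i' = Spec.map (CommRingCat.ofHom χ) ≫ g := by
    rw [← cancel_mono (RelCone.pointedProjCone 𝒮 h pC chartC).ι, Category.assoc, Category.assoc, hg, hi',
      ← Category.assoc, hc, Category.assoc, hi U hU, ← Category.assoc (Spec.map (CommRingCat.ofHom χ)), ← hχ2]
    rfl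
  refine ⟨c, IsOpenImmersion.isPullback _ _ _ _ ?_ ?_⟩
  · rw [reassoc_of% h1, hr U hU 1 one_pos f hf g hg, ← Spec.map_comp_assoc, ← CommRingCat.ofHom_comp, hχ1]
    rfl
  · rw [ProjQ.opensRange_std, RetractCone.preimage_std hi hPC hP hr hi' hU one_pos hf]
    refine Opens.ext (Set.ext fun w => ?_)
    change w.1 ∈ ((𝒮.toQCAlg.ι U hU) ''ᵁ PrimeSpectrum.basicOpen f : Set _) ↔ w ∈ Set.range c.base
    rw [← hrange]
    constructor
    · rintro ⟨v, hv⟩
      exact ⟨v, E.ι.isOpenEmbedding.injective ((congr($hc v)).trans hv)⟩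
    · rintro ⟨v, rfl⟩
      exact ⟨v, (congr($hc v)).symm⟩

end

end Groth.Agent.H81.Cone.RetractFibre
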