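import Groth.Agent.H81.Cone.Infinity
import Groth.Agent.Lib.ProjQ.Locus

/-!
# The canonical retraction of the pointed projective cone
-/

set_option autoImplicit false
universe u

open CategoryTheory CategoryTheory.Limits AlgebraicGeometry TopologicalSpace Opposite HomogeneousLocalization
open scoped HomogeneousIdeal

namespace Groth.Agent.H81.Cone.Retraction

open Groth.Agent.Lib (ProjQ.std)

noncomputable section

/-- The ring-level form of the retraction identity. -/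
theorem retract_key {A σ : Type u} [CommRing A] [SetLike σ A] [AddSubgroupClass σ A] {𝒜 : ℕ → σ} [GradedRing 𝒜]
    {B σ' : Type u} [CommRing B] [SetLike σ' B] [AddSubgroupClass σ' B] {ℬ : ℕ → σ'} [GradedRing ℬ]
    (φ : 𝒜 →+*ᵍ ℬ) (θ : ℬ →+*ᵍ 𝒜) (hid : θ.comp φ = GradedRingHom.id 𝒜) (hirr : 𝒜₊ ≤ (ℬ₊).map θ)
    {P Q W' : Scheme.{u}} (eA : Proj 𝒜 ⟶ P) (eB : Proj ℬ ⟶ Q) (wι : W' ⟶ Q) [Mono wι]
    (j' : P ⟶ W') (r : W' ⟶ P) (he : Proj.map θ hirr ≫ eB = eA ≫ j' ≫ wι) {d : ℕ} (hd : 0 < d) {f : A}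
    (hf : f ∈ 𝒜 d) (g : Spec (CommRingCat.of (Away ℬ (φ f))) ⟶ W')
    (hg : g ≫ wι = Proj.awayι ℬ (φ f) (φ.2 hf) hd ≫ eB)
    (hgr : g ≫ r = Spec.map (CommRingCat.ofHom (Away.map φ f)) ≫ Proj.awayι 𝒜 f hf hd ≫ eA) :
    Proj.awayι 𝒜 f hf hd ≫ eA ≫ j' ≫ r = Proj.awayι 𝒜 f hf hd ≫ eA := by
  have e2 : ∀ ψ : 𝒜 →+*ᵍ 𝒜, ψ = GradedRingHom.id 𝒜 →
      Spec.map (CommRingCat.ofHom (Away.map ψ f)) ≫ Proj.awayι 𝒜 f hf hd ≫ eA =
        Proj.awayι 𝒜 (ψ f) (ψ.2 hf) hd ≫ eA := by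
    rintro ψ rfl
    rw [Away.map_id]
    exact (congrArg (· ≫ _) (Spec.map_id _)).trans (Category.id_comp _)
  have e3 : ∀ ψ : 𝒜 →+*ᵍ 𝒜, ψ = GradedRingHom.id 𝒜 →
      Proj.awayι 𝒜 (ψ f) (ψ.2 hf) hd ≫ eA ≫ j' ≫ r = Proj.awayι 𝒜 (ψ f) (ψ.2 hf) hd ≫ eA →
      Proj.awayι 𝒜 f hf hd ≫ eA ≫ j' ≫ r = Proj.awayι 𝒜 f hf hd ≫ eA := by
    rintro ψ rfl e
    exact e
  refine e3 (θ.comp φ) hid ?_
  have e1 : Proj.awayι 𝒜 (θ (φ f)) (θ.2 (φ.2 hf)) hd ≫ eA ≫ j' =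
      Spec.map (CommRingCat.ofHom (Away.map θ (φ f))) ≫ g := by
    rw [← cancel_mono wι, Category.assoc, Category.assoc, Category.assoc, hg, ← he]
    exact Proj.awayι_comp_map_assoc θ hirr hd _ (φ.2 hf) _
  change Proj.awayι 𝒜 (θ (φ f)) (θ.2 (φ.2 hf)) hd ≫ eA ≫ j' ≫ r = _
  rw [reassoc_of% e1, hgr, ← Spec.map_comp_assoc]
  refine Eq.trans ?_ (e2 (θ.comp φ) hid)
  rw [Away.map_comp]
  rfl

variable {Y PC P : Scheme.{u}} {𝒮 Sh : RelProj.QCGrAlg Y} {ι : 𝒮.toQCAlg ⟶ Sh.toQCAlg}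
  {z : Sh.presheaf.obj (op ⊤)} (h : RelCone.IsPolyOver 𝒮 Sh ι z) (pC : PC ⟶ Y)
  (chartC : ∀ (U : Y.Opens) (hU : IsAffineOpen U), (((pC ⁻¹ᵁ U : PC.Opens) : Scheme.{u}) ≅ Proj (Sh.deg U hU)))
  (p : P ⟶ Y)
  (chart : ∀ (U : Y.Opens) (hU : IsAffineOpen U), (((p ⁻¹ᵁ U : P.Opens) : Scheme.{u}) ≅ Proj (𝒮.deg U hU)))

abbrev W : PC.Opens := RelCone.pointedProjCone 𝒮 h pC chartC

abbrev φ (U : Y.Opens) (hU : IsAffineOpen U) : 𝒮.deg U hU →+*ᵍ Sh.deg U hU :=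
  RelProj.gradedHomAt ι h.graded U hU

theorem pointed_eq_domQ (hPC : RelProj.IsRelProj Sh pC chartC) :
    W h pC chartC = RelProj.domQ (RelProj.QGrHom.ofHom ι h.graded) pC chartC := by
  refine Opens.ext (Set.ext fun x => ?_)
  obtain ⟨U, hU, hxU, -⟩ := exists_isAffineOpen_mem_and_subset (X := Y) (U := ⊤) (x := pC x) trivial
  obtain ⟨y, rfl⟩ : x ∈ (RelProj.emb pC chartC U hU).opensRange := by
    rw [Groth.Agent.Lib.ProjQ.opensRange_emb]; exact hxU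
  refine (Infinity.mem_pointedProjCone_iff h pC chartC hPC U hU y).trans ?_
  have e := Groth.Agent.Lib.ProjQ.domQ_inf (u := RelProj.QGrHom.ofHom ι h.graded) hPC U hU U hU le_rfl
  rw [Groth.Agent.Lib.ProjQ.gradedAt_ofHom ι h.graded U hU] at e
  constructor
  · exact fun hy => (e.ge ⟨y, hy, rfl⟩).1
  · intro hy
    obtain ⟨w, hw, hwy⟩ := e.le ⟨hy, hxU⟩
    exact (RelProj.emb pC chartC U hU).isOpenEmbedding.injective hwy ▸ hw

/-- The retraction condition on the charts `U' = U`. -/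
def Cond (r : (W h pC chartC : Scheme.{u}) ⟶ P) : Prop :=
  ∀ (U : Y.Opens) (hU : IsAffineOpen U) (d : ℕ) (hd : 0 < d) (f : 𝒮.presheaf.obj (op U)) (hf : f ∈ 𝒮.deg U hU d)
    (g : Spec (CommRingCat.of (HomogeneousLocalization.Away (Sh.deg U hU) ((φ h U hU) f))) ⟶
      (W h pC chartC : Scheme.{u})),
    g ≫ (W h pC chartC).ι =
        Proj.awayι (Sh.deg U hU) ((φ h U hU) f) ((φ h U hU).2 hf) hd ≫ RelProj.emb pC chartC U hU →
      g ≫ r =
        Spec.map (CommRingCat.ofHom (HomogeneousLocalization.Away.map (φ h U hU) f)) ≫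
          Proj.awayι (𝒮.deg U hU) f hf hd ≫ RelProj.emb p chart U hU

variable {h pC chartC p chart}
variable (hPC : RelProj.IsRelProj Sh pC chartC) (hP : RelProj.IsRelProj 𝒮 p chart)

include hPC in
theorem exists_chart {U : Y.Opens} (hU : IsAffineOpen U) {d : ℕ} (hd : 0 < d) {f : 𝒮.presheaf.obj (op U)}
    (hf : f ∈ 𝒮.deg U hU d) :
    ∃ g : Spec (CommRingCat.of (Away (Sh.deg U hU) ((φ h U hU) f))) ⟶ (W h pC chartC : Scheme.{u}),
      g ≫ (W h pC chartC).ι =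
        Proj.awayι (Sh.deg U hU) ((φ h U hU) f) ((φ h U hU).2 hf) hd ≫ RelProj.emb pC chartC U hU := by
  refine ⟨IsOpenImmersion.lift (W h pC chartC).ι (ProjQ.std pC chartC U hU hd ((φ h U hU) f) ((φ h U hU).2 hf)) ?_,
    IsOpenImmersion.lift_fac _ _ _⟩
  rw [Scheme.Opens.range_ι]
  rintro _ ⟨w, rfl⟩
  obtain ⟨y, hy, hyw⟩ := (Groth.Agent.Lib.ProjQ.opensRange_std (p := pC) (chart := chartC) U hU hd _ _).le ⟨w, rfl⟩
  rw [← hyw]
  exact (Infinity.mem_pointedProjCone_iff h pC chartC hPC U hU y).2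
    ((Groth.Agent.Lib.ProjQ.domOpen_eq _ y).2 ⟨d, f, hd, hf, hy⟩)

include hPC in
theorem exists_mem_chart (x : (W h pC chartC : Scheme.{u})) :
    ∃ (U : Y.Opens) (hU : IsAffineOpen U) (d : ℕ) (hd : 0 < d) (f : 𝒮.presheaf.obj (op U))
      (hf : f ∈ 𝒮.deg U hU d),
      x.1 ∈ (RelProj.emb pC chartC U hU) ''ᵁ Proj.basicOpen (Sh.deg U hU) ((φ h U hU) f) := by
  obtain ⟨U, hU, hxU, -⟩ := exists_isAffineOpen_mem_and_subset (X := Y) (U := ⊤) (x := pC x.1) trivial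
  obtain ⟨y, hy⟩ : x.1 ∈ (RelProj.emb pC chartC U hU).opensRange := by
    rw [Groth.Agent.Lib.ProjQ.opensRange_emb]; exact hxU
  obtain ⟨d, f, hd, hf, hfy⟩ := (Groth.Agent.Lib.ProjQ.domOpen_eq _ y).1
    ((Infinity.mem_pointedProjCone_iff h pC chartC hPC U hU y).1 (hy ▸ x.2))
  exact ⟨U, hU, d, hd, f, hf, y, hfy, hy⟩

include hPC in
theorem cond_ext {Q : Scheme.{u}} {r r' : (W h pC chartC : Scheme.{u}) ⟶ Q}
    (he : ∀ (U : Y.Opens) (hU : IsAffineOpen U) (d : ℕ) (hd : 0 < d) (f : 𝒮.presheaf.obj (op U))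
      (hf : f ∈ 𝒮.deg U hU d)
      (g : Spec (CommRingCat.of (Away (Sh.deg U hU) ((φ h U hU) f))) ⟶ (W h pC chartC : Scheme.{u})),
      g ≫ (W h pC chartC).ι =
        Proj.awayι (Sh.deg U hU) ((φ h U hU) f) ((φ h U hU).2 hf) hd ≫ RelProj.emb pC chartC U hU →
      g ≫ r = g ≫ r') : r = r' := by
  refine Scheme.hom_ext_of_forall _ _ fun x => ?_
  obtain ⟨U, hU, d, hd, f, hf, hx⟩ := exists_mem_chart hPC x
  obtain ⟨g, hg⟩ := exists_chart (h := h) hPC hU hd hf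
  haveI : IsOpenImmersion (g ≫ (W h pC chartC).ι) := by rw [hg]; infer_instance
  haveI : IsOpenImmersion g := IsOpenImmersion.of_comp g (W h pC chartC).ι
  obtain ⟨w, hw⟩ := (Groth.Agent.Lib.ProjQ.opensRange_std (p := pC) (chart := chartC) U hU hd _
    ((φ h U hU).2 hf)).ge hx
  refine ⟨g.opensRange, ⟨w, (W h pC chartC).ι.isOpenEmbedding.injective ?_⟩, ?_⟩
  · exact (congr($hg w)).trans hw
  · rw [← cancel_epi g.isoOpensRange.hom]
    simp only [Scheme.Hom.isoOpensRange_hom_ι_assoc]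
    exact he U hU d hd f hf g hg

include hPC in
theorem cond_unique {r r' : (W h pC chartC : Scheme.{u}) ⟶ P} (hr : Cond h pC chartC p chart r)
    (hr' : Cond h pC chartC p chart r') : r = r' :=
  cond_ext hPC fun U hU d hd f hf g hg => (hr U hU d hd f hf g hg).trans (hr' U hU d hd f hf g hg).symm

theorem cond_of_isProjQMapOn {r : (W h pC chartC : Scheme.{u}) ⟶ P}
    (hr : RelProj.IsProjQMapOn (RelProj.QGrHom.ofHom ι h.graded) p chart pC chartC (W h pC chartC) r) :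
    Cond h pC chartC p chart r := by
  intro U hU d hd f hf
  have key : ∀ ψ : 𝒮.deg U hU →+*ᵍ Sh.deg U hU,
      ψ = (RelProj.QGrHom.ofHom ι h.graded).gradedAt U hU U hU le_rfl →
      ∀ g : Spec (CommRingCat.of (Away (Sh.deg U hU) (ψ f))) ⟶ (W h pC chartC : Scheme.{u}),
        g ≫ (W h pC chartC).ι = Proj.awayι (Sh.deg U hU) (ψ f) (ψ.2 hf) hd ≫ RelProj.emb pC chartC U hU →
        g ≫ r = Spec.map (CommRingCat.ofHom (Away.map ψ f)) ≫
          Proj.awayι (𝒮.deg U hU) f hf hd ≫ RelProj.emb p chart U hU := by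
    rintro ψ rfl g hg
    have hW : Set.range (RelProj.awayEmb (RelProj.QGrHom.ofHom ι h.graded) pC chartC U hU U hU le_rfl hd f hf).base ⊆
        Set.range (W h pC chartC).ι.base := by
      rw [show RelProj.awayEmb (RelProj.QGrHom.ofHom ι h.graded) pC chartC U hU U hU le_rfl hd f hf =
        g ≫ (W h pC chartC).ι from hg.symm]
      rintro _ ⟨w, rfl⟩
      exact ⟨g w, rfl⟩
    have e : g = IsOpenImmersion.lift (W h pC chartC).ι _ hW := by
      rw [← cancel_mono (W h pC chartC).ι, IsOpenImmersion.lift_fac]; exact hg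
    exact (congrArg (· ≫ r) e).trans (hr U hU U hU le_rfl d hd f hf hW)
  exact key _ (Groth.Agent.Lib.ProjQ.gradedAt_ofHom ι h.graded U hU).symm

theorem preimage_affine {U : Y.Opens} (hU : IsAffineOpen U) : IsAffineOpen ((𝟙 Y : Y ⟶ Y) ⁻¹ᵁ U) := hU

/-- All properties of the morphism over a standard open. -/
theorem exists_retraction' (V : PC.Opens) (hV : V = RelProj.domQ (RelProj.QGrHom.ofHom ι h.graded) pC chartC)
    (hPC : RelProj.IsRelProj Sh pC chartC) (hP : RelProj.IsRelProj 𝒮 p chart) :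
    ∃ r : (V : Scheme.{u}) ⟶ P,
      RelProj.IsProjQMapOn (RelProj.QGrHom.ofHom ι h.graded) p chart pC chartC V r ∧ IsAffineHom r ∧
        r ≫ p = V.ι ≫ pC ∧
        ∀ (U : Y.Opens) (hU : IsAffineOpen U) (d : ℕ) (_ : 0 < d) (f : 𝒮.presheaf.obj (op U))
          (_ : f ∈ 𝒮.deg U hU d) (x : (V : Scheme.{u})), pC x.1 ∈ U →
          (r x ∈ (RelProj.emb p chart U hU) ''ᵁ Proj.basicOpen (𝒮.deg U hU) f ↔
            x.1 ∈ (RelProj.emb pC chartC U hU) ''ᵁ Proj.basicOpen (Sh.deg U hU) ((φ h U hU) f)) := by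
  subst hV
  obtain ⟨r, hr, -⟩ := Groth.Agent.Lib.ProjQ.existsUnique (u := RelProj.QGrHom.ofHom ι h.graded) hP hPC
  refine ⟨r, hr, ?_, ?_, fun U hU d hd f hf x hx => ?_⟩
  · exact Groth.Agent.Lib.ProjQ.of_charts @IsAffineHom hP hPC hr (fun U hU => preimage_affine hU)
      fun i _ => inferInstance
  · rw [Groth.Agent.Lib.ProjQ.over hP hPC hr, Category.comp_id]
  · rw [Groth.Agent.Lib.ProjQ.mem_preimage_iff hP hPC hr U hU U hU le_rfl hd f hf x hx,
      Groth.Agent.Lib.ProjQ.gradedAt_ofHom ι h.graded U hU]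

include hPC hP in
theorem exists_retraction :
    ∃ r : (W h pC chartC : Scheme.{u}) ⟶ P, Cond h pC chartC p chart r ∧
      RelProj.IsProjQMapOn (RelProj.QGrHom.ofHom ι h.graded) p chart pC chartC (W h pC chartC) r ∧
      IsAffineHom r ∧ r ≫ p = (W h pC chartC).ι ≫ pC ∧
        ∀ (U : Y.Opens) (hU : IsAffineOpen U) (d : ℕ) (_ : 0 < d) (f : 𝒮.presheaf.obj (op U))
          (_ : f ∈ 𝒮.deg U hU d) (x : (W h pC chartC : Scheme.{u})), pC x.1 ∈ U →
          (r x ∈ (RelProj.emb p chart U hU) ''ᵁ Proj.basicOpen (𝒮.deg U hU) f ↔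
            x.1 ∈ (RelProj.emb pC chartC U hU) ''ᵁ Proj.basicOpen (Sh.deg U hU) ((φ h U hU) f)) := by
  obtain ⟨r, hr, h1, h2, h3⟩ := exists_retraction' (h := h) (W h pC chartC) (pointed_eq_domQ h pC chartC hPC) hPC hP
  exact ⟨r, cond_of_isProjQMapOn hr, hr, h1, h2, h3⟩

section props

variable {r : (W h pC chartC : Scheme.{u}) ⟶ P} (hr : Cond h pC chartC p chart r)

include hPC hP hr

theorem isProjQMapOn :
    RelProj.IsProjQMapOn (RelProj.QGrHom.ofHom ι h.graded) p chart pC chartC (W h pC chartC) r := by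
  obtain ⟨r₀, h1, h2, -⟩ := exists_retraction (h := h) hPC hP
  rwa [cond_unique hPC hr h1]

theorem isAffineHom : IsAffineHom r := by
  obtain ⟨r₀, h1, -, h2, -⟩ := exists_retraction (h := h) hPC hP
  rwa [cond_unique hPC hr h1]

theorem over : r ≫ p = (W h pC chartC).ι ≫ pC := by
  obtain ⟨r₀, h1, -, -, h2, -⟩ := exists_retraction (h := h) hPC hP
  rw [cond_unique hPC hr h1]; exact h2

theorem mem_iff {U : Y.Opens} (hU : IsAffineOpen U) {d : ℕ} (hd : 0 < d) {f : 𝒮.presheaf.obj (op U)}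
    (hf : f ∈ 𝒮.deg U hU d) (x : (W h pC chartC : Scheme.{u})) (hx : pC x.1 ∈ U) :
    r x ∈ (RelProj.emb p chart U hU) ''ᵁ Proj.basicOpen (𝒮.deg U hU) f ↔
      x.1 ∈ (RelProj.emb pC chartC U hU) ''ᵁ Proj.basicOpen (Sh.deg U hU) ((φ h U hU) f) := by
  obtain ⟨r₀, h1, -, -, -, h2⟩ := exists_retraction (h := h) hPC hP
  rw [cond_unique hPC hr h1]; exact h2 U hU d hd f hf x hx

/-- The value at a point with the same homogeneous elements of positive degree. -/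
theorem apply_eq {U : Y.Opens} (hU : IsAffineOpen U) (x : (W h pC chartC : Scheme.{u}))
    (y : Proj (Sh.deg U hU)) (hxy : RelProj.emb pC chartC U hU y = x.1) (w : Proj (𝒮.deg U hU))
    (hw : ∀ (d : ℕ) (f : 𝒮.presheaf.obj (op U)), 0 < d → f ∈ 𝒮.deg U hU d →
      (y ∈ Proj.basicOpen (Sh.deg U hU) ((φ h U hU) f) ↔ w ∈ Proj.basicOpen (𝒮.deg U hU) f)) :
    r x = RelProj.emb p chart U hU w := by
  have hx : pC x.1 ∈ U := by rw [← hxy]; exact ((chartC U hU).inv y).2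
  obtain ⟨w', hw'⟩ : r x ∈ (RelProj.emb p chart U hU).opensRange := by
    rw [Groth.Agent.Lib.ProjQ.opensRange_emb]
    change p (r x) ∈ U
    rw [← Scheme.Hom.comp_apply, over hPC hP hr]
    exact hx
  have key : ∀ (d : ℕ) (f : 𝒮.presheaf.obj (op U)), 0 < d → f ∈ 𝒮.deg U hU d →
      (w' ∈ Proj.basicOpen (𝒮.deg U hU) f ↔ w ∈ Proj.basicOpen (𝒮.deg U hU) f) := by
    intro d f hd hf
    rw [← hw d f hd hf]
    have e := mem_iff hPC hP hr hU hd hf x hx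
    rw [← hw', ← hxy] at e
    constructor
    · intro hm
      obtain ⟨y', hy', hyy⟩ := e.1 ⟨w', hm, rfl⟩
      exact (RelProj.emb pC chartC U hU).isOpenEmbedding.injective hyy ▸ hy'
    · intro hm
      obtain ⟨v, hv, hvw⟩ := e.2 ⟨y, hm, rfl⟩
      exact (RelProj.emb p chart U hU).isOpenEmbedding.injective hvw ▸ hv
  have : w' = w := by
    refine Inseparable.eq (inseparable_iff_forall_isOpen.2 fun s hs => ?_)
    constructor
    · intro hm
      obtain ⟨d, f, hd, hf, h1, h2⟩ := Groth.Agent.Lib.ProjQ.exists_basicOpen_le (⟨s, hs⟩ : (Proj (𝒮.deg U hU)).Opens) hm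
      exact h2 ((key d f hd hf).1 h1)
    · intro hm
      obtain ⟨d, f, hd, hf, h1, h2⟩ := Groth.Agent.Lib.ProjQ.exists_basicOpen_le (⟨s, hs⟩ : (Proj (𝒮.deg U hU)).Opens) hm
      exact h2 ((key d f hd hf).2 h1)
  rw [← hw', this]

/-- The point of the cone of a homogeneous prime lies in the pointed cone and retracts to it. -/
theorem exists_point {U : Y.Opens} (hU : IsAffineOpen U) (w : Proj (𝒮.deg U hU)) :
    ∃ c : Spec (CommRingCat.of (𝒮.presheaf.obj (op U))), Vertex.Pointed 𝒮 hU c ∧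
      ∃ x : (W h pC chartC : Scheme.{u}),
        x.1 = RelProj.emb pC chartC U hU
          ((AwayDehom.point (RelCone.restrictTop Sh z U) (h.deg_z U hU) (Infinity.θ₀ h U hU).hom) c) ∧
        r x = RelProj.emb p chart U hU w := by
  let c : Spec (CommRingCat.of (𝒮.presheaf.obj (op U))) := ⟨w.asHomogeneousIdeal.toIdeal, w.isPrime⟩
  have hc : Vertex.Pointed 𝒮 hU c := w.not_irrelevant_le
  let y := (AwayDehom.point (RelCone.restrictTop Sh z U) (h.deg_z U hU) (Infinity.θ₀ h U hU).hom) c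
  have hy : RelProj.emb pC chartC U hU y ∈ W h pC chartC :=
    (Infinity.mem_pointedProjCone_iff h pC chartC hPC U hU y).2
      ((Infinity.dom_point_iff (φ h U hU) (h.deg_z U hU) (Infinity.θ₀ h U hU).hom (Infinity.hθ₀ h U hU) c).2 hc)
  refine ⟨c, hc, ⟨_, hy⟩, rfl, apply_eq hPC hP hr hU ⟨_, hy⟩ y rfl w fun d f hd hf => ?_⟩
  rw [Proj.mem_basicOpen, Proj.mem_basicOpen]
  exact not_congr (AwayDehom.ι_mem_point_iff (φ h U hU) _ (h.deg_z U hU) (Infinity.θ₀ h U hU).hom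
    (Infinity.hθ₀ h U hU) c hd hf)

theorem surjective : Function.Surjective r.base := by
  intro x
  obtain ⟨U, hU, hxU, -⟩ := exists_isAffineOpen_mem_and_subset (X := Y) (U := ⊤) (x := p x) trivial
  obtain ⟨w, rfl⟩ : x ∈ (RelProj.emb p chart U hU).opensRange := by
    rw [Groth.Agent.Lib.ProjQ.opensRange_emb]; exact hxU
  obtain ⟨c, -, x', -, hx'⟩ := exists_point hPC hP hr hU w
  exact ⟨x', hx'⟩

theorem retract (θ : Sh.toQCAlg ⟶ 𝒮.toQCAlg) (hθ : RelProj.IsGradedHom θ) (hιθ : ι ≫ θ = 𝟙 _)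
    (hirr : ∀ (U : Y.Opens) (hU : IsAffineOpen U),
      (𝒮.deg U hU)₊ ≤ ((Sh.deg U hU)₊).map (RelProj.gradedHomAt θ hθ U hU))
    (j : P ⟶ PC) (hj : RelProj.IsRelProjMap θ hθ hirr chartC chart j)
    (j' : P ⟶ (W h pC chartC : Scheme.{u})) (hj' : j' ≫ (W h pC chartC).ι = j) : j' ≫ r = 𝟙 P := by
  refine Scheme.hom_ext_of_forall _ _ fun x => ?_
  obtain ⟨U, hU, d, hd, f, hf, hx⟩ := Groth.Agent.Lib.ProjQ.exists_std (p := p) (chart := chart) x
  refine ⟨_, hx, ?_⟩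
  rw [← cancel_epi (ProjQ.std p chart U hU hd f hf).isoOpensRange.hom]
  simp only [Scheme.Hom.isoOpensRange_hom_ι_assoc]
  obtain ⟨g, hg⟩ := exists_chart (h := h) hPC hU hd hf
  have hid : (RelProj.gradedHomAt θ hθ U hU).comp (φ h U hU) = GradedRingHom.id (𝒮.deg U hU) :=
    GradedRingHom.ext fun a => congr(($(hιθ)).hom.app (op U) a)
  have he : Proj.map (RelProj.gradedHomAt θ hθ U hU) (hirr U hU) ≫ RelProj.emb pC chartC U hU =
      RelProj.emb p chart U hU ≫ j' ≫ (W h pC chartC).ι := by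
    rw [hj']
    exact Groth.Agent.H81.RelProj.RelComap.emb_map j hj ⟨U, hU⟩
  have key := retract_key (φ h U hU) (RelProj.gradedHomAt θ hθ U hU) hid (hirr U hU) _ _ _ j' r he hd hf g hg
    (hr U hU d hd f hf g hg)
  rw [Category.comp_id]
  exact (Category.assoc _ _ _).trans key

end props

end

end Groth.Agent.H81.Cone.Retraction
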