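import Groth.Agent.H81.Cone.FrameSpec

/-!
# Exchanging the zero section and the locus at infinity
-/

set_option autoImplicit false
universe u

open CategoryTheory AlgebraicGeometry TopologicalSpace Opposite HomogeneousLocalization
open scoped HomogeneousIdeal

namespace Groth.Agent.H81.Cone.Swap

open Groth.Agent.H81.Cone.Frames (Fam FrV)
open Groth.Agent.H81.Cone.FrameSpec (ιG hbij tw)
open Groth.Agent.Lib.RelProjBasics.Basic (chartStr)

noncomputable section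

theorem map_eq_id {A σ : Type u} [CommRing A] [SetLike σ A] [AddSubgroupClass σ A] {𝒜 : ℕ → σ} [GradedRing 𝒜]
    (f : 𝒜 →+*ᵍ 𝒜) (hf : 𝒜₊ ≤ 𝒜₊.map f) (h : ∀ x, f x = x) : Proj.map f hf = 𝟙 _ := by
  obtain rfl : f = GradedRingHom.id 𝒜 := GradedRingHom.ext h
  exact Proj.map_id

variable {Y : Scheme.{u}}

/-- The graded homomorphisms over the structure map commute with the structure morphisms of the charts. -/
theorem map_chartStr {𝒜 ℬ : RelProj.QCGrAlg Y} {U : Y.Opens} (hU : IsAffineOpen U)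
    (γ : 𝒜.deg U hU →+*ᵍ ℬ.deg U hU)
    (hγ : ∀ r : Γ(Y, U), γ ((𝒜.str.app (op U)).hom r) = (ℬ.str.app (op U)).hom r)
    (hirr : (ℬ.deg U hU)₊ ≤ ((𝒜.deg U hU)₊).map γ) :
    Proj.map γ hirr ≫ chartStr 𝒜 U hU = chartStr ℬ U hU := by
  refine (Proj.mapAffineOpenCover _ hirr).openCover.hom_ext _ _ fun s => ?_
  simp only [Scheme.AffineOpenCover.openCover_f, Proj.mapAffineOpenCover_f]
  obtain ⟨⟨m, hm⟩, t, ht⟩ := s
  erw [Proj.awayι_comp_map_assoc γ hirr hm t ht]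
  simp only [chartStr]
  rw [Proj.awayι_toSpecZero_assoc]
  erw [Proj.awayι_toSpecZero_assoc]
  rw [← Spec.map_comp, ← Spec.map_comp, ← Spec.map_comp]
  refine congrArg Spec.map (CommRingCat.hom_ext (RingHom.ext fun a => ?_))
  simp only [CommRingCat.hom_comp, CommRingCat.hom_ofHom, RingHom.comp_apply]
  rw [RelProj.Localize.map_fromZero]
  exact congrArg _ (Subtype.ext (hγ a))

variable {𝒮 Sh 𝒮' Sh' : RelProj.QCGrAlg Y} {ι : 𝒮.toQCAlg ⟶ Sh.toQCAlg}
  {z : Sh.presheaf.obj (op ⊤)} (h : RelCone.IsPolyOver 𝒮 Sh ι z)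
  {ι' : 𝒮'.toQCAlg ⟶ Sh'.toQCAlg} {z' : Sh'.presheaf.obj (op ⊤)} (h' : RelCone.IsPolyOver 𝒮' Sh' ι' z')
  {T : ∀ V : Y.affineOpens, 𝒮.presheaf.obj (op V.1) → 𝒮'.presheaf.obj (op V.1) → Prop} (hT : Fam 𝒮 𝒮' T)

variable {V : Y.affineOpens} {t : 𝒮.presheaf.obj (op V.1)} {t' : 𝒮'.presheaf.obj (op V.1)}

/-- The underlying ring homomorphism of the exchange. -/
def gamHom (ht : T V t t') : Sh'.presheaf.obj (op V.1) →+* Sh.presheaf.obj (op V.1) :=
  (Polynomial.eval₂RingHom ((tw h hT ht).toRingHom : 𝒮'.presheaf.obj (op V.1) →+* Sh.presheaf.obj (op V.1))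
    (ιG h V t)).comp (RingEquiv.ofBijective _ (hbij h' V)).symm.toRingHom

theorem gamHom_ι (ht : T V t t') (a : 𝒮'.presheaf.obj (op V.1)) :
    gamHom h h' hT ht (ιG h' V a) = tw h hT ht a := by
  change Polynomial.eval₂RingHom _ _ ((RingEquiv.ofBijective _ (hbij h' V)).symm (ιG h' V a)) = _
  rw [FrameRing.ofBij_symm _ (hbij h' V) (x := Polynomial.C a) (by simp)]
  simp

theorem gamHom_z (ht : T V t t') : gamHom h h' hT ht (RelCone.restrictTop Sh' z' V.1) = ιG h V t := by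
  change Polynomial.eval₂RingHom _ _ ((RingEquiv.ofBijective _ (hbij h' V)).symm (RelCone.restrictTop Sh' z' V.1)) = _
  rw [FrameRing.ofBij_symm _ (hbij h' V) (x := Polynomial.X) (by simp)]
  simp

/-- The exchange over a frame. -/
def gam (ht : T V t t') : Sh'.deg V.1 V.2 →+*ᵍ Sh.deg V.1 V.2 where
  __ := gamHom h h' hT ht
  map_mem := by
    intro k x hx
    obtain ⟨a, ha, -, rfl⟩ := PolyGr.exists_coeff (ιG h' V) _ (h'.deg_z V.1 V.2) (hbij h' V) hx
    change gamHom h h' hT ht (∑ i ∈ Finset.range (k + 1), ιG h' V (a i) * RelCone.restrictTop Sh' z' V.1 ^ (k - i))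
      ∈ Sh.deg V.1 V.2 k
    rw [map_sum]
    refine sum_mem fun i hi => ?_
    rw [map_mul, map_pow, gamHom_ι, gamHom_z]
    have hik : i ≤ k := by simp only [Finset.mem_range] at hi; omega
    have hm := SetLike.mul_mem_graded ((tw h hT ht).map_mem (ha i))
      (SetLike.pow_mem_graded (k - i) (FrameSpec.ιt_mem h hT ht))
    rw [smul_eq_mul, mul_one, Nat.add_sub_cancel' hik] at hm
    exact hm

theorem gam_ι (ht : T V t t') (a : 𝒮'.presheaf.obj (op V.1)) : gam h h' hT ht (ιG h' V a) = tw h hT ht a :=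
  gamHom_ι h h' hT ht a

theorem gam_z (ht : T V t t') : gam h h' hT ht (RelCone.restrictTop Sh' z' V.1) = ιG h V t :=
  gamHom_z h h' hT ht

theorem gam_str (ht : T V t t') (r : Γ(Y, V.1)) :
    gam h h' hT ht ((Sh'.str.app (op V.1)).hom r) = (Sh.str.app (op V.1)).hom r := by
  rw [← FrameSpec.ιG_str h' V r, gam_ι, FrameSpec.tw_str]

theorem gam_gam (ht : T V t t') (x : Sh.presheaf.obj (op V.1)) :
    gam h h' hT ht (gam h' h hT.swap (V := V) (t := t') (t' := t) ht x) = x := by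
  refine RingHom.congr_fun (FrameRing.coneExt (ιG h V) (hbij h V) (hT.fr V t t' ht)
    ((gam h h' hT ht).toRingHom.comp (gam h' h hT.swap (V := V) (t := t') (t' := t) ht).toRingHom)
    (RingHom.id _) (fun r => ?_) ?_ ?_) x
  · change gam h h' hT ht (gam h' h hT.swap ht (ιG h V ((𝒮.str.app (op V.1)).hom r))) = _
    rw [FrameSpec.ιG_str, gam_str, gam_str]
    rfl
  · change gam h h' hT ht (gam h' h hT.swap ht (ιG h V t)) = _
    rw [gam_ι, FrameSpec.tw_t, gam_z]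
    rfl
  · change gam h h' hT ht (gam h' h hT.swap ht (RelCone.restrictTop Sh z V.1)) = _
    rw [gam_z, gam_ι, FrameSpec.tw_t]
    rfl

theorem irr (ht : T V t t') : (Sh.deg V.1 V.2)₊ ≤ ((Sh'.deg V.1 V.2)₊).map (gam h h' hT ht) := by
  refine (HomogeneousIdeal.irrelevant_le _).mpr fun i hi x hx => ?_
  have hy : gam h' h hT.swap (V := V) (t := t') (t' := t) ht x ∈ Sh'.deg V.1 V.2 i :=
    (gam h' h hT.swap ht).map_mem hx
  have hm : gam h h' hT ht (gam h' h hT.swap (V := V) (t := t') (t' := t) ht x) ∈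
      ((Sh'.deg V.1 V.2)₊).map (gam h h' hT ht) :=
    Ideal.mem_map_of_mem _ (HomogeneousIdeal.mem_irrelevant_of_mem _ hi hy)
  rwa [gam_gam] at hm

theorem gam_res (ht : T V t t') {D : Y.affineOpens} (hD : Groth.Agent.H81.RelProj.RelTilde.Rel D V) :
    (Sh.res V.2 D.2 hD.le).comp (gam h h' hT ht) =
      (gam h h' hT (hT.res D V hD t t' ht)).comp (Sh'.res V.2 D.2 hD.le) := by
  refine GradedRingHom.ext fun x => ?_
  refine RingHom.congr_fun (FrameRing.coneExt (ιG h' V) (hbij h' V) (hT.fr' V t t' ht)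
    ((Sh.res V.2 D.2 hD.le).toRingHom.comp (gam h h' hT ht).toRingHom)
    ((gam h h' hT (hT.res D V hD t t' ht)).toRingHom.comp (Sh'.res V.2 D.2 hD.le).toRingHom)
    (fun r => ?_) ?_ ?_) x
  · change Sh.res V.2 D.2 hD.le (gam h h' hT ht (ιG h' V ((𝒮'.str.app (op V.1)).hom r))) =
      gam h h' hT (hT.res D V hD t t' ht) (Sh'.res V.2 D.2 hD.le (ιG h' V ((𝒮'.str.app (op V.1)).hom r)))
    rw [FrameSpec.ιG_str, gam_str]
    refine (RelProj.Chart.str_res Sh hD.le r).trans ?_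
    refine Eq.trans ?_ (congrArg (gam h h' hT (hT.res D V hD t t' ht)) (RelProj.Chart.str_res Sh' hD.le r).symm)
    exact (gam_str h h' hT (hT.res D V hD t t' ht) _).symm
  · change Sh.res V.2 D.2 hD.le (gam h h' hT ht (ιG h' V t')) =
      gam h h' hT (hT.res D V hD t t' ht) (Sh'.res V.2 D.2 hD.le (ιG h' V t'))
    rw [gam_ι, FrameSpec.tw_res h hT ht hD,
      ← RelProj.RelComap.gradedHomAt_res ι' h'.graded V.2 D.2 hD.le t', gam_ι]
  · change Sh.res V.2 D.2 hD.le (gam h h' hT ht (RelCone.restrictTop Sh' z' V.1)) =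
      gam h h' hT (hT.res D V hD t t' ht) (Sh'.res V.2 D.2 hD.le (RelCone.restrictTop Sh' z' V.1))
    rw [gam_z]
    refine Eq.trans ?_ (congrArg (gam h h' hT (hT.res D V hD t t' ht)) (Frames.res_res Sh' hD.le z').symm)
    exact (RelProj.RelComap.gradedHomAt_res ι h.graded V.2 D.2 hD.le t).symm.trans
      (gam_z h h' hT (hT.res D V hD t t' ht)).symm

theorem gam_scale (ht : T V t t') {s : 𝒮.presheaf.obj (op V.1)} {s' : 𝒮'.presheaf.obj (op V.1)} (hs : T V s s')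
    {v : Γ(Y, V.1)} (hv : s = (𝒮.str.app (op V.1)).hom v * t) (hv' : (𝒮'.str.app (op V.1)).hom v * s' = t')
    (k : ℕ) (x : Sh'.presheaf.obj (op V.1)) (hx : x ∈ Sh'.deg V.1 V.2 k) :
    gam h h' hT hs x = (Sh.str.app (op V.1)).hom v ^ k * gam h h' hT ht x := by
  obtain ⟨a, ha, -, rfl⟩ := PolyGr.exists_coeff (ιG h' V) _ (h'.deg_z V.1 V.2) (hbij h' V) hx
  rw [map_sum, map_sum, Finset.mul_sum]
  refine Finset.sum_congr rfl fun i hi => ?_
  have hik : i ≤ k := by simp only [Finset.mem_range] at hi; omega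
  have e : ιG h V s = (Sh.str.app (op V.1)).hom v * ιG h V t := by rw [hv, map_mul, FrameSpec.ιG_str]
  rw [map_mul (gam h h' hT hs), map_pow (gam h h' hT hs), map_mul (gam h h' hT ht), map_pow (gam h h' hT ht),
    gam_ι, gam_ι, gam_z, gam_z, FrameSpec.tw_scale h hT ht hs hv' i _ (ha i), e, mul_pow,
    ← Nat.add_sub_cancel' hik, pow_add, Nat.add_sub_cancel_left]
  ring

variable {PC PC' : Scheme.{u}} (pC : PC ⟶ Y)
  (chartC : ∀ (U : Y.Opens) (hU : IsAffineOpen U), (((pC ⁻¹ᵁ U : PC.Opens) : Scheme.{u}) ≅ Proj (Sh.deg U hU)))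
  (hPC : RelProj.IsRelProj Sh pC chartC) (pC' : PC' ⟶ Y)
  (chartC' : ∀ (U : Y.Opens) (hU : IsAffineOpen U), (((pC' ⁻¹ᵁ U : PC'.Opens) : Scheme.{u}) ≅ Proj (Sh'.deg U hU)))
  (hPC' : RelProj.IsRelProj Sh' pC' chartC')

/-- The morphism over a frame. -/
def mor (ht : T V t t') : Proj (Sh.deg V.1 V.2) ⟶ PC' :=
  Proj.map (gam h h' hT ht) (irr h h' hT ht) ≫ RelProj.emb pC' chartC' V.1 V.2

include hPC' in
theorem mor_res (ht : T V t t') {D : Y.affineOpens} (hD : Groth.Agent.H81.RelProj.RelTilde.Rel D V) :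
    Proj.map (Sh.res V.2 D.2 hD.le) (RelProj.RelTilde.irr Sh hD) ≫ mor h h' hT pC' chartC' ht =
      mor h h' hT pC' chartC' (hT.res D V hD t t' ht) := by
  simp only [mor]
  rw [← RelProj.RelTilde.map_emb hPC' hD, ← Category.assoc, ← Category.assoc, ← Proj.map_comp, ← Proj.map_comp]
  congr 1
  congr 1
  exact gam_res h h' hT ht hD

theorem mor_same (ht : T V t t') {s : 𝒮.presheaf.obj (op V.1)} {s' : 𝒮'.presheaf.obj (op V.1)} (hs : T V s s') :
    mor h h' hT pC' chartC' hs = mor h h' hT pC' chartC' ht := by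
  obtain ⟨v, hv, hv'⟩ := hT.scale ht hs
  simp only [mor]
  rw [FrameRing.map_eq_of_scale (gam h h' hT ht) (gam h h' hT hs) (Sh.str_mem V.1 V.2 v)
    (gam_scale h h' hT ht hs hv hv') (irr h h' hT ht) (irr h h' hT hs)]

include hPC hPC' in
theorem exists_hom : ∃ Φ : PC ⟶ PC', Φ ≫ pC' = pC ∧ ∀ (V : Y.affineOpens) (t : _) (t' : _) (ht : T V t t'),
    RelProj.emb pC chartC V.1 V.2 ≫ Φ = mor h h' hT pC' chartC' ht := by
  obtain ⟨g, hg⟩ := Frames.exists_glue pC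
    (T := fun V => {x : 𝒮.presheaf.obj (op V.1) × 𝒮'.presheaf.obj (op V.1) // T V x.1 x.2})
    (fun y => by
      obtain ⟨V, t, t', hy, ht⟩ := hT.cover y
      exact ⟨V, hy, ⟨⟨(t, t'), ht⟩⟩⟩)
    (fun {D V} hD a => ⟨(_, _), hT.res D V hD a.1.1 a.1.2 a.2⟩)
    (fun V a => (chartC V.1 V.2).hom ≫ mor h h' hT pC' chartC' a.2)
    (fun {D V} hD a => by
      rw [← mor_res h h' hT pC' chartC' hPC' a.2 hD, ← Category.assoc, ← Category.assoc]
      congr 1
      rw [← cancel_mono (RelProj.emb pC chartC V.1 V.2), Category.assoc, Category.assoc,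
        RelProj.RelTilde.map_emb hPC hD, RelProj.emb, RelProj.emb, Iso.hom_inv_id_assoc, Iso.hom_inv_id_assoc,
        Scheme.homOfLE_ι])
    (fun V a b => by rw [mor_same h h' hT pC' chartC' b.2 a.2])
  have hemb : ∀ (V : Y.affineOpens) (t : _) (t' : _) (ht : T V t t'),
      RelProj.emb pC chartC V.1 V.2 ≫ g = mor h h' hT pC' chartC' ht := fun V t t' ht => by
    rw [RelProj.emb, Category.assoc, hg V ⟨(t, t'), ht⟩, Iso.inv_hom_id_assoc]
  refine ⟨g, ?_, hemb⟩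
  refine Frames.hom_ext pC (T := fun V => ∃ t t', T V t t')
    (fun y => by
      obtain ⟨V, t, t', hy, ht⟩ := hT.cover y
      exact ⟨V, hy, t, t', ht⟩) fun V ⟨t, t', ht⟩ => ?_
  rw [← Category.assoc, hg V ⟨(t, t'), ht⟩, ← hPC.chart_over V.1 V.2, Category.assoc]
  congr 1
  simp only [mor, RelProj.emb, Category.assoc]
  rw [← hPC'.chart_over V.1 V.2, Iso.inv_hom_id_assoc]
  have e := map_chartStr (𝒜 := Sh') (ℬ := Sh) V.2 (gam h h' hT ht) (gam_str h h' hT ht) (irr h h' hT ht)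
  simpa only [chartStr, Category.assoc] using e =≫ V.2.fromSpec

include hPC hPC' hT h h' in
theorem preimage_eq (Φ : PC ⟶ PC') (hover : Φ ≫ pC' = pC)
    (hΦ : ∀ (V : Y.affineOpens) (t : _) (t' : _) (ht : T V t t'),
      RelProj.emb pC chartC V.1 V.2 ≫ Φ = mor h h' hT pC' chartC' ht)
    (i' : 𝒮'.toQCAlg.spec ⟶ PC') (hi' : RelCone.IsConeImm 𝒮' h' pC' chartC' i') :
    Φ.base ⁻¹' Set.range i'.base = (RelCone.pointedProjCone 𝒮 h pC chartC : Set PC) := by
  ext x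
  obtain ⟨V, t, t', hxV, ht⟩ := hT.cover (pC x)
  obtain ⟨y, rfl⟩ : x ∈ (RelProj.emb pC chartC V.1 V.2).opensRange := by
    rw [RelProj.RelTilde.opensRange_emb]; exact hxV
  rw [Set.mem_preimage, ← Scheme.Hom.comp_apply, hΦ V t t' ht, mor, Scheme.Hom.comp_apply]
  refine (Infinity.mem_range_iConeImm h' pC' chartC' hPC' i' hi' V.1 V.2 _).trans ?_
  refine Iff.trans ?_ ((Infinity.mem_pointedProjCone_iff h pC chartC hPC V.1 V.2 y).trans
    (FrameRing.dom_iff (ιG h V) (hT.fr V t t' ht) y)).symm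
  change gam h h' hT ht (RelCone.restrictTop Sh' z' V.1) ∉ (ProjectiveSpectrum.asHomogeneousIdeal (𝒜 := Sh.deg V.1 V.2) y) ↔ _
  rw [gam_z]

include hPC hPC' in
theorem main (h0 : RelCone.StrZeroBij 𝒮) (h0' : RelCone.StrZeroBij 𝒮') (hT : Fam 𝒮 𝒮' T)
    (aug : 𝒮.toQCAlg ⟶ RelSpec.QCAlg.unit Y) (haug : RelCone.IsAugmentation 𝒮 aug)
    (ε : Y ⟶ 𝒮.toQCAlg.spec) (hε : RelCone.IsVertex 𝒮 aug ε)
    (i : 𝒮.toQCAlg.spec ⟶ PC) (hi : RelCone.IsConeImm 𝒮 h pC chartC i)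
    (aug' : 𝒮'.toQCAlg ⟶ RelSpec.QCAlg.unit Y) (haug' : RelCone.IsAugmentation 𝒮' aug')
    (ε' : Y ⟶ 𝒮'.toQCAlg.spec) (hε' : RelCone.IsVertex 𝒮' aug' ε')
    (i' : 𝒮'.toQCAlg.spec ⟶ PC') (hi' : RelCone.IsConeImm 𝒮' h' pC' chartC' i') :
    ∃ Φ : PC ≅ PC', Φ.hom ≫ pC' = pC ∧
      Φ.hom.base '' Set.range (ε ≫ i).base = (Set.range i'.base)ᶜ ∧
        Φ.hom.base '' (Set.range i.base)ᶜ = Set.range (ε' ≫ i').base := by
  obtain ⟨Φ, hΦo, hΦ⟩ := exists_hom h h' hT pC chartC hPC pC' chartC' hPC'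
  obtain ⟨Ψ, hΨo, hΨ⟩ := exists_hom h' h hT.swap pC' chartC' hPC' pC chartC hPC
  have hid : Φ ≫ Ψ = 𝟙 PC := by
    refine Frames.hom_ext pC (T := fun V => ∃ t t', T V t t')
      (fun y => by
        obtain ⟨V, t, t', hy, ht⟩ := hT.cover y
        exact ⟨V, hy, t, t', ht⟩) fun V ⟨t, t', ht⟩ => ?_
    rw [← cancel_epi (chartC V.1 V.2).inv, ← Category.assoc, ← Category.assoc, Category.comp_id]
    change RelProj.emb pC chartC V.1 V.2 ≫ Φ ≫ Ψ = RelProj.emb pC chartC V.1 V.2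
    rw [reassoc_of% (hΦ V t t' ht), mor, Category.assoc, hΨ V t' t ht, mor, ← Category.assoc, ← Proj.map_comp,
      map_eq_id _ _ (gam_gam h h' hT ht), Category.id_comp]
  have hid' : Ψ ≫ Φ = 𝟙 PC' := by
    refine Frames.hom_ext pC' (T := fun V => ∃ t t', T V t t')
      (fun y => by
        obtain ⟨V, t, t', hy, ht⟩ := hT.cover y
        exact ⟨V, hy, t, t', ht⟩) fun V ⟨t, t', ht⟩ => ?_
    rw [← cancel_epi (chartC' V.1 V.2).inv, ← Category.assoc, ← Category.assoc, Category.comp_id]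
    change RelProj.emb pC' chartC' V.1 V.2 ≫ Ψ ≫ Φ = RelProj.emb pC' chartC' V.1 V.2
    rw [reassoc_of% (hΨ V t' t ht), mor, Category.assoc, hΦ V t t' ht, mor, ← Category.assoc, ← Proj.map_comp,
      map_eq_id _ _ (gam_gam h' h hT.swap ht), Category.id_comp]
  have hl : Function.LeftInverse Ψ.base Φ.base := fun x => by
    rw [← Scheme.Hom.comp_apply, hid]; rfl
  have hr : Function.RightInverse Ψ.base Φ.base := fun x => by
    rw [← Scheme.Hom.comp_apply, hid']; rfl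
  have himg : Set.image Φ.base = Set.preimage Ψ.base := Set.image_eq_preimage_of_inverse hl hr
  refine ⟨⟨Φ, Ψ, hid, hid'⟩, hΦo, ?_, ?_⟩
  · change Φ.base '' _ = _
    rw [← compl_compl (Set.range (ε ≫ i).base), ← Infinity.pointedProjCone_eq h pC chartC hPC h0 haug hε i hi,
      Set.image_compl_eq ⟨hl.injective, hr.surjective⟩,
      ← preimage_eq h h' hT pC chartC hPC pC' chartC' hPC' Φ hΦo hΦ i' hi', Set.image_preimage_eq _ hr.surjective]
  · change Φ.base '' _ = _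
    rw [himg, Set.preimage_compl, preimage_eq h' h hT.swap pC' chartC' hPC' pC chartC hPC Ψ hΨo hΨ i hi,
      Infinity.pointedProjCone_eq h' pC' chartC' hPC' h0' haug' hε' i' hi', compl_compl]

end

end Groth.Agent.H81.Cone.Swap
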