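import Groth.Agent.H81.Cone.ConeImm

/-!
# A quasi-coherent algebra placed in degree zero
-/

set_option autoImplicit false
universe u

open CategoryTheory AlgebraicGeometry TopologicalSpace Opposite DirectSum

namespace Groth.Agent.H81.Cone.Trivial

noncomputable section

/-- Everything in degree zero. -/
def triv (A : Type u) [CommRing A] (d : ℕ) : AddSubgroup A := if d = 0 then ⊤ else ⊥

theorem mem_zero {A : Type u} [CommRing A] (a : A) : a ∈ triv A 0 := by simp [triv]

theorem eq_zero_of_mem {A : Type u} [CommRing A] {d : ℕ} (hd : d ≠ 0) {a : A} (h : a ∈ triv A d) : a = 0 := by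
  simpa [triv, hd] using h

instance gradedRing (A : Type u) [CommRing A] : GradedRing (triv A) where
  one_mem := mem_zero 1
  mul_mem i j x y hx hy := by
    rcases Nat.eq_zero_or_pos i with rfl | hi
    · rcases Nat.eq_zero_or_pos j with rfl | hj
      · exact mem_zero _
      · rw [eq_zero_of_mem hj.ne' hy, mul_zero]; exact zero_mem _
    · rw [eq_zero_of_mem hi.ne' hx, zero_mul]; exact zero_mem _
  decompose' a := DirectSum.of (fun d => triv A d) 0 ⟨a, mem_zero a⟩
  left_inv a := DirectSum.coeAddMonoidHom_of _ 0 _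
  right_inv x := by
    have hadd : ∀ a b : A, DirectSum.of (fun d => triv A d) 0 ⟨a + b, mem_zero _⟩ =
        DirectSum.of (fun d => triv A d) 0 ⟨a, mem_zero a⟩ + DirectSum.of (fun d => triv A d) 0 ⟨b, mem_zero b⟩ :=
      fun a b => by rw [← map_add]; rfl
    induction x using DirectSum.induction_on with
    | zero => simp only [map_zero]; exact map_zero _
    | of i m =>
      rw [DirectSum.coeAddMonoidHom_of]
      rcases Nat.eq_zero_or_pos i with rfl | hi
      · rfl
      · have hm : m = 0 := Subtype.ext (eq_zero_of_mem hi.ne' m.2)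
        subst hm
        rw [map_zero]
        exact map_zero _
    | add x y hx hy =>
      simp only [map_add]
      rw [hadd]
      exact congrArg₂ (· + ·) hx hy

variable {Y : Scheme.{u}} (𝒜 : RelSpec.QCAlg Y)

/-- `𝒜` in degree zero. -/
def trivGr : RelProj.QCGrAlg Y where
  toQCAlg := 𝒜
  deg U _ := triv (𝒜.presheaf.obj (op U))
  graded U _ := gradedRing _
  map_mem := fun {U V} _ _ i {d x} hx => by
    rcases Nat.eq_zero_or_pos d with rfl | hd
    · exact mem_zero _
    · rw [eq_zero_of_mem hd.ne' hx, map_zero]; exact zero_mem _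
  str_mem U _ r := mem_zero _

theorem isGradedHom {Sh : RelProj.QCGrAlg Y} (ι : 𝒜 ⟶ Sh.toQCAlg)
    (hι : ∀ (U : Y.Opens) (hU : IsAffineOpen U) (a : 𝒜.presheaf.obj (op U)), (ι.hom.app (op U)).hom a ∈ Sh.deg U hU 0) :
    RelProj.IsGradedHom (𝒜 := trivGr 𝒜) ι := fun U hU d x hx => by
  rcases Nat.eq_zero_or_pos d with rfl | hd
  · exact hι U hU x
  · rw [eq_zero_of_mem hd.ne' hx, map_zero]
    exact zero_mem _

theorem irrelevant_eq_bot {U : Y.Opens} (hU : IsAffineOpen U) {a : (trivGr 𝒜).presheaf.obj (op U)}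
    (ha : a ∈ (HomogeneousIdeal.irrelevant ((trivGr 𝒜).deg U hU)).toIdeal) : a = 0 := by
  have h := (HomogeneousIdeal.mem_irrelevant_iff _ a).1 ha
  rw [GradedRing.proj_apply] at h
  have h2 : (DirectSum.decompose ((trivGr 𝒜).deg U hU) a 0 : (trivGr 𝒜).presheaf.obj (op U)) = a :=
    DirectSum.decompose_of_mem_same _ (mem_zero a)
  rw [h2] at h
  exact h

end

end Groth.Agent.H81.Cone.Trivial
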